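import Cfsg.Agent.Lib.AltDegree.Tuples

/-!
The case where two disjoint lifted cycles do not fix each other's moved space.
-/

set_option autoImplicit false

namespace Cfsg.Agent.AltDegree

open Module Equiv

/-- The asserted lower bound in dimension `n`. -/
def Bound (n : ℕ) : Prop :=
  ∀ (k : Type) [Field k] [IsAlgClosed k] [DecidableEq k] (V : Type) [AddCommGroup V] [Module k V]
    [FiniteDimensional k V] (G : Type) [Group G] [Finite G] (r : ℕ) (π : G →* Perm (Fin r))
    (ρ : G →* End k V),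
    9 ≤ r → π.range = alternatingGroup (Fin r) → (∀ g, ρ g = 1 → π g = 1) → finrank k V = n →
    r - 1 - (if (r : k) = 0 then 1 else 0) ≤ n

theorem Bound.le {n : ℕ} (hB : Bound n) {k : Type} [Field k] [IsAlgClosed k] {V : Type}
    [AddCommGroup V] [Module k V] [FiniteDimensional k V] {G : Type} [Group G] [Finite G] {r : ℕ}
    {π : G →* Perm (Fin r)} {ρ : G →* End k V} (h9 : 9 ≤ r)
    (hπ : π.range = alternatingGroup (Fin r)) (hρ : ∀ g, ρ g = 1 → π g = 1)
    (hn : finrank k V = n) : r - 2 ≤ n := by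
  classical
  have := hB k V G r π ρ h9 hπ hρ hn
  split_ifs at this <;> omega

/-- The permutations fixing `S` form an alternating group on the other points. -/
theorem exists_restrict {r : ℕ} (S : Finset (Fin r)) :
    ∃ ψ : fixEven S →* Perm (Fin (r - S.card)),
      Function.Injective ψ ∧ ψ.range = alternatingGroup (Fin (r - S.card)) := by
  classical
  let p : Fin r → Prop := fun i => i ∉ S
  have hcard : Fintype.card {i // p i} = r - S.card := by
    rw [Fintype.card_subtype, show Finset.univ.filter p = Sᶜ by ext; simp [p], Finset.card_compl,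
      Fintype.card_fin]
  let e : {i // p i} ≃ Fin (r - S.card) := Fintype.equivFinOfCardEq hcard
  have h1 : ∀ g : fixEven S, ∀ i, p ((g : Perm (Fin r)) i) ↔ p i := fun g i => not_congr ⟨fun h => by
    have := g.2.2 _ h; rwa [(g : Perm (Fin r)).injective this] at h, fun h => by rwa [g.2.2 i h]⟩
  have h2 : ∀ g : fixEven S, ∀ i, (g : Perm (Fin r)) i ≠ i → p i := fun g i hi h => hi (g.2.2 i h)
  let ψ : fixEven S →* Perm (Fin (r - S.card)) :=
    { toFun := fun g => e.permCongrHom ((g : Perm (Fin r)).subtypePerm (h1 g))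
      map_one' := by
        rw [show ((1 : fixEven S) : Perm (Fin r)).subtypePerm (h1 1) = 1 from Equiv.ext fun x => rfl,
          map_one]
      map_mul' := fun a b => by
        rw [← map_mul]
        rfl }
  refine ⟨ψ, fun a b hab => ?_, ?_⟩
  · have := e.permCongrHom.injective hab
    refine Subtype.ext ?_
    rw [← Perm.ofSubtype_subtypePerm (h1 a) (h2 a), ← Perm.ofSubtype_subtypePerm (h1 b) (h2 b), this]
  · refine le_antisymm ?_ ?_
    · rintro _ ⟨g, rfl⟩
      rw [Perm.mem_alternatingGroup]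
      show Perm.sign (e.permCongr _) = 1
      rw [Perm.sign_permCongr, Perm.sign_subtypePerm _ (h1 g) (h2 g)]
      exact Perm.mem_alternatingGroup.1 g.2.1
    · intro σ hσ
      have hmem : Perm.ofSubtype (e.permCongrHom.symm σ) ∈ fixEven S := by
        refine ⟨?_, fun i hi => Perm.ofSubtype_apply_of_not_mem _ (by simpa [p] using hi)⟩
        rw [Perm.mem_alternatingGroup, Perm.sign_ofSubtype]
        show Perm.sign (e.symm.permCongr σ) = 1
        rw [Perm.sign_permCongr]
        exact Perm.mem_alternatingGroup.1 hσ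
      refine ⟨⟨_, hmem⟩, ?_⟩
      show e.permCongrHom _ = σ
      conv_rhs => rw [← e.permCongrHom.apply_symm_apply σ]
      congr 1
      exact Perm.subtypePerm_ofSubtype _

variable {r l : ℕ} {G : Type} [Group G] [Finite G] {π : G →* Perm (Fin r)} {k : Type} [Field k]
  [IsAlgClosed k] {V : Type} [AddCommGroup V] [Module k V] [FiniteDimensional k V]
  {ρ : G →* End k V}

theorem mov_le_of_eig {g : G} {l : ℕ} (hg : g ^ l = 1) (hl : (l : k) ≠ 0) {W : Submodule k V}
    (hW : ∀ c : k, c ≠ 1 → eig ρ g c ≤ W) : mov ρ g ≤ W := by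
  rw [mov, LinearMap.range_eq_map, ← iSup_eig_eq_top (ρ := ρ) hg hl, Submodule.map_iSup]
  refine iSup_le fun c => ?_
  rintro _ ⟨v, hv, rfl⟩
  rw [LinearMap.sub_apply, End.one_apply, mem_eig.1 hv]
  rcases eq_or_ne c 1 with rfl | hc
  · simp
  · exact W.sub_mem (W.smul_mem c (hW c hc hv)) (hW c hc hv)

namespace Hyp

variable (h : Hyp π ρ)
include h

omit h [Finite G] in
theorem exists_fix_noteq (hl : (l : k) ≠ 0) {g : G} (hg : g ^ l = 1) {v : V}
    (hv : v ∈ mov ρ g) (hv0 : v ≠ 0) : ρ g v ≠ v := fun hh => hv0 <| by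
  have : v ∈ mov ρ g ⊓ fixd ρ g := ⟨hv, mem_fixd.2 hh⟩
  rwa [disjoint_mov_fixd hg hl, Submodule.mem_bot] at this

/-- Passing to the cover of the alternating group on the remaining points. -/
theorem eig_recursion (hl : Odd l) (hl2 : 2 ≤ l) (hlk : (l : k) ≠ 0) (hr : l + 9 ≤ r)
    (hno : ¬ Orth π ρ l) (hB : ∀ m, m < finrank k V → Bound m) :
    ∃ (f : Fin l ↪ Fin r) (c : k), c ≠ 1 ∧ c ^ l = 1 ∧
      (finrank k (eig ρ (L π f) c) < finrank k V → r - l - 2 ≤ finrank k (eig ρ (L π f) c)) := by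
  classical
  simp only [Orth, not_forall] at hno
  obtain ⟨e, f, hd, hno⟩ := hno
  obtain ⟨c, hc, hcno⟩ : ∃ c : k, c ≠ 1 ∧ ¬ eig ρ (L π f) c ≤ fixd ρ (L π e) := by
    by_contra hcon
    push Not at hcon
    exact hno (mov_le_of_eig (h.toExt.L_pow hl hl2 f) hlk hcon)
  obtain ⟨v, hv, hv0⟩ : ∃ v ∈ eig ρ (L π f) c, v ≠ 0 := by
    by_contra hcon
    push Not at hcon
    exact hcno fun v hv => by rw [hcon v hv]; exact zero_mem _
  refine ⟨f, c, hc, eig_root (h.toExt.L_pow hl hl2 f) (mem_eig.1 hv) hv0, fun hlt => ?_⟩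
  let S : Finset (Fin r) := Finset.univ.map f
  have hS : S.card = l := by simp [S]
  let W := eig ρ (L π f) c
  let K : Subgroup G := (fixEven S).comap π
  have hinv : ∀ g ∈ K, g ∈ stab ρ W := fun g hg => mem_stab.2 fun w hw => by
    refine eig_invariant (h.toExt.commute_L_of_fix hl hl2 f fun i => ?_) hw
    exact (Subgroup.mem_comap.1 hg).2 _ (Finset.mem_map_of_mem _ (Finset.mem_univ i))
  let ρ' : K →* End k W :=
    { toFun := fun g => (ρ (g : G)).restrict (mem_stab.1 (hinv g g.2))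
      map_one' := LinearMap.ext fun w => Subtype.ext (by simp)
      map_mul' := fun a b => LinearMap.ext fun w => Subtype.ext (mul_apply' (ρ := ρ) (a : G) b w) }
  obtain ⟨ψ, hψ, hψr⟩ := exists_restrict S
  let π' : K →* Perm (Fin (r - S.card)) := ψ.comp
    ((π.comp K.subtype).codRestrict (fixEven S) fun g => Subgroup.mem_comap.1 g.2)
  have hrange : π'.range = alternatingGroup (Fin (r - S.card)) := by
    rw [← hψr]
    refine le_antisymm (by rintro _ ⟨g, rfl⟩; exact ⟨_, rfl⟩) ?_
    rintro _ ⟨σ, rfl⟩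
    obtain ⟨g, hg⟩ := h.toExt.surj σ.1 σ.2.1
    refine ⟨⟨g, Subgroup.mem_comap.2 (hg ▸ σ.2)⟩, ?_⟩
    show ψ _ = ψ σ
    exact congrArg ψ (Subtype.ext hg)
  refine le_trans (by omega) ((hB _ hlt).le (π := π') (ρ := ρ') (by omega) hrange ?_ rfl)
  intro g hg
  by_contra hne
  have hg1 : π (g : G) ≠ 1 := fun h1 => hne (by
    show ψ _ = 1
    have h2 : ((π.comp K.subtype).codRestrict (fixEven S) fun g => Subgroup.mem_comap.1 g.2) g = 1 :=
      Subtype.ext h1
    exact (congrArg ψ h2).trans (map_one ψ))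
  have hgfix : (g : G) ∈ fixer ρ W := fun w hw =>
    congrArg Subtype.val (LinearMap.congr_fun hg ⟨w, hw⟩)
  have hle := h.fixEven_le_fixer (S := S) (by omega)
    (fun g' hg' => hinv g' (Subgroup.mem_comap.2 hg')) hgfix (Subgroup.mem_comap.1 g.2) hg1
  have he := h.L_mem_of_map hl hl2 (hle (cyc_mem_fixEven e hl fun i hi => by
    obtain ⟨j, -, hj⟩ := Finset.mem_map.1 hi
    exact hd i j hj.symm))
  exact hcno (mem_fixer_iff_le.1 he)

theorem recursion_three (h3 : (3 : k) ≠ 0) (hr : 12 ≤ r) (hno : ¬ Orth π ρ 3)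
    (hB : ∀ m, m < finrank k V → Bound m) : 2 * (r - 5) ≤ finrank k V := by
  have hl : ((3 : ℕ) : k) ≠ 0 := by exact_mod_cast h3
  haveI : NeZero ((3 : ℕ) : k) := ⟨hl⟩
  obtain ⟨ω, hω⟩ := HasEnoughRootsOfUnity.exists_primitiveRoot k 3
  obtain ⟨f, c, hc, hc3, hd⟩ := h.eig_recursion (by decide : Odd 3) (by decide) hl (by omega) hno hB
  obtain ⟨i, hi, rfl⟩ := hω.eq_pow_of_pow_eq_one hc3
  obtain ⟨hm, he⟩ := h.finrank_mov_three hω h3 (by omega) f
  have hn := Submodule.finrank_le (mov ρ (L π f))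
  have heq : finrank k (eig ρ (L π f) (ω ^ i)) = finrank k (eig ρ (L π f) ω) := by
    interval_cases i
    · simp at hc
    · rw [pow_one]
    · exact he
  rw [heq] at hd
  have hpos : finrank k (mov ρ (L π f)) ≠ 0 := fun h0 =>
    h.mov_L_ne_bot (by decide) (by decide) f (Submodule.finrank_eq_zero.1 h0)
  have := hd (by omega)
  omega

theorem recursion_five (h5 : (5 : k) ≠ 0) (hr : 14 ≤ r) (hno : ¬ Orth π ρ 5)
    (hB : ∀ m, m < finrank k V → Bound m) : 4 * (r - 7) ≤ finrank k V := by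
  have hl : ((5 : ℕ) : k) ≠ 0 := by exact_mod_cast h5
  haveI : NeZero ((5 : ℕ) : k) := ⟨hl⟩
  obtain ⟨ω, hω⟩ := HasEnoughRootsOfUnity.exists_primitiveRoot k 5
  obtain ⟨f, c, hc, hc5, hd⟩ := h.eig_recursion (by decide : Odd 5) (by decide) hl (by omega) hno hB
  obtain ⟨i, hi, rfl⟩ := hω.eq_pow_of_pow_eq_one hc5
  obtain ⟨hm, he⟩ := h.finrank_mov_five hω h5 (by omega) f
  have hn := Submodule.finrank_le (mov ρ (L π f))
  have heq : finrank k (eig ρ (L π f) (ω ^ i)) = finrank k (eig ρ (L π f) ω) := by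
    refine he i fun hdvd => hc ?_
    rw [show i = 0 by omega, pow_zero]
  rw [heq] at hd
  have hpos : finrank k (mov ρ (L π f)) ≠ 0 := fun h0 =>
    h.mov_L_ne_bot (by decide) (by decide) f (Submodule.finrank_eq_zero.1 h0)
  have := hd (by omega)
  omega

omit [Finite G] in
/-- Few dimensions force disjoint five-cycles to fix each other's moved space. -/
theorem orth_five (h5 : (5 : k) ≠ 0) (hn : finrank k V < 16) : Orth π ρ 5 := by
  classical
  have hl : ((5 : ℕ) : k) ≠ 0 := by exact_mod_cast h5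
  haveI : NeZero ((5 : ℕ) : k) := ⟨hl⟩
  obtain ⟨ω, hω⟩ := HasEnoughRootsOfUnity.exists_primitiveRoot k 5
  intro e f hd
  by_contra hno
  let F : Fin 2 × Fin 5 ↪ Fin r := ⟨fun x => if x.1 = 0 then e x.2 else f x.2, by
    rintro ⟨b, i⟩ ⟨c, j⟩ hh
    fin_cases b <;> fin_cases c <;> simp at hh
    · rw [hh]
    · exact absurd hh (hd i j)
    · exact absurd hh.symm (hd j i)
    · rw [hh]⟩
  have h0 : blk F 0 = e := Function.Embedding.ext fun i => rfl
  have h1 : blk F 1 = f := Function.Embedding.ext fun i => rfl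
  let W := mov ρ (L π e) ⊓ mov ρ (L π f)
  have hcomm := h.L_commute_of_disjoint (by decide : Odd 5) (by decide) (by decide : Odd 5) (by decide) hd
  have hW : W ≠ ⊥ := by
    intro hbot
    apply hno
    intro w hw
    have h2 : ρ (L π e) w - w ∈ W :=
      ⟨sub_mem_mov _ _, Submodule.sub_mem _ (mov_invariant hcomm.symm hw) hw⟩
    rw [hbot, Submodule.mem_bot, sub_eq_zero] at h2
    exact mem_fixd.2 h2
  have hinv : ∀ b, ∀ w ∈ W, ρ (L π (blk F b)) w ∈ W := by
    intro b w hw
    fin_cases b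
    · show ρ (L π (blk F 0)) w ∈ W
      rw [h0]; exact ⟨mov_invariant (Commute.refl _) hw.1, mov_invariant hcomm.symm hw.2⟩
    · show ρ (L π (blk F 1)) w ∈ W
      rw [h1]; exact ⟨mov_invariant hcomm hw.1, mov_invariant (Commute.refl _) hw.2⟩
  obtain ⟨t, v, hvW, hv0, hv⟩ := h.exists_occ_mem (by decide : Odd 5) (by decide) hω F hW hinv
  have hP : Occ π ρ ω F ![t 0, t 1] := ⟨v, hv0, fun b => by fin_cases b <;> exact hv _⟩
  have hne : t 0 ≠ 0 ∧ t 1 ≠ 0 := by
    constructor <;> intro h00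
    · refine exists_fix_noteq hl (h.toExt.L_pow (by decide) (by decide) e) hvW.1 hv0 ?_
      rw [← h0, hv 0, h00]; simp
    · refine exists_fix_noteq hl (h.toExt.L_pow (by decide) (by decide) f) hvW.2 hv0 ?_
      rw [← h1, hv 1, h00]; simp
  let P : Fin 5 × Fin 5 → Prop := fun x => Occ π ρ ω F ![x.1, x.2]
  have hmoves : ∀ g ∈ Tuples.moves5, ∀ x, P x → P (g x) := by
    intro g hg x hx
    simp only [Tuples.moves5, List.mem_cons, List.not_mem_nil, or_false] at hg
    rcases hg with rfl | rfl | rfl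
    · exact h.occ_step (by decide) (by decide) hω F
        ⟨fun y => (y.1, 2 * y.2), fun y => (y.1, 3 * y.2), by decide, by decide⟩ (by decide +kernel)
        id Function.bijective_id (fun _ => 2) (fun _ => 3) (by decide) (by decide +kernel) hx _
        (fun b => by fin_cases b <;> simp [Fin.val_mul])
    · exact h.occ_step (by decide) (by decide) hω F
        ⟨fun y => (y.1, if y.1 = 0 then 4 * y.2 else y.2),
          fun y => (y.1, if y.1 = 0 then 4 * y.2 else y.2), by decide, by decide⟩ (by decide +kernel)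
        id Function.bijective_id ![4, 1] ![4, 1] (by decide) (by decide +kernel) hx _
        (fun b => by fin_cases b <;> simp [Fin.val_mul, Nat.mod_eq_of_lt x.2.2])
    · exact h.occ_step (by decide) (by decide) hω F
        ⟨fun y => (y.1 + 1, if y.1 = 0 then y.2 else 2 * y.2),
          fun y => (y.1 + 1, if y.1 = 1 then y.2 else 3 * y.2), by decide, by decide⟩ (by decide +kernel)
        (fun b => b + 1) (by decide) ![1, 2] ![1, 3] (by decide) (by decide +kernel) hx _
        (fun b => by fin_cases b <;> simp [Fin.val_mul, Nat.mod_eq_of_lt x.1.2])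
  have hall := orb_induction Tuples.moves5 hmoves 5 {(t 0, t 1)}
    (fun x hx => by rw [Finset.mem_singleton.1 hx]; exact hP)
  have hcard := Tuples.orbit5 (t 0, t 1) hne.1 hne.2
  have hle := h.card_occ_le hω F ((orb Tuples.moves5 5 {(t 0, t 1)}).image fun x => ![x.1, x.2])
    (fun s hs => by obtain ⟨x, hx, rfl⟩ := Finset.mem_image.1 hs; exact hall x hx)
  rw [Finset.card_image_of_injective _ (fun a b hab => Prod.ext (congrFun hab 0) (congrFun hab 1))] at hle
  omega

omit [Finite G] in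
/-- In at most nine dimensions, a non-orthogonal pair of three-cycles forces dimension at least eight and
fixed-point-free three-cycles. -/
theorem three_small (h3 : (3 : k) ≠ 0) (hno : ¬ Orth π ρ 3) (hn : finrank k V ≤ 9) :
    8 ≤ finrank k V ∧ ∀ e : Fin 3 ↪ Fin r, fixd ρ (L π e) = ⊥ := by
  classical
  have h9 := h.nine
  have ho : Odd 3 := by decide
  have h32 : 2 ≤ 3 := by decide
  have hl : ((3 : ℕ) : k) ≠ 0 := by exact_mod_cast h3
  haveI : NeZero ((3 : ℕ) : k) := ⟨hl⟩
  obtain ⟨ω, hω⟩ := HasEnoughRootsOfUnity.exists_primitiveRoot k 3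
  simp only [Orth, not_forall] at hno
  obtain ⟨e, f, hd, hno⟩ := hno
  obtain ⟨e', he'⟩ := exists_emb (S := (Finset.univ.map e ∪ Finset.univ.map f)ᶜ) (l := 3) (by
    have h1 := Finset.card_union_le (Finset.univ.map e) (Finset.univ.map f)
    rw [Finset.card_compl, Fintype.card_fin]
    simp only [Finset.card_map, Finset.card_univ, Fintype.card_fin] at h1
    omega)
  simp only [Finset.mem_compl, Finset.mem_union, Finset.mem_map, Finset.mem_univ, true_and, not_or,
    not_exists] at he'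
  let F : Fin 3 × Fin 3 ↪ Fin r := ⟨fun x => if x.1 = 0 then e x.2 else if x.1 = 1 then f x.2 else e' x.2, by
    rintro ⟨b, i⟩ ⟨c, j⟩ hh
    fin_cases b <;> fin_cases c <;> simp at hh
    · rw [hh]
    · exact absurd hh (hd i j)
    · exact absurd hh ((he' j).1 i)
    · exact absurd hh.symm (hd j i)
    · rw [hh]
    · exact absurd hh ((he' j).2 i)
    · exact absurd hh.symm ((he' i).1 j)
    · exact absurd hh.symm ((he' i).2 j)
    · rw [hh]⟩
  have h0 : blk F 0 = e := Function.Embedding.ext fun i => rfl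
  have h1 : blk F 1 = f := Function.Embedding.ext fun i => rfl
  let P : Fin 3 × Fin 3 × Fin 3 → Prop := fun x => Occ π ρ ω F ![x.1, x.2.1, x.2.2]
  have hmoves : ∀ g ∈ Tuples.moves3, ∀ x, P x → P (g x) := by
    intro g hg x hx
    simp only [Tuples.moves3, List.mem_cons, List.not_mem_nil, or_false] at hg
    rcases hg with rfl | rfl | rfl
    · exact h.occ_step ho h32 hω F
        ⟨fun y => (y.1, if y.1 = 2 then y.2 else 2 * y.2), fun y => (y.1, if y.1 = 2 then y.2 else 2 * y.2),
          by decide, by decide⟩ (by decide +kernel)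
        id Function.bijective_id ![2, 2, 1] ![2, 2, 1] (by decide) (by decide +kernel) hx _
        (fun b => by fin_cases b <;> simp [Fin.val_mul, Nat.mod_eq_of_lt x.2.2.2])
    · exact h.occ_step ho h32 hω F
        ⟨fun y => (y.1 + 1, y.2), fun y => (y.1 + 2, y.2), by decide, by decide⟩ (by decide +kernel)
        (fun b => b + 1) (by decide) ![1, 1, 1] ![1, 1, 1] (by decide) (by decide +kernel) hx _
        (fun b => by fin_cases b <;>
          simp [Nat.mod_eq_of_lt x.1.2, Nat.mod_eq_of_lt x.2.1.2, Nat.mod_eq_of_lt x.2.2.2])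
    · exact h.occ_step ho h32 hω F
        ⟨fun y => if y.1 = 2 then (y.1, 2 * y.2) else (1 - y.1, y.2),
          fun y => if y.1 = 2 then (y.1, 2 * y.2) else (1 - y.1, y.2), by decide, by decide⟩ (by decide +kernel)
        ![1, 0, 2] (by decide) ![1, 1, 2] ![1, 1, 2] (by decide) (by decide +kernel) hx _
        (fun b => by fin_cases b <;>
          simp [Fin.val_mul, Nat.mod_eq_of_lt x.1.2, Nat.mod_eq_of_lt x.2.1.2])
  have hP : ∀ {t : Fin 3 → Fin 3}, Occ π ρ ω F t → P (t 0, t 1, t 2) := fun {t} ⟨v, hv0, hv⟩ =>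
    ⟨v, hv0, fun b => by fin_cases b <;> exact hv _⟩
  have horb : ∀ x, P x → ∀ y ∈ orb Tuples.moves3 6 {x}, P y ∧ Tuples.weight y = Tuples.weight x := by
    intro x hx
    refine orb_induction Tuples.moves3 (P := fun y => P y ∧ Tuples.weight y = Tuples.weight x)
      (fun g hg y hy => ⟨hmoves g hg y hy.1, (Tuples.weight_moves3 g hg y).trans hy.2⟩) 6 _ ?_
    intro y hy; rw [Finset.mem_singleton.1 hy]; exact ⟨hx, rfl⟩
  have hinj : Function.Injective fun x : Fin 3 × Fin 3 × Fin 3 => ![x.1, x.2.1, x.2.2] := fun a b hab =>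
    Prod.ext (congrFun hab 0) (Prod.ext (congrFun hab 1) (congrFun hab 2))
  have hcount : ∀ s : Finset (Fin 3 × Fin 3 × Fin 3), (∀ x ∈ s, P x) → s.card ≤ finrank k V := by
    intro s hs
    have := h.card_occ_le hω F (s.image fun x => ![x.1, x.2.1, x.2.2])
      (fun t ht => by obtain ⟨x, hx, rfl⟩ := Finset.mem_image.1 ht; exact hs x hx)
    rwa [Finset.card_image_of_injective _ hinj] at this
  have hw2 : ∀ x, P x → Tuples.weight x ≠ 2 := fun x hx hw => by
    have := (Tuples.orbit3 x).2.1 hw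
    have := hcount _ fun y hy => (horb x hx y hy).1
    omega
  -- a tuple with all three entries non-zero
  have hcomm : ∀ b c, Commute (L π (blk F b)) (L π (blk F c)) := h.blk_commute ho h32 F
  have hjoint : ∀ W : Submodule k V, W ≠ ⊥ → (∀ b, ∀ w ∈ W, ρ (L π (blk F b)) w ∈ W) →
      ∃ t : Fin 3 → Fin 3, Occ π ρ ω F t ∧ ∀ b, (W ≤ mov ρ (L π (blk F b)) → t b ≠ 0) ∧
        (W ≤ fixd ρ (L π (blk F b)) → t b = 0) := by
    intro W hW hinv
    obtain ⟨t, v, hvW, hv0, hv⟩ := h.exists_occ_mem ho h32 hω F hW hinv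
    refine ⟨t, ⟨v, hv0, hv⟩, fun b => ⟨fun hm ht => ?_, fun hm => ?_⟩⟩
    · refine exists_fix_noteq hl (h.toExt.L_pow ho h32 _) (hm hvW) hv0 ?_
      rw [hv b, ht]; simp
    · have h5 := hv b
      rw [mem_fixd.1 (hm hvW)] at h5
      have h6 : ω ^ (t b : ℕ) = ω ^ ((0 : Fin 3) : ℕ) := by
        rw [show ω ^ ((0 : Fin 3) : ℕ) = 1 by simp]
        exact smul_left_injective k hv0 (show ω ^ (t b : ℕ) • v = (1 : k) • v by rw [one_smul, ← h5])
      exact Fin.ext (hω.pow_inj (t b).2 (by decide) h6)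
  obtain ⟨x₃, hx₃, hwt₃⟩ : ∃ x, P x ∧ Tuples.weight x = 3 := by
    let W := mov ρ (L π (blk F 0)) ⊓ mov ρ (L π (blk F 1))
    have hW : W ≠ ⊥ := by
      intro hbot
      apply hno
      intro w hw
      have h2 : ρ (L π e) w - w ∈ W := by
        refine ⟨h0 ▸ sub_mem_mov _ _, h1 ▸ ?_⟩
        exact Submodule.sub_mem _ (mov_invariant (h0 ▸ h1 ▸ hcomm 0 1) hw) hw
      rw [hbot, Submodule.mem_bot, sub_eq_zero] at h2
      exact mem_fixd.2 h2
    obtain ⟨t, ht, htb⟩ := hjoint W hW (fun b w hw =>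
      ⟨mov_invariant (hcomm b 0) hw.1, mov_invariant (hcomm b 1) hw.2⟩)
    have ht0 := (htb 0).1 inf_le_left
    have ht1 := (htb 1).1 inf_le_right
    refine ⟨_, hP ht, ?_⟩
    have hw := hw2 _ (hP ht)
    by_cases ht2 : t 2 = 0
    · simp [Tuples.weight, ht0, ht1, ht2] at hw
    · simp [Tuples.weight, ht0, ht1, ht2]
  have hcard3 := (Tuples.orbit3 x₃).2.2 hwt₃
  refine ⟨hcard3.trans (hcount _ fun y hy => (horb _ hx₃ y hy).1), ?_⟩
  -- the fixed space of one cycle is fixed by every disjoint one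
  have hsub : fixd ρ (L π (blk F 0)) ≤ fixd ρ (L π (blk F 1)) := by
    intro w hw
    by_contra hcon
    let W := fixd ρ (L π (blk F 0)) ⊓ mov ρ (L π (blk F 1))
    have hW : W ≠ ⊥ := fun hbot => hcon <| by
      have h2 : ρ (L π (blk F 1)) w - w ∈ W :=
        ⟨Submodule.sub_mem _ (fixd_invariant (hcomm 1 0) hw) hw, sub_mem_mov _ _⟩
      rw [hbot, Submodule.mem_bot, sub_eq_zero] at h2
      exact mem_fixd.2 h2
    obtain ⟨t, ht, htb⟩ := hjoint W hW (fun b w hw =>
      ⟨fixd_invariant (hcomm b 0) hw.1, mov_invariant (hcomm b 1) hw.2⟩)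
    have ht0 := (htb 0).2 inf_le_left
    have ht1 := (htb 1).1 inf_le_right
    have hw := hw2 _ (hP ht)
    have hwt : Tuples.weight (t 0, t 1, t 2) = 1 := by
      by_cases ht2 : t 2 = 0
      · simp [Tuples.weight, ht0, ht1, ht2]
      · simp [Tuples.weight, ht0, ht1, ht2] at hw
    have h6 := (Tuples.orbit3 _).1 hwt
    have hu := hcount (orb Tuples.moves3 6 {(t 0, t 1, t 2)} ∪ orb Tuples.moves3 6 {x₃}) fun y hy => by
      rcases Finset.mem_union.1 hy with hy | hy
      · exact (horb _ (hP ht) y hy).1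
      · exact (horb _ hx₃ y hy).1
    rw [Finset.card_union_of_disjoint (Finset.disjoint_left.2 fun y hy hy' => by
      have h7 := (horb _ (hP ht) y hy).2
      have h8 := (horb _ hx₃ y hy').2
      omega)] at hu
    omega
  have hdisj : ∀ a b : Fin 3 ↪ Fin r, (∀ i j, a i ≠ b j) → fixd ρ (L π a) ≤ fixd ρ (L π b) := by
    intro a b hab
    let src : Fin (3 + 3) ↪ Fin r := ⟨Fin.append (blk F 0) (blk F 1),
      Fin.append_injective_iff.2 ⟨(blk F 0).injective, (blk F 1).injective, blk_disjoint F (by decide)⟩⟩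
    let dst : Fin (3 + 3) ↪ Fin r := ⟨Fin.append a b,
      Fin.append_injective_iff.2 ⟨a.injective, b.injective, hab⟩⟩
    obtain ⟨g, hg⟩ := h.exists_conj src dst (by omega)
    have ha : g * L π (blk F 0) * g⁻¹ = L π a := h.conj_L_eq ho h32 fun i => by
      have := hg (Fin.castAdd 3 i)
      simpa [src, dst] using this
    have hb : g * L π (blk F 1) * g⁻¹ = L π b := h.conj_L_eq ho h32 fun i => by
      have := hg (Fin.natAdd 3 i)
      simp only [src, dst, Function.Embedding.coeFn_mk, Fin.append_right] at this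
      exact this
    intro w hw
    have h5 := map_fixd_mem (L π a) g⁻¹ hw
    rw [← ha, show g⁻¹ * (g * L π (blk F 0) * g⁻¹) * g⁻¹⁻¹ = L π (blk F 0) by group] at h5
    have h6 := map_fixd_mem (L π (blk F 1)) g (hsub h5)
    rwa [hb, apply_inv] at h6
  have hall : ∀ a b : Fin 3 ↪ Fin r, fixd ρ (L π a) ≤ fixd ρ (L π b) := by
    intro a b
    obtain ⟨c, hc⟩ := exists_emb (S := (Finset.univ.map a ∪ Finset.univ.map b)ᶜ) (l := 3) (by
      have h1 := Finset.card_union_le (Finset.univ.map a) (Finset.univ.map b)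
      rw [Finset.card_compl, Fintype.card_fin]
      simp only [Finset.card_map, Finset.card_univ, Fintype.card_fin] at h1
      omega)
    simp only [Finset.mem_compl, Finset.mem_union, Finset.mem_map, Finset.mem_univ, true_and, not_or,
      not_exists] at hc
    exact (hdisj a c fun i j => (hc j).1 i).trans (hdisj c b fun i j => fun hh => (hc i).2 j hh.symm)
  intro a
  rcases h.irr (fixd ρ (L π a)) (fun g w hw => by
    have h5 := map_fixd_mem (L π a) g hw
    rw [h.toExt.L_conj ho h32] at h5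
    exact hall _ a h5) with hbot | htop
  · exact hbot
  · exact absurd (h.eq_one (LinearMap.ext fun v => mem_fixd.1 (htop ▸ Submodule.mem_top)))
      (h.L_ne_one ho h32 a)

omit [Finite G] in
/-- Dimension nine or less excludes non-orthogonal three-cycles on ten or more points, `5 ≠ 0`. -/
theorem three_small_five (h3 : (3 : k) ≠ 0) (h5 : (5 : k) ≠ 0) (hno : ¬ Orth π ρ 3) (hr : 10 ≤ r)
    (hn : finrank k V ≤ 9) : False := by
  classical
  obtain ⟨-, hfix⟩ := h.three_small h3 hno hn
  have hl : ((5 : ℕ) : k) ≠ 0 := by exact_mod_cast h5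
  haveI : NeZero ((5 : ℕ) : k) := ⟨hl⟩
  obtain ⟨ω, hω⟩ := HasEnoughRootsOfUnity.exists_primitiveRoot k 5
  let e : Fin 5 ↪ Fin r := Fin.castLEEmb (by omega)
  let u : Fin 5 → Fin r := fun i => ⟨5 + i, by omega⟩
  let x : Fin 3 ↪ Fin r := ⟨fun i => u (i.castLE (by decide)), fun i j hij => by
    simpa [u, Fin.ext_iff] using hij⟩
  obtain ⟨hm, -⟩ := h.finrank_mov_five hω h5 (by omega) e
  have hs := h.orth_sum (by decide : Odd 5) (by decide) hl (by omega) (h.orth_five h5 (by omega)) e
  have hpos : finrank k (mov ρ (L π e)) ≠ 0 := fun h0 =>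
    h.mov_L_ne_bot (by decide) (by decide) e (Submodule.finrank_eq_zero.1 h0)
  have hd1 : finrank k (eig ρ (L π e) ω) = 1 := by
    have := (Nat.mul_le_mul_right (finrank k (mov ρ (L π e))) (show 2 ≤ r / 5 by omega)).trans hs
    omega
  obtain ⟨v, hv0, hspan⟩ := finrank_eq_one_iff'.1 hd1
  have hv0' : (v : V) ≠ 0 := fun h0 => hv0 (Subtype.ext h0)
  have key : ∀ g : G, (∀ i, π g (e i) = e i) → ∃ c : k, c ≠ 0 ∧ ρ g v = c • (v : V) := by
    intro g hg
    obtain ⟨c, hc⟩ := hspan ⟨ρ g v, eig_invariant (h.toExt.commute_L_of_fix (by decide) (by decide) e hg) v.2⟩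
    refine ⟨c, fun h0 => hv0' (rho_injective (ρ := ρ) g ?_), (congrArg Subtype.val hc).symm⟩
    rw [map_zero]
    have h1 : c • (v : V) = ρ g v := congrArg Subtype.val hc
    rw [← h1, h0, zero_smul]
  have hue : ∀ i j, u i ≠ e j := fun i j hij => by
    have := congrArg Fin.val hij
    simp [u, e] at this
    omega
  obtain ⟨g, hg⟩ := h.toExt.surj (swap (u 0) (u 1) * swap (u 3) (u 4)) (by
    rw [Perm.mem_alternatingGroup, map_mul, Perm.sign_swap (by simp [u, Fin.ext_iff]),
      Perm.sign_swap (by simp [u, Fin.ext_iff])]; rfl)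
  obtain ⟨c, hc0, hc⟩ := key (L π x) fun i => by
    rw [h.toExt.map_L (by decide) (by decide)]
    exact cyc_apply_notMem x fun j => hue _ i
  obtain ⟨c', hc'0, hc'⟩ := key g fun i => by
    rw [hg, Perm.mul_apply, swap_apply_of_ne_of_ne (hue 3 i).symm (hue 4 i).symm,
      swap_apply_of_ne_of_ne (hue 0 i).symm (hue 1 i).symm]
  let p : Perm (Fin 3) := swap 0 1
  have hgx : g * L π x * g⁻¹ = L π x ^ 2 := by
    rw [h.conj_L_eq (f := p.toEmbedding.trans x) (by decide) (by decide) (fun i => by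
      rw [hg, Perm.mul_apply]
      fin_cases i <;> simp [x, p, swap_apply_def, u, Fin.ext_iff])]
    refine h.toExt.lift_unique (by decide) ?_ ?_
    · rw [map_pow, h.toExt.map_L (by decide) (by decide), cyc_equiv,
        show p * finRotate 3 * p⁻¹ = finRotate 3 ^ 2 by decide, map_pow]
      rfl
    · rw [pow_right_comm, h.toExt.L_pow (by decide) (by decide), one_pow]
  have h1 := conj_apply (ρ := ρ) (L π x) g (v : V)
  rw [hgx, hc', map_smul, pow_eig hc 2, hc, map_smul, hc', smul_smul, smul_smul] at h1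
  have h2 := smul_left_injective k hv0' h1
  have hc1 : c = 1 := by
    refine mul_left_cancel₀ (mul_ne_zero hc'0 hc0) ?_
    linear_combination h2
  have h6 : (v : V) ∈ fixd ρ (L π x) := mem_fixd.2 (by rw [hc, hc1, one_smul])
  rw [hfix x, Submodule.mem_bot] at h6
  exact hv0' h6

end Hyp

end Cfsg.Agent.AltDegree
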