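import Cfsg.Agent.Lib.AltDegree.Natural

/-!
Characteristic different from three, orthogonal three-cycles: the deleted permutation module.
-/

set_option autoImplicit false

namespace Cfsg.Agent.AltDegree

open Module Equiv

variable {r : ℕ} {G : Type*} [Group G] [Finite G] {π : G →* Perm (Fin r)} {k : Type*} [Field k]
  [IsAlgClosed k] {V : Type*} [AddCommGroup V] [Module k V] [FiniteDimensional k V]
  {ρ : G →* End k V}

namespace Hyp

variable (h : Hyp π ρ)
include h

omit [Finite G] in
theorem sq_eq_one_of_fixed {g : G} (hg : g * g ∈ π.ker) {v : V} (hv0 : v ≠ 0) (hv : ρ g v = v) :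
    g * g = 1 := by
  refine h.eq_one ?_
  rcases h.ker_scalar hg with hz | hz
  · exact hz
  · have h1 : ρ (g * g) v = v := by rw [mul_apply', hv, hv]
    rw [hz] at h1
    have h2 : (2 : k) • v = 0 := by
      rw [two_smul]
      nth_rewrite 1 [← h1]
      simp
    have h3 : (2 : k) = 0 := (smul_eq_zero.1 h2).resolve_right hv0
    have h4 : (-1 : k) = 1 := by linear_combination -h3
    rw [hz]
    refine LinearMap.ext fun w => ?_
    show -w = w
    calc -w = (-1 : k) • w := (neg_one_smul k w).symm
      _ = w := by rw [h4, one_smul]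

/-- One involutory lift of a double transposition with a fixed vector trivialises the extension. -/
theorem injective_of_double {a b c d : Fin r} (hab : a ≠ b) (hac : a ≠ c) (had : a ≠ d) (hbc : b ≠ c)
    (hbd : b ≠ d) (hcd : c ≠ d) {g : G} (hg : π g = swap a b * swap c d) {v : V} (hv0 : v ≠ 0)
    (hv : ρ g v = v) : Function.Injective π := by
  have hsqker : ∀ (a b c d : Fin r) (g : G), a ≠ c → a ≠ d → b ≠ c → b ≠ d →
      π g = swap a b * swap c d → g * g ∈ π.ker := by
    intro a b c d g hac had hbc hbd hg
    rw [MonoidHom.mem_ker, map_mul, hg]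
    have hd : Perm.Disjoint (swap a b) (swap c d) := fun x => by
      by_cases hx : x = a ∨ x = b
      · right
        rcases hx with rfl | rfl
        · exact swap_apply_of_ne_of_ne hac had
        · exact swap_apply_of_ne_of_ne hbc hbd
      · left
        exact swap_apply_of_ne_of_ne (fun hh => hx (Or.inl hh)) (fun hh => hx (Or.inr hh))
    rw [hd.commute.symm.mul_mul_mul_comm, swap_mul_self, swap_mul_self, one_mul]
  have h1 := h.sq_eq_one_of_fixed (hsqker a b c d g hac had hbc hbd hg) hv0 hv
  rw [← MonoidHom.ker_eq_bot_iff]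
  refine h.toExt.ker_eq_bot fun a' b' c' d' hab' hcd' hac' had' hbc' hbd' g' hg' => ?_
  obtain ⟨y, hy⟩ := h.exists_conj (emb4 hab hac had hbc hbd hcd) (emb4 hab' hac' had' hbc' hbd' hcd')
    (by have := h.nine; omega)
  have h2 : π (y * g * y⁻¹) = π g' := by
    rw [map_mul, map_mul, map_inv, hg, hg', ← show π y a = a' from hy 0, ← show π y b = b' from hy 1,
      ← show π y c = c' from hy 2, ← show π y d = d' from hy 3, Equiv.swap_apply_apply,
      Equiv.swap_apply_apply]
    group
  rw [← h.toExt.sq_eq h2, show y * g * y⁻¹ * (y * g * y⁻¹) = y * (g * g) * y⁻¹ by group, h1, mul_one,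
    mul_inv_cancel]

open Classical in
/-- Orthogonal three-cycles in characteristic different from three give the natural bound. -/
theorem three_orth (h3 : (3 : k) ≠ 0) (ho : Orth π ρ 3) :
    r - 1 - (if (r : k) = 0 then 1 else 0) ≤ finrank k V ∨ r - 1 ≤ finrank k V := by
  classical
  by_cases hbig : r - 1 ≤ finrank k V
  · exact Or.inr hbig
  refine Or.inl ?_
  have h9 := h.nine
  have hodd : Odd 3 := by decide
  have h32 : 2 ≤ 3 := by decide
  have hl : ((3 : ℕ) : k) ≠ 0 := by exact_mod_cast h3
  haveI : NeZero ((3 : ℕ) : k) := ⟨hl⟩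
  obtain ⟨ω, hω⟩ := HasEnoughRootsOfUnity.exists_primitiveRoot k 3
  let o : ℕ → Fin r := fun i => ⟨i % r, Nat.mod_lt _ (by omega)⟩
  have ho' : ∀ i j, i < 9 → j < 9 → i ≠ j → o i ≠ o j := fun i j hi hj hij hh => by
    have := congrArg Fin.val hh
    simp only [o] at this
    rw [Nat.mod_eq_of_lt (by omega), Nat.mod_eq_of_lt (by omega)] at this
    exact hij this
  have e01 := ho' 0 1 (by omega) (by omega) (by omega)
  have e02 := ho' 0 2 (by omega) (by omega) (by omega)
  have e03 := ho' 0 3 (by omega) (by omega) (by omega)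
  have e12 := ho' 1 2 (by omega) (by omega) (by omega)
  have e13 := ho' 1 3 (by omega) (by omega) (by omega)
  have e23 := ho' 2 3 (by omega) (by omega) (by omega)
  let e : Fin 3 ↪ Fin r := emb3 e01 e12 e02
  let e' : Fin 3 ↪ Fin r := emb3 e01 e13 e03
  -- the moved spaces are two-dimensional
  obtain ⟨hm, -⟩ := h.finrank_mov_three hω h3 (by omega) e
  have hs := h.orth_sum hodd h32 hl (by omega) ho e
  have hpos : finrank k (mov ρ (L π e)) ≠ 0 := fun h0 =>
    h.mov_L_ne_bot hodd h32 e (Submodule.finrank_eq_zero.1 h0)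
  have hd : finrank k (mov ρ (L π e)) = 2 := by
    by_contra hne
    have h4 : 4 ≤ finrank k (mov ρ (L π e)) := by omega
    have h5 := (Nat.mul_le_mul_left (r / 3) h4).trans hs
    omega
  -- stabilisers fix the moved spaces
  have hfixall : ∀ (a : Fin 3 ↪ Fin r), fixEven (Finset.univ.map a) ≤
      (fixer ρ (mov ρ (L π a))).map π := by
    intro a
    obtain ⟨f, hf⟩ := exists_emb (S := (Finset.univ.map a)ᶜ) (l := 3) (by
      rw [Finset.card_compl, Fintype.card_fin, Finset.card_map, Finset.card_univ, Fintype.card_fin]; omega)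
    simp only [Finset.mem_compl, Finset.mem_map, Finset.mem_univ, true_and, not_exists] at hf
    refine h.fixEven_le_fixer (by simp; omega) (fun g hg => mem_stab.2 fun w hw =>
      mov_invariant (h.toExt.commute_L_of_fix hodd h32 a fun i => hg.2 _ (Finset.mem_map_of_mem _ (Finset.mem_univ i))) hw)
      (x := L π f) (mem_fixer_iff_le.2 (ho f a fun i j hij => hf i j hij.symm)) ?_ ?_
    · rw [h.toExt.map_L hodd h32]
      exact cyc_mem_fixEven f hodd fun i hi => by
        obtain ⟨j, -, hj⟩ := Finset.mem_map.1 hi
        exact hf i j hj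
    · rw [h.toExt.map_L hodd h32]
      exact cyc_ne_one f h32
  -- the extension is trivial
  have e34 := ho' 3 4 (by omega) (by omega) (by omega)
  have e35 := ho' 3 5 (by omega) (by omega) (by omega)
  have e36 := ho' 3 6 (by omega) (by omega) (by omega)
  have e45 := ho' 4 5 (by omega) (by omega) (by omega)
  have e46 := ho' 4 6 (by omega) (by omega) (by omega)
  have e56 := ho' 5 6 (by omega) (by omega) (by omega)
  have hmove : ∀ i j, 3 ≤ j → j < 9 → e i ≠ o j := fun i j hj hj' => by
    fin_cases i <;> exact ho' _ j (by omega) hj' (by omega)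
  obtain ⟨t, htfix, ht⟩ := hfixall e (show swap (o 3) (o 4) * swap (o 5) (o 6) ∈ fixEven (Finset.univ.map e) from
    ⟨by rw [Perm.mem_alternatingGroup, map_mul, Perm.sign_swap e34, Perm.sign_swap e56]; rfl,
      fun x hx => by
        obtain ⟨i, -, rfl⟩ := Finset.mem_map.1 hx
        rw [Perm.mul_apply, swap_apply_of_ne_of_ne (hmove i 5 (by omega) (by omega)) (hmove i 6 (by omega) (by omega)),
          swap_apply_of_ne_of_ne (hmove i 3 (by omega) (by omega)) (hmove i 4 (by omega) (by omega))]⟩)
  obtain ⟨w₀, hw₀, hw₀0⟩ := Submodule.exists_mem_ne_zero_of_ne_bot (h.mov_L_ne_bot hodd h32 e)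
  have hinj : Function.Injective π :=
    h.injective_of_double e34 e35 e36 e45 e46 e56 ht hw₀0 (htfix w₀ hw₀)
  -- the two moved spaces meet in a line
  let S₀ : Finset (Fin r) := {o 0, o 1, o 2}
  let S : Finset (Fin r) := insert (o 3) S₀
  have hS₀ : S₀.card = 3 := Finset.card_eq_three.2 ⟨o 0, o 1, o 2, e01, e02, e12, rfl⟩
  have h3S : o 3 ∉ S₀ := by simp [S₀, Ne.symm e03, Ne.symm e13, Ne.symm e23]
  have heS : ∀ i, e i ∈ S := fun i => by fin_cases i <;> simp [S, S₀, show e 0 = o 0 from rfl, show e 1 = o 1 from rfl, show e 2 = o 2 from rfl]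
  have he'S : ∀ i, e' i ∈ S := fun i => by fin_cases i <;> simp [S, S₀, show e' 0 = o 0 from rfl, show e' 1 = o 1 from rfl, show e' 2 = o 3 from rfl]
  let I := mov ρ (L π e) ⊓ mov ρ (L π e')
  have hgrow := h.growth hodd (le_refl 3) hl (by omega) ho e (r - 7) S
    (by simp only [S, Finset.card_insert_of_notMem h3S, hS₀]; omega)
    (by simp only [S, Finset.card_insert_of_notMem h3S, hS₀]; omega)
  have hd' : finrank k (mov ρ (L π e')) = 2 := by rw [h.finrank_mov_L hodd h32 (by omega) e e', hd]
  have hsup := Submodule.finrank_sup_add_finrank_inf_eq (mov ρ (L π e)) (mov ρ (L π e'))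
  have hsupX := Submodule.finrank_mono (sup_le (mov_le_X (π := π) (ρ := ρ) e heS) (mov_le_X (π := π) (ρ := ρ) e' he'S))
  have hIne : I ≠ ⊥ := fun h0 => by
    rw [show mov ρ (L π e) ⊓ mov ρ (L π e') = ⊥ from h0, finrank_bot] at hsup
    omega
  obtain ⟨v, hvI, hv0⟩ := Submodule.exists_mem_ne_zero_of_ne_bot hIne
  have hfix01 : ∀ w ∈ I, fixEven ({o 0, o 1} : Finset (Fin r)) ≤ (vfix ρ w).map π := by
    intro w hw
    refine fixEven_insert_sup (x := o 2) (y := o 3) e23 (by simp [Ne.symm e02, Ne.symm e12])
      (by simp [Ne.symm e03, Ne.symm e13]) (by rw [Finset.card_pair e01]; omega) ?_ ?_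
    · refine ((fixEven_mono ?_).trans (hfixall e)).trans (Subgroup.map_mono fun g hg => hg w hw.1)
      intro x hx
      obtain ⟨i, -, rfl⟩ := Finset.mem_map.1 hx
      fin_cases i <;> simp [show e 0 = o 0 from rfl, show e 1 = o 1 from rfl, show e 2 = o 2 from rfl]
    · refine ((fixEven_mono ?_).trans (hfixall e')).trans (Subgroup.map_mono fun g hg => hg w hw.2)
      intro x hx
      obtain ⟨i, -, rfl⟩ := Finset.mem_map.1 hx
      fin_cases i <;> simp [show e' 0 = o 0 from rfl, show e' 1 = o 1 from rfl, show e' 2 = o 3 from rfl]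
  have hI1 : finrank k I = 1 := by
    have hle := Submodule.finrank_mono (show I ≤ mov ρ (L π e) from inf_le_left)
    have hpos' : finrank k I ≠ 0 := fun h0 => hIne (Submodule.finrank_eq_zero.1 h0)
    by_contra hne
    have hIe : I = mov ρ (L π e) := Submodule.eq_of_le_of_finrank_le inf_le_left (by omega)
    have htop : mov ρ (L π e) = ⊤ := by
      refine h.eq_top_of_stab (h.mov_L_ne_bot hodd h32 e) (alt_le_of_overlap (S := {o 0, o 1}) (a := o 2)
        (by simp [Ne.symm e02, Ne.symm e12]) (by rw [Finset.card_pair e01]) (by rw [Finset.card_pair e01]; omega) ?_ ?_)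
      · intro σ hσ
        obtain ⟨g, rfl⟩ := h.surj σ hσ.1
        refine ⟨g, mem_stab.2 fun w hw => ?_, rfl⟩
        have h5 := map_mov_mem (L π e) g hw
        have hcm : Commute g (L π e) := by
          refine h.toExt.commute_L hodd h32 e ?_
          have hS : ∀ x, (∀ i, e i ≠ x) → π g x = x := fun x hx => hσ.2 x (by
            simp only [Finset.mem_compl, Finset.mem_insert, Finset.mem_singleton, not_or]
            exact ⟨fun hh => hx 2 hh.symm, fun hh => hx 0 hh.symm, fun hh => hx 1 hh.symm⟩)
          obtain ⟨p, hp, hpσ⟩ : ∃ p : Perm (Fin 3), Perm.sign p = 1 ∧ π g = Perm.viaEmbeddingHom e p := by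
            have hmem : ∀ i, ∃ j, e j = π g (e i) := fun i => by
              by_contra hcon
              push Not at hcon
              have := hS _ hcon
              exact hcon i ((π g).injective this).symm
            choose j hj using hmem
            have hjinj : Function.Injective j := fun a b hab =>
              e.injective ((π g).injective (by rw [← hj a, ← hj b, hab]))
            let p : Perm (Fin 3) := Equiv.ofBijective j (Finite.injective_iff_bijective.1 hjinj)
            have hpe : π g = Perm.viaEmbeddingHom e p := by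
              ext x
              congr 1
              rw [Perm.viaEmbeddingHom_apply]
              by_cases hx : ∃ i, e i = x
              · obtain ⟨i, rfl⟩ := hx
                rw [Perm.viaEmbedding_apply]
                exact (hj i).symm
              · push Not at hx
                rw [Perm.viaEmbedding_apply_of_notMem _ _ _ (by rintro ⟨i, hi⟩; exact hx i hi), hS x hx]
            refine ⟨p, ?_, hpe⟩
            have h6 := Perm.mem_alternatingGroup.1 (h.even g)
            rw [hpe, Perm.viaEmbeddingHom_apply, Perm.viaEmbedding] at h6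
            convert ((Perm.sign_extendDomain p (ofInjective e.1 e.2)).symm.trans ?_) using 1
            convert h6
          rw [hpσ]
          refine Commute.map ?_ _
          have : ∀ p : Perm (Fin 3), Perm.sign p = 1 → p * finRotate 3 = finRotate 3 * p := by decide
          exact this p hp
        rwa [hcm.eq, mul_inv_cancel_right] at h5
      · intro σ hσ
        obtain ⟨g, rfl⟩ := h.surj σ hσ.1
        refine ⟨g, mem_stab.2 fun w hw => ?_, rfl⟩
        rw [mem_vfix.1 (mem_of_map_le hinj (hfix01 w (hIe ▸ hw) hσ))]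
        exact hw
    have := congrArg (fun W : Submodule k V => finrank k W) htop
    rw [finrank_top] at this
    omega
  -- the pair vector
  let P : PairVec π ρ :=
    { o₁ := o 0, o₂ := o 1, v := v, ne := e01, ne_zero := hv0, inj := hinj
      fix := fun g hg0 hg1 => mem_vfix.1 (mem_of_map_le hinj (hfix01 v hvI ⟨h.even g, fun x hx => by
        simp only [Finset.mem_insert, Finset.mem_singleton] at hx
        rcases hx with rfl | rfl <;> assumption⟩)) }
  have hx0 : π (L π e) (o 0) = o 1 := by rw [h.toExt.map_L hodd h32]; exact cyc_apply e 0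
  have hx1 : π (L π e) (o 1) = o 2 := by rw [h.toExt.map_L hodd h32]; exact cyc_apply e 1
  have hx2 : π (L π e) (o 2) = o 0 := by rw [h.toExt.map_L hodd h32]; exact cyc_apply e 2
  have hu0 : P.vec h (o 0) (o 1) = v := PairVec.vec_base h P
  have htri : P.vec h (o 0) (o 1) + P.vec h (o 1) (o 2) + P.vec h (o 2) (o 0) = 0 := by
    set u := P.vec h (o 0) (o 1) + P.vec h (o 1) (o 2) + P.vec h (o 2) (o 0) with hu
    have h12 : P.vec h (o 1) (o 2) = ρ (L π e) v := by rw [← hu0, PairVec.apply_vec, hx0, hx1]
    have h20 : P.vec h (o 2) (o 0) = ρ (L π e) (ρ (L π e) v) := by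
      rw [← h12, PairVec.apply_vec, hx1, hx2]
    have hxu : ρ (L π e) u = u := by
      rw [hu, map_add, map_add, PairVec.apply_vec, PairVec.apply_vec, PairVec.apply_vec, hx0, hx1, hx2]
      abel
    have hum : u ∈ mov ρ (L π e) := by
      rw [hu, hu0, h20, h12]
      exact Submodule.add_mem _ (Submodule.add_mem _ hvI.1 (mov_invariant (Commute.refl _) hvI.1))
        (mov_invariant (Commute.refl _) (mov_invariant (Commute.refl _) hvI.1))
    have hu' : u ∈ mov ρ (L π e) ⊓ fixd ρ (L π e) := ⟨hum, mem_fixd.2 hxu⟩
    rwa [disjoint_mov_fixd (ρ := ρ) (h.toExt.L_pow hodd h32 e) hl, Submodule.mem_bot] at hu'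
  have htri' : ∀ a b c : Fin r, a ≠ b → b ≠ c → a ≠ c →
      P.vec h a b + P.vec h b c + P.vec h c a = 0 := fun a b c hab hbc hac =>
    PairVec.tri_of_one h P e01 e12 e02 htri hab hbc hac
  -- the involution reversing the first pair acts by a sign
  obtain ⟨y, hy⟩ := h.surj (swap (o 0) (o 1) * swap (o 2) (o 3)) (by
    rw [Perm.mem_alternatingGroup, map_mul, Perm.sign_swap e01, Perm.sign_swap e23]; rfl)
  have hy0 : π y (o 0) = o 1 := by
    rw [hy, Perm.mul_apply, swap_apply_of_ne_of_ne e02 e03, swap_apply_left]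
  have hy1 : π y (o 1) = o 0 := by
    rw [hy, Perm.mul_apply, swap_apply_of_ne_of_ne e12 e13, swap_apply_right]
  have hy2 : π y (o 2) = o 3 := by
    rw [hy, Perm.mul_apply, swap_apply_left, swap_apply_of_ne_of_ne (Ne.symm e03) (Ne.symm e13)]
  have hy3 : π y (o 3) = o 2 := by
    rw [hy, Perm.mul_apply, swap_apply_right, swap_apply_of_ne_of_ne (Ne.symm e02) (Ne.symm e12)]
  have hrev : ∀ (a : Fin 3 ↪ Fin r), L π ((swap (0 : Fin 3) 1).toEmbedding.trans a) = (L π a)⁻¹ := by
    intro a
    refine h.toExt.lift_unique hodd ?_ ?_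
    · rw [map_inv, h.toExt.map_L hodd h32, cyc_equiv,
        show swap (0 : Fin 3) 1 * finRotate 3 * (swap (0 : Fin 3) 1)⁻¹ = (finRotate 3)⁻¹ by decide, map_inv]
      rfl
    · rw [inv_pow, h.toExt.L_pow hodd h32, inv_one]
  have hyI : ρ y v ∈ I := by
    constructor
    · have h5 := map_mov_mem (L π e') y hvI.2
      rwa [h.conj_L_eq (f := (swap (0 : Fin 3) 1).toEmbedding.trans e) hodd h32 (fun i => by
        fin_cases i <;> first | exact hy0 | exact hy1 | exact hy3), hrev, mov_inv] at h5
    · have h5 := map_mov_mem (L π e) y hvI.1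
      rwa [h.conj_L_eq (f := (swap (0 : Fin 3) 1).toEmbedding.trans e') hodd h32 (fun i => by
        fin_cases i <;> first | exact hy0 | exact hy1 | exact hy2), hrev, mov_inv] at h5
  obtain ⟨c, hc⟩ := (finrank_eq_one_iff_of_nonzero' (⟨v, hvI⟩ : I) (fun h0 => hv0 (congrArg Subtype.val h0))).1
    hI1 ⟨ρ y v, hyI⟩
  have hc' : ρ y v = c • v := (congrArg Subtype.val hc).symm
  have hflip : P.vec h (o 1) (o 0) = c • v := by rw [← hc', ← hu0, PairVec.apply_vec, hy0, hy1]
  have hc2 : c * c = 1 := by
    have h5 : ρ (y * y) v = v := by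
      rw [← hu0, PairVec.apply_vec, map_mul, Perm.mul_apply, Perm.mul_apply, hy0, hy1, hy0]
    rw [mul_apply', hc', map_smul, hc', smul_smul] at h5
    exact smul_left_injective k hv0 (show (c * c) • v = (1 : k) • v by rw [one_smul, h5])
  have hanti : P.vec h (o 1) (o 0) = -P.vec h (o 0) (o 1) := by
    rcases mul_self_eq_one_iff.1 hc2 with rfl | rfl
    · by_cases h2 : (2 : k) = 0
      · rw [hflip, hu0, one_smul, eq_neg_iff_add_eq_zero, ← two_smul k, h2, zero_smul]
      · exfalso
        rw [one_smul] at hflip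
        have hsym : ∀ a b, P.vec h b a = P.vec h a b := by
          intro a b
          rcases eq_or_ne a b with rfl | hab
          · rfl
          obtain ⟨g, hg⟩ := h.exists_conj (emb2 e01) (emb2 hab) (by omega)
          have h5 := congrArg (ρ g) (hflip.trans hu0.symm)
          rwa [PairVec.apply_vec, PairVec.apply_vec, show π g (o 0) = a from hg 0,
            show π g (o 1) = b from hg 1] at h5
        have hdis : ∀ a b c d : Fin r, a ≠ b → a ≠ c → a ≠ d → b ≠ c → b ≠ d → c ≠ d →
            P.vec h a b = P.vec h c d := by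
          intro a b c d hab hac had hbc hbd hcd
          have t1 := htri' a b c hab hbc hac
          have t2 := htri' a b d hab hbd had
          have t3 := htri' c d a hcd (Ne.symm had) (Ne.symm hac)
          have t4 := htri' c d b hcd (Ne.symm hbd) (Ne.symm hbc)
          simp only [hsym a c, hsym a d, hsym b c, hsym b d] at t1 t2 t3 t4
          have h6 : (2 : k) • (P.vec h a b - P.vec h c d) = 0 := by
            linear_combination (norm := module) (1 : k) • t1 + (1 : k) • t2 - (1 : k) • t3 - (1 : k) • t4
          exact sub_eq_zero.1 ((smul_eq_zero.1 h6).resolve_left h2)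
        have h04 : P.vec h (o 0) (o 1) = P.vec h (o 1) (o 2) :=
          (hdis _ _ _ _ e01 e03 (ho' 0 4 (by omega) (by omega) (by omega)) e13
            (ho' 1 4 (by omega) (by omega) (by omega)) e34).trans
          (hdis _ _ _ _ e12 e13 (ho' 1 4 (by omega) (by omega) (by omega)) e23
            (ho' 2 4 (by omega) (by omega) (by omega)) e34).symm
        have h20 : P.vec h (o 2) (o 0) = P.vec h (o 1) (o 2) :=
          (hdis _ _ _ _ (Ne.symm e02) e23 (ho' 2 4 (by omega) (by omega) (by omega)) e03
            (ho' 0 4 (by omega) (by omega) (by omega)) e34).trans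
          (hdis _ _ _ _ e12 e13 (ho' 1 4 (by omega) (by omega) (by omega)) e23
            (ho' 2 4 (by omega) (by omega) (by omega)) e34).symm
        have h5 := htri
        rw [h20, ← h04, hu0] at h5
        have h7 : (3 : k) • v = 0 := by linear_combination (norm := module) (1 : k) • h5
        exact hv0 ((smul_eq_zero.1 h7).resolve_left h3)
    · rw [hflip, hu0, neg_one_smul]
  exact PairVec.bound h P htri' fun a b => PairVec.anti_of_one h P e01 hanti a b

end Hyp

end Cfsg.Agent.AltDegree
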