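import Cfsg.Agent.Lib.AltDegree.CaseB3

/-!
Orthogonal five-cycles in odd characteristic: double transpositions move two dimensions, and give the
deleted permutation module.
-/

set_option autoImplicit false

namespace Cfsg.Agent.AltDegree

open Module Equiv

variable {r : ℕ} {G : Type*} [Group G] [Finite G] {π : G →* Perm (Fin r)} {k : Type*} [Field k]
  [IsAlgClosed k] {V : Type*} [AddCommGroup V] [Module k V] [FiniteDimensional k V]
  {ρ : G →* End k V}

omit [Finite G] in
theorem via_swap {n : ℕ} (e : Fin n ↪ Fin r) (a b : Fin n) :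
    Perm.viaEmbeddingHom e (swap a b) = swap (e a) (e b) := by
  ext x
  congr 1
  rw [Perm.viaEmbeddingHom_apply]
  by_cases hx : ∃ i, e i = x
  · obtain ⟨i, rfl⟩ := hx
    rw [Perm.viaEmbedding_apply]
    exact (e.injective.swap_apply a b i).symm
  · push Not at hx
    rw [Perm.viaEmbedding_apply_of_notMem _ _ _ (by rintro ⟨i, hi⟩; exact hx i hi),
      swap_apply_of_ne_of_ne (fun hh => hx a hh.symm) (fun hh => hx b hh.symm)]

omit [Finite G] [IsAlgClosed k] in
theorem mem_mov_iff_neg (h2 : (2 : k) ≠ 0) {g : G} (hg : g * g = 1) {v : V} :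
    v ∈ mov ρ g ↔ ρ g v = -v := by
  constructor
  · intro hv
    obtain ⟨u, rfl⟩ := mem_mov.1 hv
    rw [map_sub, ← mul_apply', hg, map_one, End.one_apply]
    abel
  · intro hv
    refine mem_mov.2 ⟨(-(1 / 2) : k) • v, ?_⟩
    rw [map_smul, hv, smul_neg, ← neg_smul, ← sub_smul]
    convert one_smul k v using 2
    field_simp
    ring

omit [Finite G] [IsAlgClosed k] in
theorem finrank_split (h2 : (2 : k) ≠ 0) {g : G} (hg : g * g = 1) (W : Submodule k V)
    (hW : ∀ w ∈ W, ρ g w ∈ W) :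
    finrank k W = finrank k (W ⊓ mov ρ g : Submodule k V) + finrank k (W ⊓ fixd ρ g : Submodule k V) := by
  have h1 : W ⊓ mov ρ g ⊔ W ⊓ fixd ρ g = W := by
    refine le_antisymm (sup_le inf_le_left inf_le_left) fun w hw => ?_
    have hA : ρ g (ρ g w) = w := by rw [← mul_apply', hg, map_one, End.one_apply]
    rw [show w = (1 / 2 : k) • (w - ρ g w) + (1 / 2 : k) • (w + ρ g w) by
      rw [← smul_add, show w - ρ g w + (w + ρ g w) = (2 : k) • w by rw [two_smul]; abel, smul_smul,
        one_div, inv_mul_cancel₀ h2, one_smul]]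
    refine Submodule.add_mem_sup ⟨W.smul_mem _ (W.sub_mem hw (hW w hw)), ?_⟩
      ⟨W.smul_mem _ (W.add_mem hw (hW w hw)), ?_⟩
    · exact (mem_mov_iff_neg h2 hg).2 (by rw [map_smul, map_sub, hA, ← smul_neg, neg_sub])
    · exact mem_fixd.2 (by rw [map_smul, map_add, hA, add_comm])
  have h3 : (W ⊓ mov ρ g) ⊓ (W ⊓ fixd ρ g) = ⊥ := by
    rw [eq_bot_iff, ← disjoint_mov_fixd (ρ := ρ) (l := 2) (by rw [pow_two]; exact hg) (by exact_mod_cast h2)]
    exact inf_le_inf inf_le_right inf_le_right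
  have h4 := Submodule.finrank_sup_add_finrank_inf_eq (W ⊓ mov ρ g) (W ⊓ fixd ρ g)
  rw [h1, h3, finrank_bot] at h4
  omega

namespace Hyp

variable (h : Hyp π ρ)
include h

open Classical in
set_option maxHeartbeats 4000000 in
/-- Orthogonal five-cycles in odd characteristic give the natural bound. -/
theorem five_orth (h2 : (2 : k) ≠ 0) (h5 : (5 : k) ≠ 0) (hr : 10 ≤ r)
    (ho : Orth π ρ 5) :
    r - 1 - (if (r : k) = 0 then 1 else 0) ≤ finrank k V ∨ r - 1 ≤ finrank k V := by
  classical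
  by_cases hbig : r - 1 ≤ finrank k V
  · exact Or.inr hbig
  refine Or.inl ?_
  have hodd : Odd 5 := by decide
  have h52 : 2 ≤ 5 := by decide
  have hl : ((5 : ℕ) : k) ≠ 0 := by exact_mod_cast h5
  haveI : NeZero ((5 : ℕ) : k) := ⟨hl⟩
  obtain ⟨ω, hω⟩ := HasEnoughRootsOfUnity.exists_primitiveRoot k 5
  let o : ℕ → Fin r := fun i => ⟨i % r, Nat.mod_lt _ (by omega)⟩
  have ho' : ∀ i j, i < 10 → j < 10 → i ≠ j → o i ≠ o j := fun i j hi hj hij hh => by
    have := congrArg Fin.val hh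
    simp only [o] at this
    rw [Nat.mod_eq_of_lt (by omega), Nat.mod_eq_of_lt (by omega)] at this
    exact hij this
  let e : Fin 5 ↪ Fin r := ⟨fun i => o i, fun i j hij => by
    by_contra hne
    exact ho' i j (by omega) (by omega) (fun hh => hne (Fin.ext hh)) hij⟩
  let f : Fin 5 ↪ Fin r := ⟨fun i => o (5 + i), fun i j hij => by
    by_contra hne
    exact ho' (5 + i) (5 + j) (by omega) (by omega) (fun hh => hne (Fin.ext (by omega))) hij⟩
  have hef : ∀ i j, e i ≠ f j := fun i j => ho' _ _ (by omega) (by omega) (by omega)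
  -- one eigenvector for each nontrivial eigenvalue
  obtain ⟨hm, heig⟩ := h.finrank_mov_five hω h5 (by omega) e
  have hs := h.orth_sum hodd h52 hl (by omega) ho e
  have hpos : finrank k (mov ρ (L π e)) ≠ 0 := fun h0 =>
    h.mov_L_ne_bot hodd h52 e (Submodule.finrank_eq_zero.1 h0)
  have hd : finrank k (mov ρ (L π e)) = 4 := by
    by_contra hne
    have h8 : 8 ≤ finrank k (mov ρ (L π e)) := by omega
    have h9' := (Nat.mul_le_mul_left (r / 5) h8).trans hs
    omega
  -- the cycles on five points move the same space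
  let S : Finset (Fin r) := Finset.univ.map e
  have heS : ∀ i, e i ∈ S := fun i => Finset.mem_map_of_mem _ (Finset.mem_univ i)
  have hgrow := h.growth hodd (by decide) hl (by omega) ho e (r - 10) S (by simp [S]) (by simp [S]; omega)
  have hX : X π ρ 5 S = mov ρ (L π e) :=
    (Submodule.eq_of_le_of_finrank_le (mov_le_X (π := π) (ρ := ρ) e heS) (by omega)).symm
  -- stabilisers fix the moved space
  have hfixe : fixEven S ≤ (fixer ρ (mov ρ (L π e))).map π := by
    refine h.fixEven_le_fixer (by simp [S]; omega) (fun g hg => mem_stab.2 fun w hw =>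
      mov_invariant (h.toExt.commute_L_of_fix hodd h52 e fun i => hg.2 _ (heS i)) hw)
      (x := L π f) (mem_fixer_iff_le.2 (ho f e fun i j hij => hef j i hij.symm)) ?_ ?_
    · rw [h.toExt.map_L hodd h52]
      exact cyc_mem_fixEven f hodd fun i hi => by
        obtain ⟨j, -, hj⟩ := Finset.mem_map.1 hi
        exact hef j i hj
    · rw [h.toExt.map_L hodd h52]; exact cyc_ne_one f h52
  -- the extension is trivial
  have e56 := ho' 5 6 (by omega) (by omega) (by omega)
  have e78 := ho' 7 8 (by omega) (by omega) (by omega)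
  obtain ⟨s, hsfix, hs'⟩ := hfixe (show swap (o 5) (o 6) * swap (o 7) (o 8) ∈ fixEven S from
    ⟨by rw [Perm.mem_alternatingGroup, map_mul, Perm.sign_swap e56, Perm.sign_swap e78]; rfl,
      fun x hx => by
        obtain ⟨i, -, rfl⟩ := Finset.mem_map.1 hx
        have hne : ∀ j, 5 ≤ j → j < 10 → e i ≠ o j := fun j _ hj => ho' _ _ (by omega) hj (by omega)
        rw [Perm.mul_apply, swap_apply_of_ne_of_ne (hne 7 (by omega) (by omega)) (hne 8 (by omega) (by omega)),
          swap_apply_of_ne_of_ne (hne 5 (by omega) (by omega)) (hne 6 (by omega) (by omega))]⟩)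
  obtain ⟨w₀, hw₀, hw₀0⟩ := Submodule.exists_mem_ne_zero_of_ne_bot (h.mov_L_ne_bot hodd h52 e)
  have hinj : Function.Injective π :=
    h.injective_of_double e56 (ho' 5 7 (by omega) (by omega) (by omega))
      (ho' 5 8 (by omega) (by omega) (by omega)) (ho' 6 7 (by omega) (by omega) (by omega))
      (ho' 6 8 (by omega) (by omega) (by omega)) e78 hs' hw₀0 (hsfix w₀ hw₀)
  have hmem : ∀ {H : Subgroup G} {g : G}, π g ∈ H.map π → g ∈ H := fun {H g} => mem_of_map_le hinj
  -- elements supported on the five points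
  have hQ : ∀ (σ p q : Perm (Fin 5)),
      p * finRotate 5 * p⁻¹ * (q * finRotate 5 * q⁻¹) = σ → ∀ g, π g = Perm.viaEmbeddingHom e σ →
      mov ρ g ≤ mov ρ (L π e) := by
    intro σ p q hpq g hg
    have hg' : g = L π (p.toEmbedding.trans e) * L π (q.toEmbedding.trans e) := hinj (by
      rw [map_mul, h.toExt.map_L hodd h52, h.toExt.map_L hodd h52, cyc_equiv, cyc_equiv, ← map_mul,
        hpq, hg])
    rw [hg', ← hX]
    refine (mov_mul_le _ _).trans (sup_le (mov_le_X _ fun i => ?_) (mov_le_X _ fun i => ?_)) <;>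
      exact heS _
  let σ₀ : Perm (Fin 5) := swap 1 4 * swap 2 3
  let σ₁ : Perm (Fin 5) := swap 0 1 * swap 2 3
  obtain ⟨t₀, ht₀⟩ := h.surj (Perm.viaEmbeddingHom e σ₀) (by
    rw [Perm.mem_alternatingGroup, Perm.viaEmbeddingHom_apply, Perm.viaEmbedding]
    convert (Perm.sign_extendDomain σ₀ (ofInjective e.1 e.2)).trans (show Perm.sign σ₀ = 1 by decide +kernel))
  have ht₀mov : mov ρ t₀ ≤ mov ρ (L π e) := hQ σ₀
    ⟨![0, 1, 2, 4, 3], ![0, 1, 2, 4, 3], by decide, by decide⟩
    ⟨![0, 3, 1, 2, 4], ![0, 2, 3, 1, 4], by decide, by decide⟩ (by decide +kernel) t₀ ht₀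
  have ht₀sq : t₀ * t₀ = 1 := hinj (by
    rw [map_mul, ht₀, ← map_mul, show σ₀ * σ₀ = 1 by decide +kernel, map_one, map_one])
  have ht₀2 : finrank k (mov ρ t₀) = 2 := by
    have hW : ∀ w ∈ mov ρ (L π e), ρ t₀ w ∈ mov ρ (L π e) := fun w hw => by
      rw [← hX] at hw ⊢
      refine h.X_map_mem hodd h52 (fun x hx => ?_) hw
      obtain ⟨i, -, rfl⟩ := Finset.mem_map.1 hx
      rw [ht₀, Perm.viaEmbeddingHom_apply, Perm.viaEmbedding_apply]
      exact heS _
    have hsplit := finrank_split h2 ht₀sq (mov ρ (L π e)) hW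
    rw [inf_eq_right.2 ht₀mov, hd] at hsplit
    have hconj : t₀ * L π e * t₀⁻¹ = (L π e)⁻¹ := hinj (by
      rw [map_mul, map_mul, map_inv, map_inv, ht₀, h.toExt.map_L hodd h52,
        show cyc e = Perm.viaEmbeddingHom e (finRotate 5) from rfl, ← map_inv, ← map_mul, ← map_mul,
        show σ₀ * finRotate 5 * σ₀⁻¹ = (finRotate 5)⁻¹ by decide +kernel, map_inv])
    -- eigenvectors
    have hex : ∀ i, ¬ 5 ∣ i → ∃ u, u ≠ 0 ∧ ρ (L π e) u = ω ^ i • u := by
      intro i hi
      have hne : eig ρ (L π e) (ω ^ i) ≠ ⊥ := fun h0 => by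
        have := heig i hi
        rw [h0, finrank_bot] at this
        omega
      obtain ⟨u, hu, hu0⟩ := Submodule.exists_mem_ne_zero_of_ne_bot hne
      exact ⟨u, hu0, mem_eig.1 hu⟩
    have hneg : ∀ u i, i ≤ 5 → ρ (L π e) u = ω ^ i • u → ρ (L π e) (ρ t₀ u) = ω ^ (5 - i) • ρ t₀ u := by
      intro u i hi hu
      have h6 := conj_apply (ρ := ρ) (L π e) t₀ u
      rw [hconj, hu, map_smul] at h6
      have h7 := congrArg (ρ (L π e)) h6
      rw [apply_inv, map_smul] at h7
      conv_rhs => rw [h7, smul_smul, ← pow_add, Nat.sub_add_cancel hi, hω.pow_eq_one, one_smul]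
    obtain ⟨u₁, hu₁0, hu₁⟩ := hex 1 (by decide)
    obtain ⟨u₂, hu₂0, hu₂⟩ := hex 2 (by decide)
    have hu₁' := hneg u₁ 1 (by decide) hu₁
    have hu₂' := hneg u₂ 2 (by decide) hu₂
    have hli : LinearIndependent k ![u₁, u₂, ρ t₀ u₁, ρ t₀ u₂] := by
      refine End.eigenvectors_linearIndependent' (ρ (L π e)) ![ω ^ 1, ω ^ 2, ω ^ (5 - 1), ω ^ (5 - 2)] ?_ _ ?_
      · have key : ∀ i : Fin 4, (![ω ^ 1, ω ^ 2, ω ^ (5 - 1), ω ^ (5 - 2)] : Fin 4 → k) i =
            ω ^ ((![1, 2, 4, 3] : Fin 4 → ℕ) i) := fun i => by fin_cases i <;> rfl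
        intro i j hij
        rw [key, key] at hij
        have := hω.pow_inj (by fin_cases i <;> simp) (by fin_cases j <;> simp) hij
        fin_cases i <;> fin_cases j <;> simp at this ⊢
      · intro i
        fin_cases i
        · exact ⟨mem_eig.2 hu₁, hu₁0⟩
        · exact ⟨mem_eig.2 hu₂, hu₂0⟩
        · exact ⟨mem_eig.2 hu₁', fun h0 => hu₁0 (rho_injective (ρ := ρ) t₀ (h0.trans (map_zero _).symm))⟩
        · exact ⟨mem_eig.2 hu₂', fun h0 => hu₂0 (rho_injective (ρ := ρ) t₀ (h0.trans (map_zero _).symm))⟩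
    have hA : ∀ u, ρ t₀ (ρ t₀ u) = u := fun u => by rw [← mul_apply', ht₀sq, map_one, End.one_apply]
    have htwo : ∀ W : Submodule k V, ∀ c : k,
        u₁ + c • ρ t₀ u₁ ∈ W → u₂ + c • ρ t₀ u₂ ∈ W → 2 ≤ finrank k W := by
      intro W c ha hb
      have hli2 : LinearIndependent k ![(⟨_, ha⟩ : W), ⟨_, hb⟩] := by
        rw [LinearIndependent.pair_iff]
        intro a b hab
        have hab' : a • (u₁ + c • ρ t₀ u₁) + b • (u₂ + c • ρ t₀ u₂) = 0 := congrArg Subtype.val hab
        have h6 := Fintype.linearIndependent_iff.1 hli ![a, b, a * c, b * c] (by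
          simp only [Fin.sum_univ_four, Matrix.cons_val_zero, Matrix.cons_val_one, Matrix.cons_val]
          linear_combination (norm := module) (1 : k) • hab')
        exact ⟨h6 0, h6 1⟩
      simpa using hli2.fintype_card_le_finrank
    have hWi : ∀ u i, i ≤ 5 → ¬ 5 ∣ i → ρ (L π e) u = ω ^ i • u → u ∈ mov ρ (L π e) := by
      intro u i _ hi hu
      refine eig_le_mov ?_ (mem_eig.2 hu)
      exact fun h1 => hi ((hω.pow_eq_one_iff_dvd i).1 h1)
    have m1 := hWi u₁ 1 (by decide) (by decide) hu₁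
    have m2 := hWi u₂ 2 (by decide) (by decide) hu₂
    have hminus := htwo (mov ρ t₀) (-1)
      ((mem_mov_iff_neg h2 ht₀sq).2 (by rw [map_add, map_smul, hA]; simp))
      ((mem_mov_iff_neg h2 ht₀sq).2 (by rw [map_add, map_smul, hA]; simp))
    have hplus := htwo (mov ρ (L π e) ⊓ fixd ρ t₀) 1
      ⟨Submodule.add_mem _ m1 (Submodule.smul_mem _ _ (hW _ m1)), mem_fixd.2 (by rw [map_add, map_smul, hA]; simp; abel)⟩
      ⟨Submodule.add_mem _ m2 (Submodule.smul_mem _ _ (hW _ m2)), mem_fixd.2 (by rw [map_add, map_smul, hA]; simp; abel)⟩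
    omega
  have hswap : ∀ (g : G) (a b c d : Fin r), swap (π g a) (π g b) * swap (π g c) (π g d) =
      π g * (swap a b * swap c d) * (π g)⁻¹ := fun g a b c d => by
    rw [Equiv.swap_apply_apply, Equiv.swap_apply_apply]; group
  have e01 := ho' 0 1 (by omega) (by omega) (by omega)
  have e02 := ho' 0 2 (by omega) (by omega) (by omega)
  have e03 := ho' 0 3 (by omega) (by omega) (by omega)
  have e12 := ho' 1 2 (by omega) (by omega) (by omega)
  have e13 := ho' 1 3 (by omega) (by omega) (by omega)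
  have e23 := ho' 2 3 (by omega) (by omega) (by omega)
  have e14 := ho' 1 4 (by omega) (by omega) (by omega)
  have ht₀π : π t₀ = swap (o 1) (o 4) * swap (o 2) (o 3) := by
    rw [ht₀, map_mul, via_swap, via_swap]
    rfl
  have hdt : ∀ a b c d : Fin r, a ≠ b → a ≠ c → a ≠ d → b ≠ c → b ≠ d → c ≠ d → ∀ g,
      π g = swap a b * swap c d → finrank k (mov ρ g) = 2 ∧ g * g = 1 := by
    intro a b c d hab hac had hbc hbd hcd g hg
    obtain ⟨y, hy⟩ := h.exists_conj (emb4 e14 e12 e13 (ho' 4 2 (by omega) (by omega) (by omega))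
      (ho' 4 3 (by omega) (by omega) (by omega)) e23) (emb4 hab hac had hbc hbd hcd) (by omega)
    have hgy : g = y * t₀ * y⁻¹ := hinj (by
      rw [map_mul, map_mul, map_inv, ht₀π, ← hswap, hg, show π y (o 1) = a from hy 0,
        show π y (o 4) = b from hy 1, show π y (o 2) = c from hy 2, show π y (o 3) = d from hy 3])
    subst hgy
    refine ⟨by rw [finrank_mov_conj, ht₀2], ?_⟩
    rw [show y * t₀ * y⁻¹ * (y * t₀ * y⁻¹) = y * (t₀ * t₀) * y⁻¹ by group, ht₀sq, mul_one, mul_inv_cancel]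
  -- three commuting double transpositions
  have e45 := ho' 4 5 (by omega) (by omega) (by omega)
  have e04 := ho' 0 4 (by omega) (by omega) (by omega)
  have e05 := ho' 0 5 (by omega) (by omega) (by omega)
  have e15 := ho' 1 5 (by omega) (by omega) (by omega)
  have e24 := ho' 2 4 (by omega) (by omega) (by omega)
  have e25 := ho' 2 5 (by omega) (by omega) (by omega)
  have e34 := ho' 3 4 (by omega) (by omega) (by omega)
  have e35 := ho' 3 5 (by omega) (by omega) (by omega)
  obtain ⟨t₁, ht₁⟩ := h.surj (swap (o 0) (o 1) * swap (o 2) (o 3)) (by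
    rw [Perm.mem_alternatingGroup, map_mul, Perm.sign_swap e01, Perm.sign_swap e23]; rfl)
  obtain ⟨t₂, ht₂⟩ := h.surj (swap (o 0) (o 1) * swap (o 4) (o 5)) (by
    rw [Perm.mem_alternatingGroup, map_mul, Perm.sign_swap e01, Perm.sign_swap e45]; rfl)
  have hd1 : Commute (swap (o 0) (o 1)) (swap (o 2) (o 3)) :=
    (Perm.disjoint_iff_eq_or_eq.2 fun x => by
      by_cases hx : x = o 0 ∨ x = o 1
      · right; rcases hx with rfl | rfl
        · exact swap_apply_of_ne_of_ne e02 e03
        · exact swap_apply_of_ne_of_ne e12 e13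
      · left; exact swap_apply_of_ne_of_ne (fun hh => hx (Or.inl hh)) (fun hh => hx (Or.inr hh))).commute
  have ht₃ : π (t₁ * t₂) = swap (o 2) (o 3) * swap (o 4) (o 5) := by
    rw [map_mul, ht₁, ht₂, hd1.eq, mul_assoc, ← mul_assoc (swap (o 0) (o 1)), swap_mul_self, one_mul]
  obtain ⟨hr1, hq1⟩ := hdt _ _ _ _ e01 e02 e03 e12 e13 e23 t₁ ht₁
  obtain ⟨hr2, hq2⟩ := hdt _ _ _ _ e01 e04 e05 e14 e15 e45 t₂ ht₂
  obtain ⟨hr3, hq3⟩ := hdt _ _ _ _ e23 e24 e25 e34 e35 e45 (t₁ * t₂) ht₃
  have hc12 : Commute t₁ t₂ := by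
    have h6 : t₁⁻¹ = t₁ := inv_eq_of_mul_eq_one_left hq1
    have h7 : t₂⁻¹ = t₂ := inv_eq_of_mul_eq_one_left hq2
    have h8 := inv_eq_of_mul_eq_one_left hq3
    rw [mul_inv_rev, h6, h7] at h8
    exact h8.symm
  have hs1 := finrank_split h2 hq2 (mov ρ t₁) fun w hw => mov_invariant hc12.symm hw
  have hs2 := finrank_split h2 hq1 (mov ρ t₂) fun w hw => mov_invariant hc12 hw
  have hs3 := finrank_split h2 hq1 (mov ρ (t₁ * t₂)) fun w hw => mov_invariant
    ((Commute.refl t₁).mul_right hc12) hw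
  have hb : mov ρ t₁ ⊓ fixd ρ t₂ ≤ mov ρ (t₁ * t₂) := fun w hw => (mem_mov_iff_neg h2 hq3).2 (by
    rw [mul_apply', mem_fixd.1 hw.2, (mem_mov_iff_neg h2 hq1).1 hw.1])
  have hc : mov ρ t₂ ⊓ fixd ρ t₁ ≤ mov ρ (t₁ * t₂) := fun w hw => (mem_mov_iff_neg h2 hq3).2 (by
    rw [mul_apply', (mem_mov_iff_neg h2 hq2).1 hw.1, map_neg, mem_fixd.1 hw.2])
  have h3a : mov ρ (t₁ * t₂) ⊓ mov ρ t₁ = mov ρ t₁ ⊓ fixd ρ t₂ := by
    refine le_antisymm (fun w hw => ⟨hw.2, mem_fixd.2 ?_⟩) fun w hw => ⟨hb hw, hw.1⟩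
    have h6 := (mem_mov_iff_neg h2 hq3).1 hw.1
    rw [hc12.eq, mul_apply', (mem_mov_iff_neg h2 hq1).1 hw.2, map_neg, neg_inj] at h6
    exact h6
  have h3b : mov ρ (t₁ * t₂) ⊓ fixd ρ t₁ = mov ρ t₂ ⊓ fixd ρ t₁ := by
    refine le_antisymm (fun w hw => ⟨(mem_mov_iff_neg h2 hq2).2 ?_, hw.2⟩) fun w hw => ⟨hc hw, hw.2⟩
    have h6 := (mem_mov_iff_neg h2 hq3).1 hw.1
    rw [hc12.eq, mul_apply', mem_fixd.1 hw.2] at h6
    exact h6
  rw [h3a, h3b, hr3] at hs3
  rw [hr1] at hs1
  rw [hr2, inf_comm (mov ρ t₂) (mov ρ t₁)] at hs2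
  obtain ⟨v, hvI, hv0⟩ := Submodule.exists_mem_ne_zero_of_ne_bot
    (show mov ρ t₁ ⊓ mov ρ t₂ ≠ ⊥ from fun h0 => by rw [h0, finrank_bot] at hs1 hs2; omega)
  -- fixed by the stabiliser of the first two points
  have hquad : fixEven ({o 0, o 1, o 2, o 3} : Finset (Fin r)) ≤ (fixer ρ (mov ρ t₁)).map π := by
    have ht₁mov : mov ρ t₁ ≤ mov ρ (L π e) := by
      refine hQ σ₁ ⟨![0, 2, 1, 3, 4], ![0, 2, 1, 3, 4], by decide, by decide⟩
        ⟨![0, 2, 1, 4, 3], ![0, 2, 1, 4, 3], by decide, by decide⟩ (by decide +kernel) t₁ ?_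
      rw [ht₁]
      rw [map_mul, via_swap, via_swap]
      rfl
    have hfS : ∀ i, f i ∉ ({o 0, o 1, o 2, o 3} : Finset (Fin r)) := fun i => by
      simp only [Finset.mem_insert, Finset.mem_singleton, not_or]
      exact ⟨ho' _ 0 (by omega) (by omega) (by omega), ho' _ 1 (by omega) (by omega) (by omega),
        ho' _ 2 (by omega) (by omega) (by omega), ho' _ 3 (by omega) (by omega) (by omega)⟩
    refine h.fixEven_le_fixer (le_trans (Nat.add_le_add_right Finset.card_le_four 5) (by omega))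
      (fun g hg => mem_stab.2 fun w hw => mov_invariant (hinj.eq_iff.1 ?_) hw) (x := L π f)
      (mem_fixer_iff_le.2 (ht₁mov.trans (ho f e fun i j hij => hef j i hij.symm))) ?_ ?_
    · rw [map_mul, map_mul, ht₁, ← mul_inv_eq_iff_eq_mul, ← hswap, hg.2 _ (by simp),
        hg.2 _ (by simp), hg.2 _ (by simp), hg.2 _ (by simp)]
    · rw [h.toExt.map_L hodd h52]; exact cyc_mem_fixEven f hodd hfS
    · rw [h.toExt.map_L hodd h52]; exact cyc_ne_one f h52
  let Hv : Subgroup (Perm (Fin r)) := (vfix ρ v).map π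
  have hH1 : fixEven ({o 0, o 1, o 2, o 3} : Finset (Fin r)) ≤ Hv :=
    hquad.trans (Subgroup.map_mono fun g hg => hg v hvI.1)
  have hH2 : fixEven ({o 0, o 1, o 4, o 5} : Finset (Fin r)) ≤ Hv := by
    intro σ hσ
    obtain ⟨g, rfl⟩ := h.surj σ hσ.1
    obtain ⟨y, hy⟩ := h.exists_conj (emb4 e01 e02 e03 e12 e13 e23) (emb4 e01 e04 e05 e14 e15 e45) (by omega)
    have hyt : y * t₁ * y⁻¹ = t₂ := hinj (by
      rw [map_mul, map_mul, map_inv, ht₁, ← hswap, ht₂, show π y (o 0) = o 0 from hy 0,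
        show π y (o 1) = o 1 from hy 1, show π y (o 2) = o 4 from hy 2, show π y (o 3) = o 5 from hy 3])
    have hz := hmem (hquad (show π (y⁻¹ * g * y) ∈ _ from ⟨h.even _, fun x hx => by
      rw [map_mul, map_mul, Perm.mul_apply, Perm.mul_apply, map_inv, Perm.inv_eq_iff_eq]
      refine hσ.2 _ ?_
      simp only [Finset.mem_insert, Finset.mem_singleton] at hx ⊢
      rcases hx with rfl | rfl | rfl | rfl
      · exact Or.inl (hy 0)
      · exact Or.inr (Or.inl (hy 1))
      · exact Or.inr (Or.inr (Or.inl (hy 2)))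
      · exact Or.inr (Or.inr (Or.inr (hy 3)))⟩))
    refine ⟨g, ?_, rfl⟩
    have h6 := map_mov_mem t₂ y⁻¹ hvI.2
    rw [← hyt, show y⁻¹ * (y * t₁ * y⁻¹) * y⁻¹⁻¹ = t₁ by group] at h6
    have h7 := hz _ h6
    rw [mul_apply', mul_apply', apply_inv] at h7
    exact rho_injective (ρ := ρ) y⁻¹ h7
  have hH3 : fixEven ({o 0, o 1} : Finset (Fin r)) ≤ Hv := by
    have e26 := ho' 2 6 (by omega) (by omega) (by omega)
    have hstep : ∀ x y : Fin r, x ≠ y → x ≠ o 0 → x ≠ o 1 → y ≠ o 0 → y ≠ o 1 →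
        x ≠ o 4 → x ≠ o 5 → y ≠ o 4 → y ≠ o 5 → fixEven ({o 0, o 1, x, y} : Finset (Fin r)) ≤ Hv →
        fixEven (insert x ({o 0, o 1} : Finset (Fin r))) ≤ Hv := by
      intro x y hxy hx0 hx1 hy0 hy1 hx4 hx5 hy4 hy5 hle
      obtain ⟨z, hz⟩ := exists_notMem (S := ({o 0, o 1, o 4, o 5, x, y} : Finset (Fin r)))
        (lt_of_le_of_lt Finset.card_le_six (by omega))
      simp only [Finset.mem_insert, Finset.mem_singleton, not_or] at hz
      obtain ⟨a, ha, hay⟩ := exists_fixEven_map (S := ({o 0, o 1, o 4, o 5, x} : Finset (Fin r)))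
        (a := y) (b := z) (by simp [hy0, hy1, hy4, hy5, Ne.symm hxy]) (by simp [hz.1, hz.2.1, hz.2.2.1, hz.2.2.2.1, hz.2.2.2.2.1])
        (le_trans (Nat.add_le_add_right Finset.card_le_five 3) (by omega))
      have haH : a ∈ Hv := hH2 (fixEven_mono (by intro q; simp; tauto) ha)
      have hza : fixEven ({o 0, o 1, x, z} : Finset (Fin r)) ≤ Hv := by
        intro g hg
        have h6 : a⁻¹ * g * a ∈ fixEven ({o 0, o 1, x, y} : Finset (Fin r)) := by
          refine ⟨mul_mem (mul_mem (inv_mem ha.1) hg.1) ha.1, fun q hq => ?_⟩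
          rw [Perm.mul_apply, Perm.mul_apply, Perm.inv_eq_iff_eq]
          refine hg.2 _ ?_
          simp only [Finset.mem_insert, Finset.mem_singleton] at hq ⊢
          rcases hq with rfl | rfl | rfl | rfl
          · exact Or.inl (ha.2 _ (by simp))
          · exact Or.inr (Or.inl (ha.2 _ (by simp)))
          · exact Or.inr (Or.inr (Or.inl (ha.2 _ (by simp))))
          · exact Or.inr (Or.inr (Or.inr hay))
        have h7 := mul_mem (mul_mem haH (hle h6)) (inv_mem haH)
        rwa [show a * (a⁻¹ * g * a) * a⁻¹ = g by group] at h7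
      refine fixEven_insert_sup (x := y) (y := z) (Ne.symm hz.2.2.2.2.2) (by simp [hy0, hy1, Ne.symm hxy])
        (by simp [hz.1, hz.2.1, hz.2.2.2.2.1]) (le_trans (Nat.add_le_add_right Finset.card_le_three 4) (by omega)) ?_ ?_
      · exact (fixEven_mono (by intro q; simp; tauto)).trans hle
      · exact (fixEven_mono (by intro q; simp; tauto)).trans hza
    have h3 := hstep (o 2) (o 3) e23 (Ne.symm e02) (Ne.symm e12) (Ne.symm e03) (Ne.symm e13) e24 e25 e34 e35 hH1
    have h4 := hstep (o 3) (o 2) (Ne.symm e23) (Ne.symm e03) (Ne.symm e13) (Ne.symm e02) (Ne.symm e12)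
      e34 e35 e24 e25 ((fixEven_mono (by intro q; simp; tauto)).trans hH1)
    exact fixEven_insert_sup e23 (by simp [Ne.symm e02, Ne.symm e12]) (by simp [Ne.symm e03, Ne.symm e13])
      (by rw [Finset.card_pair e01]; omega) h3 h4
  let P : PairVec π ρ :=
    { o₁ := o 0, o₂ := o 1, v := v, ne := e01, ne_zero := hv0, inj := hinj
      fix := fun g hg0 hg1 => mem_vfix.1 (hmem (hH3 ⟨h.even g, fun x hx => by
        simp only [Finset.mem_insert, Finset.mem_singleton] at hx
        rcases hx with rfl | rfl <;> assumption⟩)) }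
  have hu0 : P.vec h (o 0) (o 1) = v := PairVec.vec_base h P
  have hs0 : π t₁ (o 0) = o 1 := by rw [ht₁, Perm.mul_apply, swap_apply_of_ne_of_ne e02 e03, swap_apply_left]
  have hs1' : π t₁ (o 1) = o 0 := by rw [ht₁, Perm.mul_apply, swap_apply_of_ne_of_ne e12 e13, swap_apply_right]
  have hs2' : π t₁ (o 2) = o 3 := by
    rw [ht₁, Perm.mul_apply, swap_apply_left, swap_apply_of_ne_of_ne (Ne.symm e03) (Ne.symm e13)]
  have hs3' : π t₁ (o 3) = o 2 := by
    rw [ht₁, Perm.mul_apply, swap_apply_right, swap_apply_of_ne_of_ne (Ne.symm e02) (Ne.symm e12)]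
  have hanti : ∀ a b, P.vec h b a = -P.vec h a b := fun a b => by
    refine PairVec.anti_of_one h P e01 ?_ a b
    rw [← (mem_mov_iff_neg h2 hq1).1 (hu0 ▸ hvI.1 : P.vec h (o 0) (o 1) ∈ mov ρ t₁), PairVec.apply_vec, hs0, hs1']
  -- the moved space of the first involution
  have hA : P.vec h (o 2) (o 3) ∈ mov ρ t₁ := (mem_mov_iff_neg h2 hq1).2 (by
    rw [PairVec.apply_vec, hs2', hs3', hanti])
  have hindep : ∀ c : k, P.vec h (o 2) (o 3) ≠ c • v := by
    intro c hc
    have hc0 : c ≠ 0 := fun h0 => PairVec.vec_ne_zero h P e23 (by rw [hc, h0, zero_smul])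
    let W := Submodule.span k {v}
    have hA1 : fixEven ({o 0, o 1} : Finset (Fin r)) ≤ (vfix ρ v).map π := hH3
    have hA2 : fixEven ({o 2, o 3} : Finset (Fin r)) ≤ (vfix ρ v).map π := by
      intro σ hσ
      obtain ⟨g, rfl⟩ := h.surj σ hσ.1
      refine ⟨g, ?_, rfl⟩
      have h6 : ρ g (P.vec h (o 2) (o 3)) = P.vec h (o 2) (o 3) := by
        rw [PairVec.apply_vec, hσ.2 _ (by simp), hσ.2 _ (by simp)]
      rw [hc, map_smul] at h6
      exact smul_right_injective V hc0 h6
    obtain ⟨y, hy, hy24⟩ := exists_fixEven_map (S := ({o 0, o 1, o 3} : Finset (Fin r))) (a := o 2) (b := o 4)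
      (by simp [Ne.symm e02, Ne.symm e12, e23]) (by simp [Ne.symm e04, Ne.symm e14, Ne.symm e34])
      (le_trans (Nat.add_le_add_right Finset.card_le_three 3) (by omega))
    obtain ⟨z, hz, hz34⟩ := exists_fixEven_map (S := ({o 0, o 1, o 2} : Finset (Fin r))) (a := o 3) (b := o 4)
      (by simp [Ne.symm e03, Ne.symm e13, Ne.symm e23]) (by simp [Ne.symm e04, Ne.symm e14, Ne.symm e24])
      (le_trans (Nat.add_le_add_right Finset.card_le_three 3) (by omega))
    have hone : ∀ (x : Fin r) (y : Perm (Fin r)) (p : Fin r), y ∈ (vfix ρ v).map π → y x = x →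
        y p = o 4 → fixEven ({x, p} : Finset (Fin r)) ≤ (vfix ρ v).map π →
        fixEven ({x, o 4} : Finset (Fin r)) ≤ (vfix ρ v).map π := by
      intro x y p hyH hyx hyp hle g hg
      have h6 : y⁻¹ * g * y ∈ fixEven ({x, p} : Finset (Fin r)) := by
        obtain ⟨y', -, rfl⟩ := hyH
        refine ⟨mul_mem (mul_mem (inv_mem (h.even y')) hg.1) (h.even y'), fun q hq => ?_⟩
        rw [Perm.mul_apply, Perm.mul_apply, Perm.inv_eq_iff_eq]
        refine hg.2 _ ?_
        simp only [Finset.mem_insert, Finset.mem_singleton] at hq ⊢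
        rcases hq with rfl | rfl
        · exact Or.inl hyx
        · exact Or.inr hyp
      have h7 := mul_mem (mul_mem hyH (hle h6)) (inv_mem hyH)
      rwa [show y * (y⁻¹ * g * y) * y⁻¹ = g by group] at h7
    have h34 := hone (o 3) y (o 2) (hA1 (fixEven_mono (by intro q; simp; tauto) hy)) (hy.2 _ (by simp)) hy24
      ((fixEven_mono (by intro q; simp; tauto)).trans hA2)
    have h24 := hone (o 2) z (o 3) (hA1 (fixEven_mono (by intro q; simp; tauto) hz)) (hz.2 _ (by simp)) hz34 hA2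
    have hf3 : fixEven ({o 3} : Finset (Fin r)) ≤ (vfix ρ v).map π :=
      fixEven_insert_sup (x := o 2) (y := o 4) e24 (by simp [e23]) (by simp [Ne.symm e34]) (by simp; omega)
        hA2 ((fixEven_mono (by intro q; simp; tauto)).trans h34)
    have hf2 : fixEven ({o 2} : Finset (Fin r)) ≤ (vfix ρ v).map π :=
      fixEven_insert_sup (x := o 3) (y := o 4) e34 (by simp [Ne.symm e23]) (by simp [Ne.symm e24]) (by simp; omega)
        ((fixEven_mono (by intro q; simp; tauto)).trans hA2) ((fixEven_mono (by intro q; simp; tauto)).trans h24)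
    have hall : fixEven (∅ : Finset (Fin r)) ≤ (vfix ρ v).map π :=
      fixEven_insert_sup (x := o 2) (y := o 3) e23 (by simp) (by simp) (by simp; omega)
        (by simpa using hf2) (by simpa using hf3)
    have htop := h.eq_top_of_stab (W := W) (by simpa [W] using hv0) fun σ hσ => by
      obtain ⟨g, hg, rfl⟩ := hall ⟨hσ, by simp⟩
      refine ⟨g, mem_stab.2 fun w hw => ?_, rfl⟩
      obtain ⟨a, rfl⟩ := Submodule.mem_span_singleton.1 hw
      rw [map_smul, mem_vfix.1 hg]
      exact hw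
    have h6 := congrArg (fun W : Submodule k V => finrank k W) htop
    simp only [finrank_top, W, finrank_span_singleton hv0] at h6
    have := Submodule.finrank_le (mov ρ (L π e))
    omega
  have hspan : mov ρ t₁ = Submodule.span k {v, P.vec h (o 2) (o 3)} := by
    refine (Submodule.eq_of_le_of_finrank_le ?_ ?_).symm
    · rw [Submodule.span_le]
      intro w hw
      rcases hw with rfl | rfl
      · exact hvI.1
      · exact hA
    · rw [hr1]
      have hli : LinearIndependent k ![v, P.vec h (o 2) (o 3)] :=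
        (LinearIndependent.pair_iff' hv0).2 fun a ha => hindep a ha.symm
      have h6 := finrank_span_eq_card hli
      rw [Matrix.range_cons, Matrix.range_cons, Matrix.range_empty, Set.union_empty,
        Set.singleton_union, Fintype.card_fin] at h6
      rw [h6]
  -- the four-term relation
  have hw : ρ t₁ (P.vec h (o 1) (o 2) - P.vec h (o 0) (o 3)) = -(P.vec h (o 1) (o 2) - P.vec h (o 0) (o 3)) := by
    rw [map_sub, PairVec.apply_vec, PairVec.apply_vec, hs1', hs2', hs0, hs3', neg_sub]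
  obtain ⟨α, β, hαβ⟩ := Submodule.mem_span_pair.1 (hspan ▸ (mem_mov_iff_neg h2 hq1).2 hw)
  obtain ⟨g, hg⟩ := h.exists_conj (emb4 e01 e02 e03 e12 e13 e23)
    (emb4 e23 (Ne.symm e02) (Ne.symm e12) (Ne.symm e03) (Ne.symm e13) e01) (by omega)
  have g0 : π g (o 0) = o 2 := hg 0
  have g1 : π g (o 1) = o 3 := hg 1
  have g2 : π g (o 2) = o 0 := hg 2
  have g3 : π g (o 3) = o 1 := hg 3
  have hαeq : α = β := by
    have h6 := congrArg (ρ g) hαβ
    rw [map_add, map_smul, map_smul, map_sub, ← hu0, PairVec.apply_vec, PairVec.apply_vec,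
      PairVec.apply_vec, PairVec.apply_vec, g0, g1, g2, g3, hanti (o 0) (o 3), hanti (o 1) (o 2), hu0] at h6
    have h7 : (α - β) • (P.vec h (o 2) (o 3) - v) = 0 := by
      linear_combination (norm := module) (1 : k) • h6 - (1 : k) • hαβ
    rcases smul_eq_zero.1 h7 with h8 | h8
    · exact sub_eq_zero.1 h8
    · exact absurd (sub_eq_zero.1 h8) (by simpa using hindep 1)
  subst hαeq
  have hD : ∀ a b c d : Fin r, a ≠ b → a ≠ c → a ≠ d → b ≠ c → b ≠ d → c ≠ d →
      P.vec h b c - P.vec h a d = α • (P.vec h a b + P.vec h c d) := by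
    intro a b c d hab hac had hbc hbd hcd
    obtain ⟨y, hy⟩ := h.exists_conj (emb4 e01 e02 e03 e12 e13 e23) (emb4 hab hac had hbc hbd hcd) (by omega)
    have h6 := congrArg (ρ y) hαβ
    rw [map_add, map_smul, map_smul, map_sub, ← hu0, PairVec.apply_vec, PairVec.apply_vec,
      PairVec.apply_vec, PairVec.apply_vec, show π y (o 0) = a from hy 0, show π y (o 1) = b from hy 1,
      show π y (o 2) = c from hy 2, show π y (o 3) = d from hy 3] at h6
    rw [smul_add, h6]
  have hα2 : α = 1 ∨ α = -1 := by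
    have h6 := hD _ _ _ _ e12 e13 (Ne.symm e01) e23 (Ne.symm e02) (Ne.symm e03)
    rw [hanti (o 0) (o 1), hanti (o 0) (o 3), hu0] at h6
    have h7 : (α * α - 1) • (P.vec h (o 2) (o 3) - (-1 : k) • v) = 0 := by
      linear_combination (norm := module) α • hαβ - (1 : k) • h6
    rcases smul_eq_zero.1 h7 with h8 | h8
    · exact mul_self_eq_one_iff.1 (sub_eq_zero.1 h8)
    · exact absurd (sub_eq_zero.1 h8) (hindep (-1))
  rcases hα2 with rfl | rfl
  · exfalso
    have hstar : ∀ a b c d : Fin r, a ≠ b → a ≠ c → a ≠ d → b ≠ c → b ≠ d → c ≠ d →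
        P.vec h a b + P.vec h a c + P.vec h a d = 0 := by
      intro a b c d hab hac had hbc hbd hcd
      have d1 := hD a b c d hab hac had hbc hbd hcd
      have d2 := hD b a c d (Ne.symm hab) hbc hbd hac had hcd
      have d3 := hD a c b d hac hab had (Ne.symm hbc) hcd hbd
      simp only [one_smul, hanti a b, hanti b c] at d1 d2 d3
      have h6 : (2 : k) • (P.vec h a b + P.vec h a c + P.vec h a d) = 0 := by
        linear_combination (norm := module) (-1 : k) • d1 + (1 : k) • d2 - (1 : k) • d3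
      exact (smul_eq_zero.1 h6).resolve_left h2
    have heq : ∀ a b c : Fin r, a ≠ b → a ≠ c → b ≠ c → P.vec h a b = P.vec h a c := by
      intro a b c hab hac hbc
      obtain ⟨x, hx⟩ := exists_notMem (S := ({a, b, c} : Finset (Fin r))) (lt_of_le_of_lt Finset.card_le_three (by omega))
      obtain ⟨y, hy⟩ := exists_notMem (S := ({a, b, c, x} : Finset (Fin r))) (lt_of_le_of_lt Finset.card_le_four (by omega))
      simp only [Finset.mem_insert, Finset.mem_singleton, not_or] at hx hy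
      have s1 := hstar a x y b (Ne.symm hx.1) (Ne.symm hy.1) hab (Ne.symm hy.2.2.2) hx.2.1 hy.2.1
      have s2 := hstar a x y c (Ne.symm hx.1) (Ne.symm hy.1) hac (Ne.symm hy.2.2.2) hx.2.2 hy.2.2.1
      exact add_left_cancel (s1.trans s2.symm)
    have a1 := heq (o 0) (o 1) (o 2) e01 e02 e12
    have a2 := heq (o 1) (o 0) (o 2) (Ne.symm e01) e12 e02
    have a3 := heq (o 2) (o 0) (o 1) (Ne.symm e02) (Ne.symm e12) e01
    rw [hanti (o 0) (o 1)] at a2
    rw [hanti (o 0) (o 2), hanti (o 1) (o 2)] at a3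
    have h6 : (2 : k) • v = 0 := by
      rw [← hu0]
      linear_combination (norm := module) (1 : k) • a1 - (1 : k) • a2 - (1 : k) • a3
    exact hv0 ((smul_eq_zero.1 h6).resolve_left h2)
  refine PairVec.bound h P ?_ hanti
  let U : Fin r → Fin r → Fin r → V := fun a b c => P.vec h a b + P.vec h b c + P.vec h c a
  have hquad' : ∀ a b c d : Fin r, a ≠ b → a ≠ c → a ≠ d → b ≠ c → b ≠ d → c ≠ d →
      U a b c = -U a c d := by
    intro a b c d hab hac had hbc hbd hcd
    have d1 := hD a b c d hab hac had hbc hbd hcd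
    simp only [U, hanti a c, hanti a d]
    linear_combination (norm := module) (1 : k) • d1
  have hlast : ∀ a b c e : Fin r, a ≠ b → a ≠ c → a ≠ e → b ≠ c → b ≠ e → c ≠ e → U a b c = U a b e := by
    intro a b c e hab hac hae hbc hbe hce
    obtain ⟨x, hx⟩ := exists_notMem (S := ({a, b, c, e} : Finset (Fin r))) (lt_of_le_of_lt Finset.card_le_four (by omega))
    simp only [Finset.mem_insert, Finset.mem_singleton, not_or] at hx
    have q1 := hquad' a x b c (Ne.symm hx.1) hab hac hx.2.1 hx.2.2.1 hbc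
    have q2 := hquad' a x b e (Ne.symm hx.1) hab hae hx.2.1 hx.2.2.2 hbe
    exact neg_inj.1 (q1.symm.trans q2)
  intro a b c hab hbc hac
  obtain ⟨d, hd'⟩ := exists_notMem (S := ({a, b, c} : Finset (Fin r))) (lt_of_le_of_lt Finset.card_le_three (by omega))
  simp only [Finset.mem_insert, Finset.mem_singleton, not_or] at hd'
  have q1 := hquad' a b c d hab hac (Ne.symm hd'.1) hbc (Ne.symm hd'.2.1) (Ne.symm hd'.2.2)
  have q2 := hlast d a c b hd'.1 hd'.2.2 hd'.2.1 hac hab (Ne.symm hbc)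
  have q3 := hlast a b d c hab (Ne.symm hd'.1) hac (Ne.symm hd'.2.1) hbc hd'.2.2
  have h6 : (2 : k) • U a b c = 0 := by
    simp only [U] at q1 q2 q3 ⊢
    linear_combination (norm := module) (1 : k) • q1 - (1 : k) • q2 - (1 : k) • q3
  exact (smul_eq_zero.1 h6).resolve_left h2

end Hyp

end Cfsg.Agent.AltDegree
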