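import Cfsg.Agent.Lib.AltDegree.Tuples

/-!
The regular elementary abelian group on eight points: in odd characteristic the cover of `Alt(8)` has no
nontrivial representation of dimension less than seven.
-/

set_option autoImplicit false

namespace Cfsg.Agent.AltDegree

open Module Equiv

namespace Eight

/-- Translation by `a` on eight points. -/
def tr (a : Fin 8) : Perm (Fin 8) :=
  ⟨fun i => a ^^^ i, fun i => a ^^^ i, by revert a; decide, by revert a; decide⟩

/-- A linear map of order seven. -/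
def s : Perm (Fin 8) := ⟨![0, 2, 4, 6, 3, 1, 7, 5], ![0, 5, 1, 4, 2, 7, 3, 6], by decide, by decide⟩

theorem sign_tr : ∀ a, Perm.sign (tr a) = 1 := by decide +kernel

theorem sign_s : Perm.sign s = 1 := by decide +kernel

theorem s_pow : s ^ 7 = 1 := by decide +kernel

theorem conj_tr : ∀ a, s * tr a * s⁻¹ = tr (s a) := by decide +kernel

theorem tr_mul : ∀ a b, tr a * tr b = tr (a ^^^ b) := by decide +kernel

end Eight

variable {r : ℕ} {G : Type} [Group G] {π : G →* Perm (Fin r)} {k : Type} [Field k] [IsAlgClosed k]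
  {V : Type} [AddCommGroup V] [Module k V] [FiniteDimensional k V] {ρ : G →* End k V}

/-- The elements acting as scalars on an invariant subspace. -/
def scalarSub (ρ : G →* End k V) (W : Submodule k V) : Subgroup G where
  carrier := {g | ∃ c : k, c ≠ 0 ∧ ∀ w ∈ W, ρ g w = c • w}
  one_mem' := ⟨1, one_ne_zero, fun w _ => by rw [map_one, one_smul]; rfl⟩
  mul_mem' := fun {a b} ⟨c, hc, hca⟩ ⟨d, hd, hdb⟩ => ⟨d * c, mul_ne_zero hd hc, fun w hw => by
    rw [mul_apply', hdb w hw, map_smul, hca w hw, smul_smul]⟩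
  inv_mem' := fun {a} ⟨c, hc, hca⟩ => ⟨c⁻¹, inv_ne_zero hc, fun w hw => by
    have h1 := congrArg (ρ a⁻¹) (hca w hw)
    rw [inv_apply, map_smul] at h1
    conv_rhs => rw [h1, smul_smul, inv_mul_cancel₀ hc, one_smul]⟩

theorem conj_mem_scalarSub {g x : G} {W : Submodule k V} (hg : g ∈ stab ρ W)
    (hx : x ∈ scalarSub ρ W) : g * x * g⁻¹ ∈ scalarSub ρ W := by
  obtain ⟨c, hc, hcx⟩ := hx
  refine ⟨c, hc, fun w hw => ?_⟩
  rw [mul_apply', mul_apply', hcx _ (mem_stab.1 (inv_mem hg) w hw), map_smul, apply_inv]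

omit [FiniteDimensional k V] in
theorem comm_congr {x y x' y' : G} {Z : Subgroup G} (hZ : Z ≤ Subgroup.center G)
    (hx : x⁻¹ * x' ∈ Z) (hy : y⁻¹ * y' ∈ Z) : x * y * x⁻¹ * y⁻¹ = x' * y' * x'⁻¹ * y'⁻¹ := by
  obtain ⟨z, hz, rfl⟩ : ∃ z ∈ Z, x' = x * z := ⟨_, hx, (mul_inv_cancel_left x x').symm⟩
  obtain ⟨w, hw, rfl⟩ : ∃ w ∈ Z, y' = y * w := ⟨_, hy, (mul_inv_cancel_left y y').symm⟩
  have hzc := Subgroup.mem_center_iff.1 (hZ hz)
  have hwc := Subgroup.mem_center_iff.1 (hZ hw)
  calc x * y * x⁻¹ * y⁻¹ = x * (y * z) * (w * z⁻¹) * x⁻¹ * (w⁻¹ * y⁻¹) := by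
        rw [show x * (y * z) * (w * z⁻¹) = x * y * w by rw [hwc z⁻¹ |>.symm]; group,
          mul_assoc (x * y) w x⁻¹, ← hwc x⁻¹]
        group
    _ = x * z * (y * w) * (x * z)⁻¹ * (y * w)⁻¹ := by
        rw [hzc y]; group

namespace Hyp

variable (h : Hyp π ρ)
include h

theorem eight (h2 : (2 : k) ≠ 0) (f : Fin 8 ↪ Fin r) (W : Submodule k V)
    (hW : ∀ g, (∀ x, (∀ i, f i ≠ x) → π g x = x) → g ∈ stab ρ W) (hdim : finrank k W < 7)
    (e : Fin 3 ↪ Fin r) (he : ∀ i, ∃ j, f j = e i) : L π e ∈ fixer ρ W := by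
  classical
  have hr : 8 ≤ r := by simpa using Fintype.card_le_of_embedding f
  let S : Finset (Fin r) := (Finset.univ.map f)ᶜ
  have hS : ∀ x, x ∈ S ↔ ∀ i, f i ≠ x := fun x => by simp [S]
  have hScard : S.card + 5 ≤ r := by
    simp only [S, Finset.card_compl, Fintype.card_fin, Finset.card_map, Finset.card_univ]
    omega
  have hstab : ∀ g, π g ∈ fixEven S → g ∈ stab ρ W := fun g hg =>
    hW g fun x hx => hg.2 x ((hS x).2 hx)
  have hvia : ∀ p : Perm (Fin 8), Perm.sign p = 1 → Perm.viaEmbeddingHom f p ∈ fixEven S := by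
    intro p hp
    refine ⟨?_, fun x hx => Perm.viaEmbedding_apply_of_notMem _ _ _ (by
      rintro ⟨i, hi⟩; exact (hS x).1 hx i hi)⟩
    rw [Perm.mem_alternatingGroup, Perm.viaEmbeddingHom_apply, Perm.viaEmbedding]
    convert (Perm.sign_extendDomain p (ofInjective f.1 f.2)).trans hp
  rcases eq_or_ne W ⊥ with rfl | hW0
  · exact fun w hw => by rw [(Submodule.mem_bot k).1 hw, map_zero]
  choose g hg using fun a => h.toExt.surj _ (hvia _ (Eight.sign_tr a)).1
  obtain ⟨t, ht⟩ := h.toExt.surj _ (hvia _ Eight.sign_s).1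
  have hgst : ∀ a, g a ∈ stab ρ W := fun a => hstab _ (hg a ▸ hvia _ (Eight.sign_tr a))
  have htst : t ∈ stab ρ W := hstab _ (ht ▸ hvia _ Eight.sign_s)
  have hπc : ∀ a, π (t * g a * t⁻¹) = π (g (Eight.s a)) := fun a => by
    rw [map_mul, map_mul, map_inv, ht, hg, hg, ← Eight.conj_tr, map_mul, map_mul, map_inv]
  have hπm : ∀ a b, π (g a * g b) = π (g (a ^^^ b)) := fun a b => by
    rw [map_mul, hg, hg, hg, ← map_mul, Eight.tr_mul]
  have hsq : ∀ a, g a * g a ∈ π.ker := fun a => by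
    rw [MonoidHom.mem_ker, hπm, hg, show a ^^^ a = 0 by revert a; decide,
      show Eight.tr 0 = 1 by decide, map_one]
  -- all lifts of translations commute
  let c : Fin 8 → Fin 8 → G := fun a b => g a * g b * (g a)⁻¹ * (g b)⁻¹
  have hck : ∀ a b, c a b ∈ π.ker := fun a b => by
    simp only [c, MonoidHom.mem_ker]
    rw [map_mul, map_mul, map_mul, map_inv, map_inv, hg, hg, ← map_inv, ← map_inv, ← map_mul, ← map_mul,
      ← map_mul, show Eight.tr a * Eight.tr b * (Eight.tr a)⁻¹ * (Eight.tr b)⁻¹ = 1 by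
      revert a b; decide +kernel, map_one]
  have hcinv : ∀ a b, c b a = c a b := fun a b => by
    have h1 : c b a = (c a b)⁻¹ := by simp only [c]; group
    rw [h1, inv_eq_iff_mul_eq_one]
    exact h.toExt.sq _ (hck a b)
  have hcs : ∀ a b, c (Eight.s a) (Eight.s b) = c a b := fun a b => by
    simp only [c]
    rw [← comm_congr h.central (h.toExt.diff (hπc a)) (h.toExt.diff (hπc b)),
      show t * g a * t⁻¹ * (t * g b * t⁻¹) * (t * g a * t⁻¹)⁻¹ * (t * g b * t⁻¹)⁻¹ =
        t * (g a * g b * (g a)⁻¹ * (g b)⁻¹) * t⁻¹ by group,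
      (h.toExt.comm (hck a b) t).eq, mul_inv_cancel_right]
  have hcm : ∀ a b x, c (a ^^^ b) x = c b x * c a x := fun a b x => by
    simp only [c]
    rw [← comm_congr h.central (h.toExt.diff (hπm a b)) (y := g x) (y' := g x) (by simp),
      show g a * g b * g x * (g a * g b)⁻¹ * (g x)⁻¹ =
        g a * (g b * g x * (g b)⁻¹ * (g x)⁻¹) * (g a)⁻¹ * (g a * g x * (g a)⁻¹ * (g x)⁻¹) by group,
      (h.toExt.comm (hck b x) (g a)).eq, mul_inv_cancel_right]
  have h41 : c 4 1 = 1 := by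
    have e1 : c 2 4 = c 1 2 := hcs 1 2
    have e2 : c 4 3 = c 2 4 := hcs 2 4
    have e3 : c (1 ^^^ 2) 4 = c 2 4 * c 1 4 := hcm 1 2 4
    rw [show (1 : Fin 8) ^^^ 2 = 3 by decide, hcinv 4 3, e2, hcinv 4 1] at e3
    exact left_eq_mul.1 e3
  have h12 : c 1 2 = 1 := by
    have e1 : c 3 2 = c 4 1 := hcs 4 1
    have e2 : c (1 ^^^ 2) 2 = c 2 2 * c 1 2 := hcm 1 2 2
    rw [show (1 : Fin 8) ^^^ 2 = 3 by decide, e1, h41, show c 2 2 = 1 by simp only [c]; group,
      one_mul] at e2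
    exact e2.symm
  have h24 : c 2 4 = 1 := (hcs 1 2).trans h12
  have hbase : ∀ x y, x ∈ ({1, 2, 4} : Finset (Fin 8)) → y ∈ ({1, 2, 4} : Finset (Fin 8)) → c x y = 1 := by
    intro x y hx hy
    simp only [Finset.mem_insert, Finset.mem_singleton] at hx hy
    rcases hx with rfl | rfl | rfl <;> rcases hy with rfl | rfl | rfl <;>
      first | exact h41 | exact h12 | exact h24 | (simp only [c]; group; done) |
        (rw [hcinv]; first | exact h41 | exact h12 | exact h24)
  have hc0 : ∀ x, c 0 x = 1 := fun x => by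
    have := hcm 0 0 x
    rwa [show (0 : Fin 8) ^^^ 0 = 0 by decide, left_eq_mul] at this
  have hext : ∀ x, (∀ y ∈ ({1, 2, 4} : Finset (Fin 8)), c y x = 1) → ∀ a, c a x = 1 := by
    intro x hx
    have p1 := hx 1 (by simp); have p2 := hx 2 (by simp); have p4 := hx 4 (by simp)
    have p3 : c 3 x = 1 := by rw [show (3 : Fin 8) = 1 ^^^ 2 by decide, hcm, p1, p2, one_mul]
    intro a
    match a with
    | 0 => exact hc0 x
    | 1 => exact p1
    | 2 => exact p2
    | 3 => exact p3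
    | 4 => exact p4
    | 5 => rw [show (5 : Fin 8) = 1 ^^^ 4 by decide, hcm, p1, p4, one_mul]
    | 6 => rw [show (6 : Fin 8) = 2 ^^^ 4 by decide, hcm, p2, p4, one_mul]
    | 7 => rw [show (7 : Fin 8) = 3 ^^^ 4 by decide, hcm, p3, p4, one_mul]
  have hcall : ∀ a b, c a b = 1 := fun a b => hext b (fun y hy => by
    rw [hcinv]; exact hext y (fun z hz => hbase z y hz hy) b) a
  have hcomm : ∀ a b, Commute (g a) (g b) := fun a b => by
    have := hcall a b
    simp only [c, mul_inv_eq_one, mul_inv_eq_iff_eq_mul, one_mul] at this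
    exact this
  -- joint eigenvectors
  have hscal : ∀ a, ∃ d : k, ∀ w : V, ρ (g a * g a) w = d • w := fun a => by
    rcases h.ker_scalar (hsq a) with hz | hz
    · exact ⟨1, fun w => by rw [hz, one_smul]; rfl⟩
    · exact ⟨-1, fun w => by rw [hz]; simp⟩
  have hnz : ∀ {x : G} {d : k} {v : V}, v ≠ 0 → ρ x v = d • v → d ≠ 0 := fun {x d v} hv hd h0 =>
    hv (rho_injective (ρ := ρ) x (by rw [hd, h0, zero_smul, map_zero]))
  have hzs : ∀ {x y : G}, π x = π y → ∃ d : k, d ≠ 0 ∧ ∀ w : V, ρ y w = d • ρ x w := by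
    intro x y hxy
    obtain ⟨z, hz, rfl⟩ : ∃ z ∈ π.ker, y = x * z :=
      ⟨_, h.toExt.diff hxy, (mul_inv_cancel_left _ _).symm⟩
    rcases h.ker_scalar hz with hz' | hz'
    · exact ⟨1, one_ne_zero, fun w => by rw [mul_apply', hz', one_smul]; rfl⟩
    · exact ⟨-1, neg_ne_zero.2 one_ne_zero, fun w => by rw [mul_apply', hz']; simp⟩
  choose dz hdz0 hdz using fun a => hzs (hπc a)
  let F : (Fin 8 → k) → Fin 8 → k := fun χ a => dz (Eight.s.symm a) * χ (Eight.s.symm a)
  have hFinj : Function.Injective F := fun χ χ' hχ => funext fun a => by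
    have h1 := congrFun hχ (Eight.s a)
    simp only [F, Equiv.symm_apply_apply] at h1
    exact mul_left_cancel₀ (hdz0 a) h1
  have hstep : ∀ u : V, ∀ χ : Fin 8 → k, (∀ a, ρ (g a) u = χ a • u) →
      ∀ a, ρ (g a) (ρ t u) = F χ a • ρ t u := by
    intro u χ hχ a
    obtain ⟨b, rfl⟩ := Eight.s.surjective a
    rw [hdz b, conj_apply, hχ b, map_smul, smul_smul]
    simp only [F, Equiv.symm_apply_apply]
  have key : ∀ v ∈ W, v ≠ 0 → ∀ χ : Fin 8 → k, (∀ a, ρ (g a) v = χ a • v) →
      ∀ a, ρ (g a) (ρ t v) = χ a • ρ t v := by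
    intro v hvW hv0 χ hχ
    have hit : ∀ j a, ρ (g a) (ρ (t ^ j) v) = F^[j] χ a • ρ (t ^ j) v := by
      intro j
      induction j with
      | zero => intro a; simpa using hχ a
      | succ j ih =>
        intro a
        rw [pow_succ', mul_apply', Function.iterate_succ_apply']
        exact hstep _ _ ih a
    have hv' : ∀ j : ℕ, ρ (t ^ j) v ≠ 0 := fun j h0 =>
      hv0 (rho_injective (ρ := ρ) (t ^ j) (h0.trans (map_zero _).symm))
    have hne : ∀ j a, F^[j] χ a ≠ 0 := fun j a => hnz (hv' j) (hit j a)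
    have h7 : Function.IsPeriodicPt F 7 χ := funext fun a => by
      obtain ⟨d, hd0, hd⟩ := hzs (x := (1 : G)) (y := t ^ 7) (by
        rw [map_one, map_pow, ht, ← map_pow, Eight.s_pow, map_one])
      have h1 := hit 7 a
      rw [hd v, map_one, End.one_apply, map_smul, hχ a, smul_comm] at h1
      exact (smul_left_injective k (smul_ne_zero hd0 hv0) h1).symm
    obtain ⟨i, j, hij, hj, heq⟩ : ∃ i j, i < j ∧ j < 7 ∧ F^[i] χ = F^[j] χ := by
      by_contra hcon
      push Not at hcon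
      let χ' : Fin 7 → AddChar (Fin 8 → ℤ) k := fun i =>
        { toFun := fun x => ∏ a, F^[(i : ℕ)] χ a ^ x a
          map_zero_eq_one' := by simp
          map_add_eq_mul' := fun x y => by simp [zpow_add₀ (hne _ _), Finset.prod_mul_distrib] }
      have hinj : Function.Injective χ' := fun i i' hii => by
        have hval : F^[(i : ℕ)] χ = F^[(i' : ℕ)] χ := funext fun a => by
          have h1 := DFunLike.congr_fun hii (Pi.single a 1)
          simp only [χ', AddChar.coe_mk] at h1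
          rwa [Finset.prod_eq_single a (fun c _ hc => by simp [hc]) (by simp),
            Finset.prod_eq_single a (fun c _ hc => by simp [hc]) (by simp), Pi.single_eq_same, zpow_one,
            zpow_one] at h1
        rcases lt_trichotomy (i : ℕ) i' with hlt | heq | hgt
        · exact absurd hval (hcon i i' hlt i'.2)
        · exact Fin.ext heq
        · exact absurd hval.symm (hcon i' i hgt i.2)
      let T : (Fin 8 → ℤ) → End k W := fun x =>
        (ρ ((List.finRange 8).map fun a => g a ^ x a).prod).restrict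
          (mem_stab.1 (Subgroup.list_prod_mem _ (fun y hy => by
            obtain ⟨a, -, rfl⟩ := List.mem_map.1 hy
            exact zpow_mem (hgst a) _)))
      have hle := LinRep.CharOrbit.card_le_finrank T (Finset.univ.image χ') (fun ψ hψ => by
        obtain ⟨i, -, rfl⟩ := Finset.mem_image.1 hψ
        refine ⟨⟨ρ (t ^ (i : ℕ)) v, mem_stab.1 (pow_mem htst _) v hvW⟩,
          fun h0 => hv' i (congrArg Subtype.val h0), fun x => Subtype.ext ?_⟩
        have key : ∀ L' : List (Fin 8), ρ (L'.map fun a => g a ^ x a).prod (ρ (t ^ (i : ℕ)) v) =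
            (L'.map fun a => F^[(i : ℕ)] χ a ^ x a).prod • ρ (t ^ (i : ℕ)) v := by
          intro L'
          induction L' with
          | nil => simp
          | cons a L' ih =>
            rw [List.map_cons, List.prod_cons, List.map_cons, List.prod_cons, mul_apply', ih,
              map_smul, zpow_eig (hne _ _) (hit i a) (x a), smul_smul, mul_comm]
        refine (key (List.finRange 8)).trans ?_
        simp [χ', Fin.prod_univ_def])
      rw [Finset.card_image_of_injective _ hinj, Finset.card_univ, Fintype.card_fin] at hle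
      omega
    have hper : Function.IsPeriodicPt F (j - i) χ := by
      refine (hFinj.iterate i) ?_
      rw [← Function.iterate_add_apply, Nat.add_sub_cancel' hij.le, heq]
    have h1 : Function.IsPeriodicPt F (Nat.gcd 7 (j - i)) χ := h7.gcd hper
    rw [((Nat.Prime.coprime_iff_not_dvd (by norm_num : Nat.Prime 7)).2
      (Nat.not_dvd_of_pos_of_lt (by omega) (by omega))).gcd_eq_one] at h1
    intro a
    have h2 := hit 1 a
    rw [pow_one] at h2
    rwa [show F^[1] χ = χ from h1] at h2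
  -- all joint eigenvectors in `W` have one character
  obtain ⟨v₀, hv₀W, hv₀, hv₀χ⟩ := exists_joint g hcomm hW0 (fun a => mem_stab.1 (hgst a))
  choose χ₀ hχ₀ using hv₀χ
  have huniq : ∀ v ∈ W, v ≠ 0 → ∀ χ : Fin 8 → k, (∀ a, ρ (g a) v = χ a • v) → χ 1 = χ₀ 1 := by
    intro v hvW hv0 χ hχ
    let ψ : Fin 8 → k := fun a => χ a / χ₀ a
    have hψs : ∀ a, ψ (Eight.s a) = ψ a := by
      intro a
      obtain ⟨z, hz, hgz⟩ : ∃ z ∈ π.ker, g (Eight.s a) = t * g a * t⁻¹ * z :=
        ⟨_, h.toExt.diff (hπc a), (mul_inv_cancel_left _ _).symm⟩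
      obtain ⟨d, hdz⟩ : ∃ d : k, ∀ w : V, ρ z w = d • w := by
        rcases h.ker_scalar hz with hz' | hz'
        · exact ⟨1, fun w => by rw [hz', one_smul]; rfl⟩
        · exact ⟨-1, fun w => by rw [hz']; simp⟩
      have hone : ∀ v ∈ W, v ≠ 0 → ∀ χ : Fin 8 → k, (∀ a, ρ (g a) v = χ a • v) →
          χ (Eight.s a) = d * χ a ∧ d ≠ 0 := by
        intro v hvW hv0 χ hχ
        have h1 := key v hvW hv0 χ hχ (Eight.s a)
        rw [hgz, mul_apply', hdz, map_smul, conj_apply, hχ a, map_smul, smul_smul] at h1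
        exact ⟨(smul_left_injective k (fun h0 => hv0 (rho_injective (ρ := ρ) t
          (h0.trans (map_zero _).symm))) h1).symm, hnz hv0 (hdz v)⟩
      obtain ⟨h1, hd0⟩ := hone v hvW hv0 χ hχ
      obtain ⟨h2, -⟩ := hone v₀ hv₀W hv₀ χ₀ hχ₀
      simp only [ψ, h1, h2, mul_div_mul_left _ _ hd0]
    have hψm : ∀ a b, ψ (a ^^^ b) = ψ a * ψ b := by
      intro a b
      obtain ⟨z, hz, hgz⟩ : ∃ z ∈ π.ker, g (a ^^^ b) = g a * g b * z :=
        ⟨_, h.toExt.diff (hπm a b), (mul_inv_cancel_left _ _).symm⟩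
      obtain ⟨d, hdz⟩ : ∃ d : k, ∀ w : V, ρ z w = d • w := by
        rcases h.ker_scalar hz with hz' | hz'
        · exact ⟨1, fun w => by rw [hz', one_smul]; rfl⟩
        · exact ⟨-1, fun w => by rw [hz']; simp⟩
      have hone : ∀ v, v ≠ 0 → ∀ χ : Fin 8 → k, (∀ a, ρ (g a) v = χ a • v) →
          χ (a ^^^ b) = d * χ b * χ a ∧ d ≠ 0 := by
        intro v hv0 χ hχ
        have h1 := hχ (a ^^^ b)
        rw [hgz, mul_apply', hdz, map_smul, mul_apply', hχ b, map_smul, hχ a, smul_smul, smul_smul] at h1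
        exact ⟨(smul_left_injective k hv0 h1).symm.trans (by ring), hnz hv0 (hdz v)⟩
      obtain ⟨h1, hd0⟩ := hone v hv0 χ hχ
      obtain ⟨h2, -⟩ := hone v₀ hv₀ χ₀ hχ₀
      simp only [ψ, h1, h2, mul_assoc d, mul_div_mul_left _ _ hd0]
      rw [div_mul_div_comm, mul_comm (χ b), mul_comm (χ₀ b)]
    have hne : ∀ a, ψ a ≠ 0 := fun a => div_ne_zero (hnz hv0 (hχ a)) (hnz hv₀ (hχ₀ a))
    have e0 : ψ 0 = 1 := by
      have := hψm 0 0
      rw [show (0 : Fin 8) ^^^ 0 = 0 by decide] at this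
      exact (mul_eq_left₀ (hne 0)).1 this.symm
    have e12 : ψ 2 = ψ 1 := hψs 1
    have e24 : ψ 4 = ψ 2 := hψs 2
    have e43 : ψ 3 = ψ 4 := hψs 4
    have e3 := hψm 1 2
    rw [show (1 : Fin 8) ^^^ 2 = 3 by decide, e43, e24, e12] at e3
    have e1 : ψ 1 = 1 := (mul_eq_left₀ (hne 1)).1 e3.symm
    exact (div_eq_one_iff_eq (hnz hv₀ (hχ₀ 1))).1 e1
  have hscalar : g 1 ∈ scalarSub ρ W := by
    refine ⟨χ₀ 1, hnz hv₀ (hχ₀ 1), fun w hw => ?_⟩
    let A : End k V := ρ (g 1) - χ₀ 1 • (1 : End k V)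
    have hAapp : ∀ x, A x = ρ (g 1) x - χ₀ 1 • x := fun x => by simp [A]
    by_contra hne
    let Q : Submodule k V := W.map A
    have hQ : Q ≠ ⊥ := fun hbot => hne <| by
      have : A w ∈ Q := Submodule.mem_map_of_mem hw
      rwa [hbot, Submodule.mem_bot, hAapp, sub_eq_zero] at this
    have hQW : Q ≤ W := by
      rintro _ ⟨x, hx, rfl⟩
      rw [hAapp]
      exact W.sub_mem (mem_stab.1 (hgst 1) x hx) (W.smul_mem _ hx)
    obtain ⟨x, hxQ, hx0, hxχ⟩ := exists_joint g hcomm hQ (fun a y hy => by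
      obtain ⟨u, hu, rfl⟩ := hy
      refine ⟨ρ (g a) u, mem_stab.1 (hgst a) u hu, ?_⟩
      rw [hAapp, hAapp, map_sub, map_smul, commute_apply (hcomm 1 a)])
    choose χ hχ using hxχ
    have hx1 := hχ 1
    rw [huniq x (hQW hxQ) hx0 χ hχ] at hx1
    obtain ⟨u, -, rfl⟩ := hxQ
    obtain ⟨d, hd⟩ := hscal 1
    have hd' : d = χ₀ 1 * χ₀ 1 := by
      have h5 := hd v₀
      rw [mul_apply', hχ₀ 1, map_smul, hχ₀ 1, smul_smul] at h5
      exact (smul_left_injective k hv₀ h5).symm
    rw [hAapp, map_sub, map_smul, ← mul_apply', hd, hd', smul_sub, smul_smul] at hx1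
    have h6 : (2 * χ₀ 1) • (ρ (g 1) u - χ₀ 1 • u) = 0 := by
      rw [smul_sub, smul_smul, show (2 : k) * χ₀ 1 * χ₀ 1 = χ₀ 1 * χ₀ 1 + χ₀ 1 * χ₀ 1 by ring, add_smul,
        two_mul, add_smul]
      linear_combination (norm := module) (-1 : k) • hx1
    rw [← hAapp] at h6
    exact hx0 ((smul_eq_zero.1 h6).resolve_left (mul_ne_zero h2 (hnz hv₀ (hχ₀ 1))))
  have hle : fixEven S ≤ (scalarSub ρ W).map π := by
    refine fixEven_le_of_normalized hScard ?_ ⟨g 1, hscalar, rfl⟩ (hg 1 ▸ hvia _ (Eight.sign_tr 1)) ?_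
    · rintro σ hσ _ ⟨y, hy, rfl⟩
      obtain ⟨x, rfl⟩ := h.toExt.surj σ hσ.1
      exact ⟨x * y * x⁻¹, conj_mem_scalarSub (hstab x hσ) hy, by rw [map_mul, map_mul, map_inv]⟩
    · rw [hg, ← (Perm.viaEmbeddingHom f).map_one]
      exact fun h0 => absurd (Perm.viaEmbeddingHom_injective f h0) (by decide)
  have h3 : Odd 3 := by decide
  have heS : ∀ i, e i ∉ S := fun i hi => by
    obtain ⟨j, hj⟩ := he i
    exact (hS _).1 hi j hj
  obtain ⟨c', hc'0, hc'⟩ := h.L_mem_of_map h3 (by decide) (hle (cyc_mem_fixEven e h3 heS))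
  obtain ⟨a, ha⟩ := exists_notMem (S := Finset.univ.map e ∪ S) (by
    refine lt_of_le_of_lt (Finset.card_union_le _ _) ?_
    simp only [Finset.card_map, Finset.card_univ, Fintype.card_fin]
    omega)
  obtain ⟨b, hb⟩ := exists_notMem (S := insert a (Finset.univ.map e ∪ S)) (by
    refine lt_of_le_of_lt ((Finset.card_insert_le _ _).trans (Nat.add_le_add_right (Finset.card_union_le _ _) 1)) ?_
    simp only [Finset.card_map, Finset.card_univ, Fintype.card_fin]
    omega)
  simp only [Finset.mem_insert, Finset.mem_union, Finset.mem_map, Finset.mem_univ, true_and, not_or,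
    not_exists] at ha hb
  let p : Perm (Fin 3) := swap 0 1
  have hmem : swap (e 0) (e 1) * swap a b ∈ fixEven S := by
    refine ⟨?_, fun x hx => ?_⟩
    · rw [Perm.mem_alternatingGroup, map_mul, Perm.sign_swap (e.injective.ne (by decide)),
        Perm.sign_swap (Ne.symm hb.1)]
      rfl
    · rw [Perm.mul_apply, swap_apply_of_ne_of_ne (a := a) (fun hh : x = a => ha.2 (hh ▸ hx))
        (fun hh : x = b => hb.2.2 (hh ▸ hx)),
        swap_apply_of_ne_of_ne (fun hh : x = e 0 => heS 0 (hh ▸ hx)) (fun hh : x = e 1 => heS 1 (hh ▸ hx))]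
  obtain ⟨y, hy⟩ := h.toExt.surj _ hmem.1
  have hyL : y * L π e * y⁻¹ = L π e ^ 2 := by
    rw [h.conj_L_eq (f := p.toEmbedding.trans e) h3 (by decide) (fun i => by
      rw [hy, Perm.mul_apply, swap_apply_of_ne_of_ne (fun hh => ha.1 i hh) (fun hh => hb.2.1 i hh)]
      show swap (e 0) (e 1) (e i) = e (swap 0 1 i)
      exact (e.injective.swap_apply 0 1 i))]
    refine h.toExt.lift_unique h3 ?_ ?_
    · rw [map_pow, h.toExt.map_L h3 (by decide), cyc_equiv,
        show p * finRotate 3 * p⁻¹ = finRotate 3 ^ 2 by decide, map_pow]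
      rfl
    · rw [pow_right_comm, h.toExt.L_pow h3 (by decide), one_pow]
  intro w hw
  rcases eq_or_ne w 0 with rfl | hw0
  · rw [map_zero]
  have hy' : y ∈ stab ρ W := hstab y (hy ▸ hmem)
  have h5 := conj_apply (ρ := ρ) (L π e) y w
  rw [hyL, hc' w hw, map_smul, pow_eig (hc' _ (mem_stab.1 hy' w hw)) 2] at h5
  have h7 := smul_left_injective k (fun h0 => hw0 (rho_injective (ρ := ρ) y
    (h0.trans (map_zero _).symm))) h5
  have h8 : c' = 1 := mul_left_cancel₀ hc'0 (by rw [mul_one, ← pow_two]; exact h7)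
  rw [hc' w hw, h8, one_smul]

end Hyp

end Cfsg.Agent.AltDegree
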