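import Cfsg.Agent.Lib.AltDegree.CaseA
import Cfsg.Agent.Lib.AltDegree.Eight
import Cfsg.Agent.Lib.AltDegree.CaseB5

/-!
The bound for an irreducible faithful representation of a cover of the alternating group.
-/

set_option autoImplicit false

namespace Cfsg.Agent.AltDegree

open Module Equiv

variable {r : ℕ} {G : Type} [Group G] [Finite G] {π : G →* Perm (Fin r)} {k : Type} [Field k]
  [IsAlgClosed k] {V : Type} [AddCommGroup V] [Module k V] [FiniteDimensional k V]
  {ρ : G →* End k V}

namespace Hyp

variable (h : Hyp π ρ)
include h

open Classical in
/-- The irreducible case of the bound. -/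
theorem core (hB : ∀ m, m < finrank k V → Bound m) :
    r - 1 - (if (r : k) = 0 then 1 else 0) ≤ finrank k V := by
  have h9 := h.nine
  by_cases hbig : r - 1 ≤ finrank k V
  · omega
  have hif : (r : k) = 0 → r - 1 - (if (r : k) = 0 then 1 else 0) = r - 2 := fun h0 => by
    rw [if_pos h0]; omega
  let f8 : Fin 8 ↪ Fin r := Fin.castLEEmb (by omega)
  let e : Fin 3 ↪ Fin r := Fin.castLEEmb (by omega)
  have he8 : ∀ i, ∃ j, f8 j = e i := fun i => ⟨i.castLE (by decide), rfl⟩
  by_cases h3 : (3 : k) = 0
  · have h2 : (2 : k) ≠ 0 := fun h2 => one_ne_zero (α := k) (by linear_combination h3 - h2)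
    have h5 : (5 : k) ≠ 0 := fun h5 => one_ne_zero (α := k) (by linear_combination (2 : k) * h3 - h5)
    rcases eq_or_lt_of_le h9 with hr | hr
    · -- nine points
      have h0 : (r : k) = 0 := by rw [← hr]; push_cast; linear_combination (3 : k) * h3
      rw [hif h0]
      by_contra hlt
      have hfix := h.eight h2 f8 ⊤ (fun g _ => mem_stab.2 fun w _ => Submodule.mem_top)
        (by rw [finrank_top]; omega) e he8
      exact h.L_ne_one (by decide) (by decide) e
        (h.eq_one (LinearMap.ext fun v => hfix v Submodule.mem_top))
    · by_cases ho : Orth π ρ 5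
      · rcases h.five_orth h2 h5 (by omega) ho with hh | hh
        · exact hh
        · omega
      · by_cases hr14 : 14 ≤ r
        · have := h.recursion_five h5 hr14 ho hB
          omega
        · exact absurd (h.orth_five h5 (by omega)) ho
  · by_cases ho : Orth π ρ 3
    · rcases h.three_orth h3 ho with hh | hh
      · exact hh
      · omega
    · by_cases hr12 : 12 ≤ r
      · have := h.recursion_three h3 hr12 ho hB
        omega
      · obtain ⟨h8, hfix⟩ := h.three_small h3 ho (by omega)
        by_cases h5 : (5 : k) = 0
        · have hr : r = 9 ∨ r = 10 ∨ r = 11 := by omega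
          rcases hr with rfl | rfl | rfl
          · omega
          · have h0 : ((10 : ℕ) : k) = 0 := by push_cast; linear_combination (2 : k) * h5
            rw [hif h0]; omega
          · exfalso
            have h2 : (2 : k) ≠ 0 := fun h2 =>
              one_ne_zero (α := k) (by linear_combination h5 - (2 : k) * h2)
            haveI : NeZero ((3 : ℕ) : k) := ⟨by exact_mod_cast h3⟩
            obtain ⟨ω, hω⟩ := HasEnoughRootsOfUnity.exists_primitiveRoot k 3
            let x : Fin 3 ↪ Fin 11 := ⟨fun i => ⟨8 + i, by omega⟩, fun i j hij => by
              simpa [Fin.ext_iff] using hij⟩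
            have hx : ∀ i, (x i : ℕ) = 8 + i := fun i => rfl
            obtain ⟨hm, he⟩ := h.finrank_mov_three hω h3 (by omega) x
            have hsum := finrank_mov_add_fixd (ρ := ρ) (L π x)
            rw [hfix x, finrank_bot] at hsum
            have hpos : finrank k (eig ρ (L π x) ω) ≠ 0 := by omega
            have hfix8 := h.eight h2 f8 (eig ρ (L π x) ω) (fun g hg => mem_stab.2 fun w hw =>
              eig_invariant (h.toExt.commute_L_of_fix (by decide) (by decide) x fun i => hg _ fun j hj => by
                have := congrArg Fin.val hj
                rw [hx] at this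
                simp [f8] at this
                omega) hw) (by omega) e he8
            have hle := Submodule.finrank_mono (mem_fixer_iff_le.1 hfix8)
            rw [hfix e, finrank_bot] at hle
            omega
        · by_cases hr10 : 10 ≤ r
          · exact (h.three_small_five h3 h5 ho hr10 (by omega)).elim
          · omega

end Hyp

end Cfsg.Agent.AltDegree
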