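import Cfsg.Agent.Lib.AltDegree.Perm

/-!
Central extensions of the alternating group by a group of exponent two: canonical lifts of odd order.
-/

set_option autoImplicit false

namespace Cfsg.Agent.AltDegree

open Equiv

variable {r l : ℕ} {G : Type*} [Group G] {π : G →* Perm (Fin r)}

/-- A finite group covering `Alt(r)` with central kernel of exponent two and no proper supplement. -/
structure Ext (π : G →* Perm (Fin r)) : Prop where
  nine : 9 ≤ r
  surj : ∀ σ ∈ alternatingGroup (Fin r), ∃ g, π g = σ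
  even : ∀ g, π g ∈ alternatingGroup (Fin r)
  central : π.ker ≤ Subgroup.center G
  sq : ∀ z ∈ π.ker, z * z = 1
  top : ∀ H : Subgroup G, alternatingGroup (Fin r) ≤ H.map π → H = ⊤

/-- The lift of odd order dividing `l`. -/
noncomputable def lift (π : G →* Perm (Fin r)) (l : ℕ) (σ : Perm (Fin r)) : G :=
  Function.invFun π σ ^ (l + 1)

/-- The lift of odd order of the cycle along `e`. -/
noncomputable def L (π : G →* Perm (Fin r)) (e : Fin l ↪ Fin r) : G := lift π l (cyc e)

namespace Ext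

theorem map_invFun (h : Ext π) {σ : Perm (Fin r)} (hσ : σ ∈ alternatingGroup (Fin r)) :
    π (Function.invFun π σ) = σ :=
  Function.invFun_eq (h.surj σ hσ)

theorem diff (_h : Ext π) {g g' : G} (he : π g = π g') : g⁻¹ * g' ∈ π.ker := by
  rw [MonoidHom.mem_ker, map_mul, map_inv, he, inv_mul_cancel]

theorem comm (h : Ext π) {z : G} (hz : z ∈ π.ker) (g : G) : Commute g z :=
  Subgroup.mem_center_iff.1 (h.central hz) g

theorem pow_even (h : Ext π) {z : G} (hz : z ∈ π.ker) {m : ℕ} (hm : Even m) : z ^ m = 1 := by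
  obtain ⟨m, rfl⟩ := hm
  rw [← two_mul, pow_mul, pow_two, h.sq z hz, one_pow]

theorem map_lift (h : Ext π) {σ : Perm (Fin r)} (hσ : σ ∈ alternatingGroup (Fin r))
    (hσl : σ ^ l = 1) : π (lift π l σ) = σ := by
  rw [lift, map_pow, h.map_invFun hσ, pow_succ, hσl, one_mul]

theorem lift_pow (h : Ext π) (hl : Odd l) {σ : Perm (Fin r)} (hσ : σ ∈ alternatingGroup (Fin r))
    (hσl : σ ^ l = 1) : lift π l σ ^ l = 1 := by
  rw [lift, pow_right_comm]
  refine h.pow_even ?_ hl.add_one
  rw [MonoidHom.mem_ker, map_pow, h.map_invFun hσ, hσl]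

theorem lift_unique (h : Ext π) (hl : Odd l) {σ : Perm (Fin r)} {g : G} (hg : π g = σ)
    (hgl : g ^ l = 1) : lift π l σ = g := by
  have hσ : σ ∈ alternatingGroup (Fin r) := hg ▸ h.even g
  have hz := h.diff (hg.trans (h.map_invFun hσ).symm)
  rw [lift, ← mul_inv_cancel_left g (Function.invFun π σ), (h.comm hz g).mul_pow,
    h.pow_even hz hl.add_one, mul_one, pow_succ, hgl, one_mul]

theorem lift_eq_pow (h : Ext π) (hl : Odd l) {σ : Perm (Fin r)} (hσl : σ ^ l = 1) {g : G}
    (hg : π g = σ) : lift π l σ = g ^ (l + 1) := by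
  refine h.lift_unique hl ?_ ?_
  · rw [map_pow, hg, pow_succ, hσl, one_mul]
  · rw [pow_right_comm]
    exact h.pow_even (by rw [MonoidHom.mem_ker, map_pow, hg, hσl]) hl.add_one

theorem lift_conj (h : Ext π) (hl : Odd l) {σ : Perm (Fin r)} (hσ : σ ∈ alternatingGroup (Fin r))
    (hσl : σ ^ l = 1) (g : G) : g * lift π l σ * g⁻¹ = lift π l (π g * σ * (π g)⁻¹) := by
  refine (h.lift_unique hl ?_ ?_).symm
  · rw [map_mul, map_mul, map_inv, h.map_lift hσ hσl]
  · rw [conj_pow, h.lift_pow hl hσ hσl, mul_one, mul_inv_cancel]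

theorem map_L (h : Ext π) (hl : Odd l) (hl2 : 2 ≤ l) (e : Fin l ↪ Fin r) : π (L π e) = cyc e :=
  h.map_lift (sign_cyc e hl) (cyc_pow_card e hl2)

theorem L_pow (h : Ext π) (hl : Odd l) (hl2 : 2 ≤ l) (e : Fin l ↪ Fin r) : L π e ^ l = 1 :=
  h.lift_pow hl (sign_cyc e hl) (cyc_pow_card e hl2)

theorem L_conj (h : Ext π) (hl : Odd l) (hl2 : 2 ≤ l) (e : Fin l ↪ Fin r) (g : G) :
    g * L π e * g⁻¹ = L π (e.trans (π g).toEmbedding) := by
  rw [L, h.lift_conj hl (sign_cyc e hl) (cyc_pow_card e hl2), conj_cyc]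
  rfl

theorem commute_L (h : Ext π) (hl : Odd l) (hl2 : 2 ≤ l) (e : Fin l ↪ Fin r) {g : G}
    (hg : Commute (π g) (cyc e)) : Commute g (L π e) := by
  have h1 := h.lift_conj hl (sign_cyc e hl) (cyc_pow_card e hl2) g
  rw [hg.eq, mul_inv_cancel_right] at h1
  exact (mul_inv_eq_iff_eq_mul.1 h1)

theorem commute_L_of_fix (h : Ext π) (hl : Odd l) (hl2 : 2 ≤ l) (e : Fin l ↪ Fin r) {g : G}
    (hg : ∀ i, π g (e i) = e i) : Commute g (L π e) := by
  refine h.commute_L hl hl2 e ?_
  have h1 := conj_cyc (π g) e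
  rw [show e.trans (π g).toEmbedding = e from Function.Embedding.ext hg] at h1
  exact mul_inv_eq_iff_eq_mul.1 h1

theorem sq_eq (h : Ext π) {g g' : G} (he : π g = π g') : g * g = g' * g' := by
  have hz := h.diff he
  conv_rhs => rw [← mul_inv_cancel_left g g']
  rw [(h.comm hz g).symm.mul_mul_mul_comm g (g⁻¹ * g'), h.sq _ hz, mul_one]

/-- If the lifts of double transpositions are involutions, the extension is trivial. -/
theorem ker_eq_bot [Finite G] (h : Ext π)
    (hd : ∀ a b c d : Fin r, a ≠ b → c ≠ d → a ≠ c → a ≠ d → b ≠ c → b ≠ d → ∀ g,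
      π g = swap a b * swap c d → g * g = 1) : π.ker = ⊥ := by
  classical
  have h9 := h.nine
  obtain ⟨a, b, hab⟩ : ∃ a b : Fin r, a ≠ b :=
    ⟨⟨0, by omega⟩, ⟨1, by omega⟩, by simp⟩
  let T := SpinCover.Multiplier.tri (n := r) a b
  let s : Finset (Fin r) := (Finset.univ.erase a).erase b
  have hmem : ∀ {i}, i ∈ s ↔ i ≠ b ∧ i ≠ a := fun {i} => by simp [s]
  have h3 : ∀ i ∈ s, (T i).IsThreeCycle := fun i hi =>
    Perm.isThreeCycle_swap_mul_swap_same hab (hmem.1 hi).2.symm (hmem.1 hi).1.symm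
  have h31 : ∀ i ∈ s, T i ^ 3 = 1 := fun i hi => by
    rw [← (h3 i hi).orderOf, pow_orderOf_eq_one]
  let X : Fin r → G := fun i => lift π 3 (T i)
  have hX : ∀ i ∈ s, π (X i) = T i := fun i hi =>
    h.map_lift (h3 i hi).mem_alternatingGroup (h31 i hi)
  have hTop : Subgroup.closure (X '' (s : Set (Fin r))) = ⊤ := by
    refine h.top _ ((SpinCover.Multiplier.closure_tri a b hab).trans ((Subgroup.closure_le _).2 ?_))
    rintro _ ⟨i, ⟨hia, hib⟩, rfl⟩
    exact ⟨X i, Subgroup.subset_closure ⟨i, hmem.2 ⟨hib, hia⟩, rfl⟩, hX i (hmem.2 ⟨hib, hia⟩)⟩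
  have hb := SpinCover.carmichael_bound X s (fun i hi => by
    have := h.lift_pow (l := 3) (by decide) (h3 i hi).mem_alternatingGroup (h31 i hi)
    rwa [pow_succ, pow_two] at this) (fun i hi j hj hij => by
    obtain ⟨hib, hia⟩ := hmem.1 hi
    obtain ⟨hjb, hja⟩ := hmem.1 hj
    refine hd b i a j hib.symm hja.symm hab.symm hjb.symm hia hij _ ?_
    rw [map_mul, hX i hi, hX j hj]
    show swap a b * swap a i * (swap a b * swap a j) = swap b i * swap a j
    have h2 := Equiv.swap_apply_apply (swap a b) a i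
    rw [swap_apply_left, swap_apply_of_ne_of_ne hia hib, swap_inv] at h2
    rw [h2]; simp only [mul_assoc])
  rw [hTop, Subgroup.card_top] at hb
  have hs : s.card + 2 = r := by
    have h1 : b ∈ (Finset.univ : Finset (Fin r)).erase a := by simp [hab.symm]
    rw [Finset.card_erase_of_mem h1, Finset.card_erase_of_mem (Finset.mem_univ a), Finset.card_univ,
      Fintype.card_fin]
    omega
  rw [hs] at hb
  have hrange : π.range = alternatingGroup (Fin r) :=
    le_antisymm (by rintro _ ⟨g, rfl⟩; exact h.even g) fun σ hσ => h.surj σ hσ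
  have hidx : Nat.card G = Nat.card π.ker * Nat.card (alternatingGroup (Fin r)) := by
    rw [← Subgroup.card_mul_index π.ker, Subgroup.index_ker, hrange]
  haveI : Nontrivial (Fin r) := ⟨a, b, hab⟩
  have hA : 2 * Nat.card (alternatingGroup (Fin r)) = r.factorial := by
    rw [two_mul_nat_card_alternatingGroup, Nat.card_perm, Nat.card_fin]
  have hpos : 0 < Nat.card (alternatingGroup (Fin r)) := Nat.card_pos
  rw [hidx, ← hA, mul_left_comm] at hb
  have hle : Nat.card π.ker ≤ 1 := Nat.le_of_mul_le_mul_right (hb.trans (one_mul _).ge) (by omega)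
  exact (Subgroup.card_le_one_iff_eq_bot _).1 hle

end Ext

end Cfsg.Agent.AltDegree
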