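import Cfsg.Agent.Lib.AltDegree.Rep

/-!
An irreducible faithful representation of a cover of the alternating group: general lemmas on the
moved spaces of the lifted cycles.
-/

set_option autoImplicit false

namespace Cfsg.Agent.AltDegree

open Module Equiv

variable {r l : ℕ} {G : Type*} [Group G] {π : G →* Perm (Fin r)} {k : Type*} [Field k]
  {V : Type*} [AddCommGroup V] [Module k V] [FiniteDimensional k V] {ρ : G →* End k V}

/-- The standing hypothesis. -/
structure Hyp (π : G →* Perm (Fin r)) (ρ : G →* End k V) : Prop extends Ext π where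
  inj : Function.Injective ρ
  irr : ∀ W : Submodule k V, (∀ g, ∀ w ∈ W, ρ g w ∈ W) → W = ⊥ ∨ W = ⊤

/-- The setwise stabiliser of a subspace. -/
def stab (ρ : G →* End k V) (W : Submodule k V) : Subgroup G where
  carrier := {g | W.map (ρ g) = W}
  one_mem' := by show W.map (ρ 1) = W; rw [map_one]; exact Submodule.map_id _
  mul_mem' := fun {a b} ha hb => by
    show W.map (ρ (a * b)) = W
    rw [map_mul, End.mul_eq_comp, Submodule.map_comp]
    exact (congrArg (Submodule.map (ρ a)) hb).trans ha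
  inv_mem' := fun {a} ha => by
    show W.map (ρ a⁻¹) = W
    conv_lhs => rw [← (show W.map (ρ a) = W from ha)]
    rw [← Submodule.map_comp, ← End.mul_eq_comp, ← map_mul, inv_mul_cancel, map_one]
    exact Submodule.map_id _

theorem mem_stab {g : G} {W : Submodule k V} : g ∈ stab ρ W ↔ ∀ w ∈ W, ρ g w ∈ W := by
  constructor
  · intro h w hw
    have h' : W.map (ρ g) = W := h
    exact h' ▸ Submodule.mem_map_of_mem hw
  · intro h
    refine Submodule.eq_of_le_of_finrank_le (Submodule.map_le_iff_le_comap.2 h) ?_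
    exact finrank_le_of_map (ρ := ρ) g fun w hw => Submodule.mem_map_of_mem hw

/-- The pointwise stabiliser of a subspace. -/
def fixer (ρ : G →* End k V) (W : Submodule k V) : Subgroup G where
  carrier := {g | ∀ w ∈ W, ρ g w = w}
  one_mem' := fun w _ => by rw [map_one]; rfl
  mul_mem' := fun {a b} ha hb w hw => by rw [mul_apply', hb w hw, ha w hw]
  inv_mem' := fun {a} ha w hw => by conv_lhs => rw [← ha w hw, inv_apply]

theorem mem_fixer {g : G} {W : Submodule k V} : g ∈ fixer ρ W ↔ ∀ w ∈ W, ρ g w = w := Iff.rfl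

theorem mem_fixer_iff_le {g : G} {W : Submodule k V} : g ∈ fixer ρ W ↔ W ≤ fixd ρ g :=
  ⟨fun h w hw => mem_fixd.2 (h w hw), fun h w hw => mem_fixd.1 (h hw)⟩

theorem conj_mem_fixer {g x : G} {W : Submodule k V} (hg : g ∈ stab ρ W) (hx : x ∈ fixer ρ W) :
    g * x * g⁻¹ ∈ fixer ρ W := by
  intro w hw
  have h1 := mem_stab.1 (inv_mem hg) w hw
  rw [mul_apply', mul_apply', hx _ h1, apply_inv]

namespace Hyp

variable (h : Hyp π ρ)
include h

theorem eq_one {g : G} (hg : ρ g = 1) : g = 1 := h.inj (hg.trans (map_one ρ).symm)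

theorem L_ne_one (hl : Odd l) (hl2 : 2 ≤ l) (e : Fin l ↪ Fin r) : L π e ≠ 1 := fun h1 =>
  cyc_ne_one e hl2 (by rw [← h.toExt.map_L hl hl2 e, h1, map_one])

theorem mov_L_ne_bot (hl : Odd l) (hl2 : 2 ≤ l) (e : Fin l ↪ Fin r) : mov ρ (L π e) ≠ ⊥ := fun h1 =>
  h.L_ne_one hl hl2 e (h.eq_one (mov_eq_bot.1 h1))

theorem eq_top_of_stab {W : Submodule k V} (hW : W ≠ ⊥)
    (hs : alternatingGroup (Fin r) ≤ (stab ρ W).map π) : W = ⊤ := by
  have h1 := h.toExt.top _ hs
  exact (h.irr W fun g => mem_stab.1 (h1 ▸ Subgroup.mem_top g)).resolve_left hW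

theorem eq_bot_or_top_of_stab {W : Submodule k V}
    (hs : alternatingGroup (Fin r) ≤ (stab ρ W).map π) : W = ⊥ ∨ W = ⊤ :=
  (eq_or_ne W ⊥).imp id fun hW => h.eq_top_of_stab hW hs

theorem ker_scalar [IsAlgClosed k] {z : G} (hz : z ∈ π.ker) : ρ z = 1 ∨ ρ z = -1 := by
  cases subsingleton_or_nontrivial V with
  | inl hV => exact Or.inl (LinearMap.ext fun v => Subsingleton.elim _ _)
  | inr hV =>
    obtain ⟨c, hc⟩ := End.exists_eigenvalue (ρ z)
    have htop : eig ρ z c = ⊤ := by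
      refine (h.irr _ fun g w hw => ?_).resolve_left ?_
      · exact eig_invariant (h.toExt.comm hz g) hw
      · exact hc
    obtain ⟨v, hv⟩ := exists_ne (0 : V)
    have hcz : ∀ w, ρ z w = c • w := fun w => mem_eig.1 (htop ▸ Submodule.mem_top)
    have h1 : c * c = 1 := by
      have h2 : ρ (z * z) v = (c * c) • v := by rw [mul_apply', hcz (ρ z v), hcz v, smul_smul]
      rw [h.toExt.sq z hz, map_one, End.one_apply] at h2
      exact smul_left_injective k hv (show (c * c) • v = (1 : k) • v by rw [one_smul, ← h2])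
    rcases mul_self_eq_one_iff.1 h1 with rfl | rfl
    · exact Or.inl (LinearMap.ext fun w => by simp [hcz])
    · exact Or.inr (LinearMap.ext fun w => by simp [hcz])

/-- A single nontrivial element acting trivially forces a whole stabiliser to. -/
theorem fixEven_le_fixer {S : Finset (Fin r)} (hS : S.card + 5 ≤ r) {W : Submodule k V}
    (hW : ∀ g, π g ∈ fixEven S → g ∈ stab ρ W) {x : G} (hx : x ∈ fixer ρ W)
    (hxS : π x ∈ fixEven S) (hx1 : π x ≠ 1) : fixEven S ≤ (fixer ρ W).map π := by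
  refine fixEven_le_of_normalized hS ?_ ⟨x, hx, rfl⟩ hxS hx1
  rintro σ hσ _ ⟨y, hy, rfl⟩
  obtain ⟨g, rfl⟩ := h.toExt.surj σ hσ.1
  exact ⟨g * y * g⁻¹, conj_mem_fixer (hW g hσ) hy, by rw [map_mul, map_mul, map_inv]⟩

theorem L_mem_of_map (hl : Odd l) (hl2 : 2 ≤ l) {e : Fin l ↪ Fin r} {H : Subgroup G}
    (he : cyc e ∈ H.map π) : L π e ∈ H := by
  obtain ⟨g, hg, hge⟩ := he
  rw [L, h.toExt.lift_eq_pow hl (cyc_pow_card e hl2) hge]
  exact pow_mem hg _

theorem exists_conj {j : ℕ} (e f : Fin j ↪ Fin r) (hj : j + 2 ≤ r) :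
    ∃ g, ∀ i, π g (e i) = f i := by
  obtain ⟨σ, hσ, hσe⟩ := exists_even_map e f hj
  obtain ⟨g, rfl⟩ := h.toExt.surj σ hσ
  exact ⟨g, hσe⟩

theorem conj_L_eq (hl : Odd l) (hl2 : 2 ≤ l) {e f : Fin l ↪ Fin r} {g : G}
    (hg : ∀ i, π g (e i) = f i) : g * L π e * g⁻¹ = L π f := by
  rw [h.toExt.L_conj hl hl2]
  congr 1
  exact Function.Embedding.ext hg

theorem finrank_mov_L (hl : Odd l) (hl2 : 2 ≤ l) (hr : l + 2 ≤ r) (e f : Fin l ↪ Fin r) :
    finrank k (mov ρ (L π f)) = finrank k (mov ρ (L π e)) := by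
  obtain ⟨g, hg⟩ := h.exists_conj e f hr
  rw [← h.conj_L_eq hl hl2 hg, finrank_mov_conj]

theorem L_commute_of_disjoint (hl : Odd l) (hl2 : 2 ≤ l) {l' : ℕ} (hl' : Odd l') (hl2' : 2 ≤ l')
    {e : Fin l ↪ Fin r} {f : Fin l' ↪ Fin r} (hd : ∀ i j, e i ≠ f j) :
    Commute (L π f) (L π e) := by
  refine h.toExt.commute_L_of_fix hl hl2 e fun i => ?_
  rw [h.toExt.map_L hl' hl2']
  exact cyc_apply_notMem f fun j hj => hd i j hj.symm

end Hyp

/-- Any two disjoint lifted `l`-cycles fix each other's moved space. -/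
def Orth (π : G →* Perm (Fin r)) (ρ : G →* End k V) (l : ℕ) : Prop :=
  ∀ e f : Fin l ↪ Fin r, (∀ i j, e i ≠ f j) → mov ρ (L π f) ≤ fixd ρ (L π e)

/-- The sum of the moved spaces of the cycles inside `S`. -/
noncomputable def X (π : G →* Perm (Fin r)) (ρ : G →* End k V) (l : ℕ) (S : Finset (Fin r)) : Submodule k V :=
  ⨆ e : {e : Fin l ↪ Fin r // ∀ i, e i ∈ S}, mov ρ (L π e.1)

theorem mov_le_X {S : Finset (Fin r)} (e : Fin l ↪ Fin r) (he : ∀ i, e i ∈ S) :
    mov ρ (L π e) ≤ X π ρ l S :=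
  le_iSup (fun e : {e : Fin l ↪ Fin r // ∀ i, e i ∈ S} => mov ρ (L π e.1)) ⟨e, he⟩

theorem exists_emb {S : Finset (Fin r)} (hS : l ≤ S.card) : ∃ e : Fin l ↪ Fin r, ∀ i, e i ∈ S := by
  refine ⟨(Fin.castLEEmb hS).trans ((S.orderEmbOfFin rfl).toEmbedding), fun i => ?_⟩
  exact Finset.orderEmbOfFin_mem S rfl _

namespace Hyp

variable (h : Hyp π ρ)
include h

theorem X_map_mem (hl : Odd l) (hl2 : 2 ≤ l) {S T : Finset (Fin r)} {g : G}
    (hg : ∀ i ∈ S, π g i ∈ T) {w : V} (hw : w ∈ X π ρ l S) : ρ g w ∈ X π ρ l T := by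
  have hle : X π ρ l S ≤ (X π ρ l T).comap (ρ g) := by
    refine iSup_le fun e w hw => ?_
    have h1 := map_mov_mem (L π e.1) g hw
    rw [h.toExt.L_conj hl hl2] at h1
    exact mov_le_X (e.1.trans (π g).toEmbedding) (fun i => hg _ (e.2 i)) h1
  exact hle hw

theorem X_le_fixd (hl : Odd l) (hl2 : 2 ≤ l) (ho : Orth π ρ l) {S : Finset (Fin r)}
    (f : Fin l ↪ Fin r) (hf : ∀ i, f i ∉ S) : X π ρ l S ≤ fixd ρ (L π f) :=
  iSup_le fun e => ho f e.1 fun i j hij => hf i (hij ▸ e.2 j)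

theorem X_lt (hl : Odd l) (hl3 : 3 ≤ l) (ho : Orth π ρ l) {S : Finset (Fin r)} {a : Fin r}
    (ha : a ∉ S) (hS : l ≤ S.card) (hSr : S.card + l ≤ r) :
    X π ρ l S < X π ρ l (insert a S) := by
  refine lt_of_le_of_ne (iSup_le fun e => mov_le_X e.1 fun i => Finset.mem_insert_of_mem (e.2 i))
    fun heq => ?_
  obtain ⟨e, he⟩ := exists_emb hS
  have hne : X π ρ l S ≠ ⊥ := fun h0 =>
    h.mov_L_ne_bot hl (by omega) e (eq_bot_iff.2 (h0 ▸ mov_le_X e he))
  have htop : X π ρ l S = ⊤ := by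
    refine h.eq_top_of_stab hne (alt_le_of_overlap ha (by omega) (by omega) ?_ ?_)
    · intro σ hσ
      obtain ⟨g, rfl⟩ := h.toExt.surj σ hσ.1
      refine ⟨g, mem_stab.2 fun w hw => ?_, rfl⟩
      rw [heq] at hw ⊢
      refine h.X_map_mem hl (by omega) (fun i hi => ?_) hw
      by_contra hc
      have h1 := hσ.2 _ (Finset.mem_compl.2 hc)
      rw [(π g).injective h1] at hc
      exact hc hi
    · intro σ hσ
      obtain ⟨g, rfl⟩ := h.toExt.surj σ hσ.1
      exact ⟨g, mem_stab.2 fun w hw => h.X_map_mem hl (by omega) (fun i hi => by rwa [hσ.2 i hi]) hw,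
        rfl⟩
  obtain ⟨f, hf⟩ := exists_emb (S := Sᶜ) (l := l) (by rw [Finset.card_compl, Fintype.card_fin]; omega)
  have h2 := h.X_le_fixd hl (by omega) ho f (fun i => Finset.mem_compl.1 (hf i))
  rw [htop] at h2
  exact h.L_ne_one hl (by omega) f (h.eq_one (LinearMap.ext fun v => mem_fixd.1 (h2 trivial)))

/-- Growth of the sums of moved spaces. -/
theorem growth (hl : Odd l) (hl3 : 3 ≤ l) (hlk : (l : k) ≠ 0) (hr : l + 2 ≤ r) (ho : Orth π ρ l)
    (e₀ : Fin l ↪ Fin r) :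
    ∀ j, ∀ S : Finset (Fin r), l ≤ S.card → S.card + j + l = r →
      finrank k (X π ρ l S) + j + finrank k (mov ρ (L π e₀)) ≤ finrank k V := by
  intro j
  induction j with
  | zero =>
    intro S hS hSr
    obtain ⟨f, hf⟩ := exists_emb (S := Sᶜ) (l := l) (by rw [Finset.card_compl, Fintype.card_fin]; omega)
    have h2 := h.X_le_fixd hl (by omega) ho f (fun i => Finset.mem_compl.1 (hf i))
    have h3 := Submodule.finrank_mono h2
    have h4 := finrank_mov_add_fixd (ρ := ρ) (L π f)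
    rw [h.finrank_mov_L hl (by omega) hr f e₀]
    omega
  | succ j ih =>
    intro S hS hSr
    obtain ⟨a, ha⟩ := exists_notMem (S := S) (by omega)
    have h1 := Submodule.finrank_lt_finrank_of_lt (h.X_lt hl hl3 ho ha hS (by omega))
    have h2 := ih (insert a S) (by rw [Finset.card_insert_of_notMem ha]; omega)
      (by rw [Finset.card_insert_of_notMem ha]; omega)
    omega

/-- Disjoint cycles give independent moved spaces. -/
theorem orth_sum (hl : Odd l) (hl2 : 2 ≤ l) (hlk : (l : k) ≠ 0) (hr : l + 2 ≤ r)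
    (ho : Orth π ρ l) (e₀ : Fin l ↪ Fin r) :
    r / l * finrank k (mov ρ (L π e₀)) ≤ finrank k V := by
  have key : ∀ m, m * l ≤ r → ∃ (S : Finset (Fin r)) (W : Submodule k V),
      S.card = m * l ∧ m * finrank k (mov ρ (L π e₀)) ≤ finrank k W ∧
      ∀ f : Fin l ↪ Fin r, (∀ i, f i ∉ S) → W ≤ fixd ρ (L π f) := by
    intro m
    induction m with
    | zero => exact fun _ => ⟨∅, ⊥, by simp, by simp, fun f _ => bot_le⟩
    | succ m ih =>
      intro hm
      rw [add_one_mul] at hm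
      obtain ⟨S, W, hS, hW, hWf⟩ := ih (by omega)
      obtain ⟨e, he⟩ := exists_emb (S := Sᶜ) (l := l) (by rw [Finset.card_compl, Fintype.card_fin]; omega)
      refine ⟨S ∪ Finset.univ.map e, W ⊔ mov ρ (L π e), ?_, ?_, ?_⟩
      · rw [Finset.card_union_of_disjoint, hS, Finset.card_map, Finset.card_univ, Fintype.card_fin,
          add_one_mul]
        rw [Finset.disjoint_left]
        intro x hx hx'
        obtain ⟨i, -, rfl⟩ := Finset.mem_map.1 hx'
        exact Finset.mem_compl.1 (he i) hx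
      · have h1 := Submodule.finrank_sup_add_finrank_inf_eq W (mov ρ (L π e))
        have h2 : W ⊓ mov ρ (L π e) = ⊥ := by
          rw [eq_bot_iff, ← disjoint_mov_fixd (ρ := ρ) (h.toExt.L_pow hl hl2 e) hlk]
          exact le_inf inf_le_right (inf_le_left.trans (hWf e fun i => Finset.mem_compl.1 (he i)))
        rw [h2, finrank_bot, h.finrank_mov_L hl hl2 hr e₀ e] at h1
        rw [add_one_mul]
        omega
      · intro f hf
        refine sup_le (hWf f fun i hi => hf i (Finset.mem_union_left _ hi)) (ho f e fun i j hij => ?_)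
        exact hf i (Finset.mem_union_right _ (Finset.mem_map.2 ⟨j, Finset.mem_univ _, hij.symm⟩))
  obtain ⟨S, W, -, hW, -⟩ := key (r / l) (Nat.div_mul_le_self r l)
  exact hW.trans (Submodule.finrank_le W)

variable [IsAlgClosed k]

/-- The nontrivial eigenspaces of a lifted cycle are permuted by doubling the exponent. -/
theorem finrank_eig_le (hl : Odd l) (hl2 : 2 ≤ l) (hr : l + 2 ≤ r) (e : Fin l ↪ Fin r)
    (p : Perm (Fin l)) (hp : p * finRotate l * p⁻¹ = finRotate l ^ 2) (c : k) :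
    finrank k (eig ρ (L π e) c) ≤ finrank k (eig ρ (L π e) (c ^ ((l + 1) / 2))) := by
  obtain ⟨g, hg⟩ := h.exists_conj e (p.toEmbedding.trans e) hr
  have h2 : L π (p.toEmbedding.trans e) = L π e ^ 2 := by
    refine h.toExt.lift_unique hl ?_ ?_
    · rw [map_pow, h.toExt.map_L hl hl2, cyc_equiv, hp, map_pow]
      rfl
    · rw [pow_right_comm, h.toExt.L_pow hl hl2, one_pow]
  refine finrank_le_of_map (ρ := ρ) g fun w hw => mem_eig.2 ?_
  have h3 := map_eig_mem (L π e) g hw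
  rw [h.conj_L_eq hl hl2 hg, h2, mem_eig] at h3
  have h4 := pow_eig h3 ((l + 1) / 2)
  rwa [← pow_mul, show 2 * ((l + 1) / 2) = l + 1 by obtain ⟨m, rfl⟩ := hl; omega, pow_succ,
    h.toExt.L_pow hl hl2, one_mul] at h4

theorem finrank_mov_three {ω : k} (hω : IsPrimitiveRoot ω 3) (h3 : (3 : k) ≠ 0) (hr : 5 ≤ r)
    (e : Fin 3 ↪ Fin r) :
    finrank k (mov ρ (L π e)) = 2 * finrank k (eig ρ (L π e) ω) ∧
    finrank k (eig ρ (L π e) (ω ^ 2)) = finrank k (eig ρ (L π e) ω) := by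
  let p : Perm (Fin 3) := ⟨fun i => 2 * i, fun i => 2 * i, by decide, by decide⟩
  have hle := fun c => h.finrank_eig_le (by decide : Odd 3) (by decide) hr e p (by decide) c
  have h1 := hle ω
  have h2 := hle (ω ^ 2)
  rw [show (3 + 1) / 2 = 2 by rfl] at h1 h2
  rw [← pow_mul, show 2 * 2 = 3 + 1 by rfl, pow_succ ω 3, hω.pow_eq_one, one_mul] at h2
  have heq := le_antisymm h2 h1
  refine ⟨?_, heq⟩
  have h4 := finrank_eq_sum (ρ := ρ) (h.toExt.L_pow (by decide) (by decide) e) (by exact_mod_cast h3) hω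
  rw [Fin.sum_univ_three] at h4
  have e0 : eig ρ (L π e) (ω ^ ((0 : Fin 3) : ℕ)) = fixd ρ (L π e) := by simp [eig_one]
  have e1 : eig ρ (L π e) (ω ^ ((1 : Fin 3) : ℕ)) = eig ρ (L π e) ω := by simp
  rw [e0, e1, show ((2 : Fin 3) : ℕ) = 2 from rfl, heq] at h4
  have h5 := finrank_mov_add_fixd (ρ := ρ) (L π e)
  omega

theorem finrank_mov_five {ω : k} (hω : IsPrimitiveRoot ω 5) (h5 : (5 : k) ≠ 0) (hr : 7 ≤ r)
    (e : Fin 5 ↪ Fin r) :
    finrank k (mov ρ (L π e)) = 4 * finrank k (eig ρ (L π e) ω) ∧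
    ∀ i, ¬ 5 ∣ i → finrank k (eig ρ (L π e) (ω ^ i)) = finrank k (eig ρ (L π e) ω) := by
  let p : Perm (Fin 5) := ⟨fun i => 2 * i, fun i => 3 * i, by decide, by decide⟩
  have hle := fun c => h.finrank_eig_le (by decide : Odd 5) (by decide) hr e p (by decide) c
  have hmod : ∀ a : ℕ, ω ^ a = ω ^ (a % 5) := fun a => pow_eq_pow_mod a hω.pow_eq_one
  have h1 := hle (ω ^ 1)
  have h2 := hle (ω ^ 3)
  have h4 := hle (ω ^ 4)
  have h3 := hle (ω ^ 2)
  rw [← pow_mul, show 1 * ((5 + 1) / 2) = 3 by rfl, pow_one] at h1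
  rw [← pow_mul, hmod (3 * _), show 3 * ((5 + 1) / 2) % 5 = 4 by rfl] at h2
  rw [← pow_mul, hmod (4 * _), show 4 * ((5 + 1) / 2) % 5 = 2 by rfl] at h4
  rw [← pow_mul, hmod (2 * _), show 2 * ((5 + 1) / 2) % 5 = 1 by rfl, pow_one] at h3
  have hall : ∀ i, ¬ 5 ∣ i → finrank k (eig ρ (L π e) (ω ^ i)) = finrank k (eig ρ (L π e) ω) := by
    intro i hi
    rw [hmod i]
    have : i % 5 = 1 ∨ i % 5 = 2 ∨ i % 5 = 3 ∨ i % 5 = 4 := by omega
    rcases this with hj | hj | hj | hj <;> rw [hj] <;> (try rw [pow_one]) <;> omega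
  refine ⟨?_, hall⟩
  have hs := finrank_eq_sum (ρ := ρ) (h.toExt.L_pow (by decide) (by decide) e) (by exact_mod_cast h5) hω
  rw [Fin.sum_univ_five] at hs
  have e0 : eig ρ (L π e) (ω ^ ((0 : Fin 5) : ℕ)) = fixd ρ (L π e) := by simp [eig_one]
  rw [e0, hall _ (by decide), hall _ (by decide), hall _ (by decide), hall _ (by decide)] at hs
  have h6 := finrank_mov_add_fixd (ρ := ρ) (L π e)
  omega

end Hyp

end Cfsg.Agent.AltDegree
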