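import Cfsg.Agent.Lib.AltDegree.Reduce
import Cfsg.Agent.Lib.SpinCover.Multiplier
import Mathlib.Algebra.Module.ZMod
import Mathlib.RingTheory.Algebraic.Basic

/-!
The lower bound for the degree of a linear group with an alternating section.
-/

set_option autoImplicit false

namespace Cfsg.Agent.AltDegree

open Module Equiv

variable {r : ℕ} {G : Type} [Group G] [Finite G] {π : G →* Perm (Fin r)} {k : Type} [Field k]
  [IsAlgClosed k] {V : Type} [AddCommGroup V] [Module k V] [FiniteDimensional k V]
  {ρ : G →* End k V}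

theorem mem_scalarSub_top [Nontrivial V] {g : G} :
    g ∈ scalarSub ρ (⊤ : Submodule k V) ↔ ∃ c : k, ∀ v, ρ g v = c • v := by
  refine ⟨fun ⟨c, _, hc⟩ => ⟨c, fun v => hc v Submodule.mem_top⟩, fun ⟨c, hc⟩ => ⟨c, fun h0 => ?_, fun v _ => hc v⟩⟩
  obtain ⟨v, hv⟩ := exists_ne (0 : V)
  exact hv (rho_injective (ρ := ρ) g (by rw [hc, h0, zero_smul, map_zero]))

/-- The linear representation, over an algebraically closed field, attached to an action on an elementary
abelian group. -/
theorem chief_rep {G : Type} [Group G] {A : Type} [AddCommGroup A] [Finite A] {p : ℕ}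
    [Fact p.Prime] [Module (ZMod p) A] (act : G →* AddMonoid.End A) :
    ∃ b, Nat.card A = p ^ b ∧
      ∃ Φ : G →* End (AlgebraicClosure (ZMod p)) (Fin b → AlgebraicClosure (ZMod p)),
        (∀ g, Φ g = 1 → act g = 1) ∧ ∃ N : Subgroup G, (∀ g ∈ N, Φ g = 1) ∧ N.index ≤ (p ^ b) ^ b := by
  haveI : Module.Finite (ZMod p) A := Module.Finite.of_finite
  have hcard : Nat.card A = p ^ finrank (ZMod p) A := by
    rw [Module.natCard_eq_pow_finrank (K := ZMod p) (V := A), Nat.card_zmod]
  refine ⟨_, hcard, ?_⟩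
  let f : G →* End (ZMod p) A :=
    { toFun := fun g => AddMonoidHom.toZModLinearMap p (act g)
      map_one' := LinearMap.ext fun a => by simp; rfl
      map_mul' := fun g g' => LinearMap.ext fun a => by simp; rfl }
  let β := Module.finBasis (ZMod p) A
  let ι := (Matrix.toLinAlgEquiv' (R := AlgebraicClosure (ZMod p)) (n := Fin (finrank (ZMod p) A))).toRingEquiv.toMonoidHom.comp
    ((algebraMap (ZMod p) (AlgebraicClosure (ZMod p))).mapMatrix.toMonoidHom.comp
      (LinearMap.toMatrixAlgEquiv β).toRingEquiv.toMonoidHom)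
  have hι : Function.Injective ι :=
    (Matrix.toLinAlgEquiv' (R := AlgebraicClosure (ZMod p))).injective.comp
      ((Matrix.map_injective (algebraMap (ZMod p) (AlgebraicClosure (ZMod p))).injective).comp
        (LinearMap.toMatrixAlgEquiv β).injective)
  refine ⟨ι.comp f, fun g hg => AddMonoidHom.ext fun a => ?_, f.toHomUnits.ker, fun g hg => ?_, ?_⟩
  · exact LinearMap.congr_fun (hι (hg.trans (map_one ι).symm) : f g = 1) a
  · rw [MonoidHom.comp_apply, show f g = 1 from congrArg Units.val (MonoidHom.mem_ker.1 hg), map_one]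
  · haveI : Finite (End (ZMod p) A) :=
      Finite.of_injective (fun φ : End (ZMod p) A => (φ : A → A)) DFunLike.coe_injective
    rw [Subgroup.index_ker]
    refine (Nat.card_le_card_of_injective
      (fun u : f.toHomUnits.range => ((u : (End (ZMod p) A)ˣ) : End (ZMod p) A))
      fun u w huw => Subtype.ext (Units.ext huw)).trans_eq ?_
    rw [Module.natCard_eq_pow_finrank (K := ZMod p), Module.finrank_linearMap, Nat.card_zmod, pow_mul]

/-- The kernel acts by scalars. -/
theorem kernel_scalar (hr : 9 ≤ r) (hπ : π.range = alternatingGroup (Fin r)) (hmin : Minimal π)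
    (hρ : ∀ g, ρ g = 1 → π g = 1)
    (hirr : ∀ W : Submodule k V, (∀ g, ∀ w ∈ W, ρ g w ∈ W) → W = ⊥ ∨ W = ⊤) [Nontrivial V]
    (hn : finrank k V + 2 ≤ r) (hB : ∀ m, m < finrank k V → Bound m) :
    π.ker ≤ scalarSub ρ (⊤ : Submodule k V) := by
  classical
  set K := π.ker with hK
  let Sc := scalarSub ρ (⊤ : Submodule k V)
  haveI hScn : Sc.Normal := ⟨fun n hn g => conj_mem_scalarSub (mem_stab.2 fun w _ => Submodule.mem_top) hn⟩
  let T : Subgroup G := K ⊓ Sc
  haveI hTn : T.Normal := Subgroup.normal_inf_normal K Sc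
  by_contra hnot
  have hTK : T < K := lt_of_le_of_ne inf_le_left fun he => hnot (he ▸ inf_le_right)
  -- the kernel is nilpotent
  haveI hnil : Group.IsNilpotent K := by
    refine (Group.isNilpotent_of_finite_tfae.out 0 3 rfl rfl).2 fun p hp P => ?_
    haveI := hp
    have h1 := Sylow.normalizer_sup_eq_top P
    have h2 : Subgroup.normalizer ((P : Subgroup K).map K.subtype : Set G) = ⊤ := by
      refine hmin _ fun σ hσ => ?_
      obtain ⟨g, rfl⟩ : σ ∈ π.range := hπ ▸ hσ
      have h3 := Subgroup.mem_map_of_mem π (h1 ▸ Subgroup.mem_top g :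
        g ∈ Subgroup.normalizer ((P : Subgroup K).map K.subtype : Set G) ⊔ K)
      rwa [Subgroup.map_sup, (Subgroup.map_eq_bot_iff K (f := π)).2 le_rfl, sup_bot_eq] at h3
    haveI : ((P : Subgroup K).map K.subtype).Normal := Subgroup.normalizer_eq_top_iff.1 h2
    refine ⟨fun n hn g => ?_⟩
    have h4 := Subgroup.Normal.conj_mem this (n : G) ⟨n, hn, rfl⟩ (g : G)
    obtain ⟨m, hm, hmn⟩ := h4
    rwa [show g * n * g⁻¹ = m from Subtype.ext hmn.symm]
  -- a chief factor above the scalars
  haveI := Fintype.ofFinite (Subgroup G)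
  let s : Finset (Subgroup G) := Finset.univ.filter fun R => T < R ∧ R ≤ K ∧ R.Normal
  obtain ⟨R, hRs, hRmin⟩ := s.exists_minimal ⟨K, by
    simp only [s, Finset.mem_filter, Finset.mem_univ, true_and]
    exact ⟨hTK, le_rfl, inferInstance⟩⟩
  simp only [s, Finset.mem_filter, Finset.mem_univ, true_and] at hRs hRmin
  obtain ⟨hTR, hRK, hRn⟩ := hRs
  haveI := hRn
  have hRmin' : ∀ R' : Subgroup G, R'.Normal → T ≤ R' → R' < R → R' = T := fun R' h1 h2 h3 => by
    by_contra hne
    exact h3.2 (hRmin ⟨lt_of_le_of_ne h2 (Ne.symm hne), h3.le.trans hRK, h1⟩ h3.le)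
  let q := QuotientGroup.mk' T
  let Rb : Subgroup (G ⧸ T) := R.map q
  haveI hRbn : Rb.Normal := hRn.map q (QuotientGroup.mk'_surjective T)
  haveI : Group.IsSolvable K := inferInstance
  haveI : Group.IsSolvable R := Group.isSolvable_of_isSolvable_injective (Subgroup.inclusion_injective hRK)
  haveI : Group.IsSolvable Rb := Group.isSolvable_of_surjective (q.subgroupMap_surjective R)
  have hcomm : ∀ x ∈ R, ∀ y ∈ R, x * y * x⁻¹ * y⁻¹ ∈ T := by
    let R' : Subgroup G := (⁅Rb, Rb⁆).comap q
    have hR'le : R' ≤ R := by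
      intro g hg
      obtain ⟨x, hx, hxg⟩ := Subgroup.commutator_le_self Rb hg
      rw [show g = x * (x⁻¹ * g) by group]
      exact mul_mem hx (hTR.le (QuotientGroup.eq.1 hxg))
    have hTle : T ≤ R' := fun g hg => Subgroup.mem_comap.2 (by
      rw [show q g = 1 from (QuotientGroup.eq_one_iff g).2 hg]; exact one_mem _)
    have hR'ne : R' ≠ R := by
      intro he
      have hRb1 : Rb ≠ ⊥ := fun h0 => hTR.not_ge fun g hg =>
        (QuotientGroup.eq_one_iff g).1 ((Subgroup.mem_bot).1 (h0 ▸ Subgroup.mem_map_of_mem q hg))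
      have hcb : ⁅Rb, Rb⁆ = Rb := by
        refine le_antisymm (Subgroup.commutator_le_self Rb) ?_
        rintro _ ⟨x, hx, rfl⟩
        exact (he ▸ hx : x ∈ R')
      have h1 : (⁅(⊤ : Subgroup Rb), ⊤⁆ : Subgroup Rb) = ⊤ := by
        apply Subgroup.map_injective Rb.subtype_injective
        rw [Subgroup.map_commutator, ← MonoidHom.range_eq_map, Subgroup.range_subtype, hcb]
      haveI : Nontrivial Rb := (Subgroup.nontrivial_iff_ne_bot Rb).2 hRb1
      exact absurd h1 (ne_of_lt (IsSolvable.commutator_lt_of_ne_bot (H := (⊤ : Subgroup Rb)) top_ne_bot))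
    have hR'T := hRmin' R' inferInstance hTle (lt_of_le_of_ne hR'le hR'ne)
    intro x hx y hy
    rw [← hR'T, Subgroup.mem_comap]
    rw [map_mul, map_mul, map_mul, map_inv, map_inv]
    exact Subgroup.commutator_mem_commutator (Subgroup.mem_map_of_mem q hx) (Subgroup.mem_map_of_mem q hy)
  have hRbcomm : ∀ a b : Rb, a * b = b * a := fun a b => by
    obtain ⟨_, x, hx, rfl⟩ := a
    obtain ⟨_, y, hy, rfl⟩ := b
    refine Subtype.ext ?_
    show q x * q y = q y * q x
    rw [← map_mul, ← map_mul, QuotientGroup.mk'_apply, QuotientGroup.mk'_apply, eq_comm, QuotientGroup.eq]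
    simpa [mul_assoc] using hcomm x⁻¹ (inv_mem hx) y⁻¹ (inv_mem hy)
  letI : CommGroup Rb := { (inferInstance : Group Rb) with mul_comm := hRbcomm }
  -- elementary abelian
  have hRbne : Nat.card Rb ≠ 1 := fun h1 => hTR.not_ge fun g hg =>
    (QuotientGroup.eq_one_iff g).1 ((Subgroup.mem_bot).1 (Subgroup.card_eq_one.1 h1 ▸ Subgroup.mem_map_of_mem q hg))
  obtain ⟨p, hp, hpdvd⟩ := Nat.exists_prime_and_dvd hRbne
  haveI : Fact p.Prime := ⟨hp⟩
  have hexp : ∀ x ∈ R, x ^ p ∈ T := by
    let R' : Subgroup G :=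
      { carrier := {x | x ∈ R ∧ x ^ p ∈ T}
        one_mem' := ⟨one_mem _, by rw [one_pow]; exact one_mem _⟩
        mul_mem' := fun {a b} ha hb => ⟨mul_mem ha.1 hb.1, by
          rw [← QuotientGroup.eq_one_iff]
          have hab : Commute (⟨q a, Subgroup.mem_map_of_mem q ha.1⟩ : Rb) ⟨q b, Subgroup.mem_map_of_mem q hb.1⟩ :=
            hRbcomm _ _
          have hab' : Commute (q a) (q b) := congrArg Subtype.val hab.eq
          show q ((a * b) ^ p) = 1
          rw [map_pow, map_mul, hab'.mul_pow, ← map_pow, ← map_pow,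
            show q (a ^ p) = 1 from (QuotientGroup.eq_one_iff _).2 ha.2,
            show q (b ^ p) = 1 from (QuotientGroup.eq_one_iff _).2 hb.2, one_mul]⟩
        inv_mem' := fun {a} ha => ⟨inv_mem ha.1, by rw [inv_pow]; exact inv_mem ha.2⟩ }
    haveI : R'.Normal := ⟨fun n hn g => ⟨hRn.conj_mem n hn.1 g, by rw [conj_pow]; exact hTn.conj_mem _ hn.2 g⟩⟩
    have hTle : T ≤ R' := fun g hg => ⟨hTR.le hg, pow_mem hg p⟩
    obtain ⟨⟨_, x, hx, rfl⟩, hxp⟩ := exists_prime_orderOf_dvd_card' p hpdvd
    have hxR' : x ∈ R' := ⟨hx, by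
      rw [← QuotientGroup.eq_one_iff]
      show q (x ^ p) = 1
      rw [map_pow]
      have := pow_orderOf_eq_one (⟨q x, Subgroup.mem_map_of_mem q hx⟩ : Rb)
      rw [hxp] at this
      exact congrArg Subtype.val this⟩
    have hxT : x ∉ T := fun hxT => by
      have h1 : (⟨q x, Subgroup.mem_map_of_mem q hx⟩ : Rb) = 1 := Subtype.ext ((QuotientGroup.eq_one_iff x).2 hxT)
      rw [h1, orderOf_one] at hxp
      exact hp.one_lt.ne hxp
    intro y hy
    have hle : R' ≤ R := fun g hg => hg.1
    by_contra hyT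
    exact hxT ((hRmin' R' inferInstance hTle (lt_of_le_of_ne hle fun he => hyT (he ▸ hy : y ∈ R').2)) ▸ hxR')
  have hpow : ∀ a : Additive Rb, p • a = 0 := fun a => by
    obtain ⟨⟨_, x, hx, rfl⟩, rfl⟩ : ∃ y : Rb, Additive.ofMul y = a := ⟨a.toMul, rfl⟩
    rw [← ofMul_pow]
    refine congrArg Additive.ofMul (Subtype.ext ?_)
    show (q x) ^ p = 1
    rw [← map_pow]
    exact (QuotientGroup.eq_one_iff _).2 (hexp x hx)
  haveI : Finite (Additive Rb) := inferInstanceAs (Finite Rb)
  let act : G →* AddMonoid.End (Additive Rb) :=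
    { toFun := fun g => MonoidHom.toAdditive (MulAut.conjNormal (q g) : MulAut Rb).toMonoidHom
      map_one' := AddMonoidHom.ext fun a => by
        show Additive.ofMul ((MulAut.conjNormal (q 1) : MulAut Rb) a.toMul) = a
        rw [map_one, map_one]; rfl
      map_mul' := fun g g' => AddMonoidHom.ext fun a => by
        show Additive.ofMul ((MulAut.conjNormal (q (g * g')) : MulAut Rb) a.toMul) = _
        rw [map_mul, map_mul]; rfl }
  obtain ⟨b, hcardb', Φ, hΦ, N, hNΦ, hNi⟩ := @chief_rep G _ (Additive Rb) _ _ p _ (AddCommGroup.zmodModule hpow) act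
  have hcardb : Nat.card Rb = p ^ b := hcardb'
  -- scalars attached to commuting modulo `T`
  have hscal : ∀ {g x : G}, g * x * g⁻¹ * x⁻¹ ∈ T → ∃ c : k, ρ (g * x * g⁻¹) = c • ρ x := fun {g x} h => by
    obtain ⟨c, hc⟩ := mem_scalarSub_top.1 h.2
    refine ⟨c, LinearMap.ext fun v => ?_⟩
    rw [LinearMap.smul_apply, ← hc, ← mul_apply', inv_mul_cancel_right]
  have huniq : ∀ (x : G) (c c' : k), c • ρ x = c' • ρ x → c = c' := fun x c c' h => by
    obtain ⟨v, hv⟩ := exists_ne (0 : V)
    refine smul_left_injective k (fun h0 => hv (rho_injective (ρ := ρ) x (h0.trans (map_zero _).symm))) ?_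
    exact LinearMap.congr_fun h v
  have hnotscal : ¬ ∀ x ∈ R, ∃ c : k, ∀ v, ρ x v = c • v := fun h =>
    hTR.not_ge fun x hx => ⟨hRK hx, mem_scalarSub_top.2 (h x hx)⟩
  -- the dimension bound
  have hle : p ^ b ≤ finrank k V * finrank k V := by
    choose rep hrep using fun a : Rb => a.2
    have hrepR : ∀ a, rep a ∈ R := fun a => (hrep a).1
    have hrepq : ∀ a, q (rep a) = (a : G ⧸ T) := fun a => (hrep a).2
    choose c hc using fun (a x : Rb) => hscal (hcomm (rep a) (hrepR a) (rep x) (hrepR x))
    let op : Additive Rb → End k (End k V) := fun a =>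
      (LinearMap.mulLeft k (ρ (rep a.toMul))).comp (LinearMap.mulRight k (ρ (rep a.toMul)⁻¹))
    have hop : ∀ a x, op (Additive.ofMul a) (ρ (rep x)) = c a x • ρ (rep x) := fun a x => by
      rw [← hc]
      simp [op, map_mul, mul_assoc]
    have hcT : ∀ a a' : Rb, ∃ t ∈ T, rep (a * a') = rep a * rep a' * t := fun a a' => by
      refine ⟨(rep a * rep a')⁻¹ * rep (a * a'), ?_, (mul_inv_cancel_left _ _).symm⟩
      refine QuotientGroup.eq.1 ?_
      show q (rep a * rep a') = q (rep (a * a'))
      rw [map_mul, hrepq, hrepq, hrepq]; rfl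
    have hmul : ∀ a a' x, c (a * a') x = c a x * c a' x := fun a a' x => by
      obtain ⟨t, ht, hte⟩ := hcT a a'
      refine huniq (rep x) _ _ ?_
      rw [← hc, hte]
      obtain ⟨d, hd⟩ := mem_scalarSub_top.1 ht.2
      have hcj : ∀ g y, ρ (g * y * g⁻¹) = ρ g * ρ y * ρ g⁻¹ := fun g y => by rw [map_mul, map_mul]
      have ht' : ρ (t * rep x * t⁻¹) = ρ (rep x) := LinearMap.ext fun v => by
        rw [mul_apply', mul_apply', hd, ← map_smul, ← hd, apply_inv]
      rw [show rep a * rep a' * t * rep x * (rep a * rep a' * t)⁻¹ =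
        rep a * (rep a' * (t * rep x * t⁻¹) * (rep a')⁻¹) * (rep a)⁻¹ by group, hcj, hcj (rep a'), ht',
        ← hcj (rep a'), hc, mul_smul_comm, smul_mul_assoc, ← hcj (rep a), hc, smul_smul, mul_comm]
    have hone : ∀ x, c 1 x = 1 := fun x => by
      have h1 := hmul 1 1 x
      rw [one_mul] at h1
      have hne : c 1 x ≠ 0 := fun h0 => by
        obtain ⟨v, hv⟩ := exists_ne (0 : V)
        have h2 := LinearMap.congr_fun (hc 1 x) v
        rw [h0, zero_smul, LinearMap.zero_apply] at h2
        exact hv (rho_injective (ρ := ρ) _ (h2.trans (map_zero _).symm))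
      exact (mul_eq_left₀ hne).1 h1.symm
    let χ : Rb → AddChar (Additive Rb) k := fun x =>
      { toFun := fun a => c a.toMul x
        map_zero_eq_one' := hone x
        map_add_eq_mul' := fun a a' => hmul _ _ x }
    have hχ : Function.Injective χ := by
      intro x y hxy
      have hcy : ∀ a, c a x = c a y := fun a => DFunLike.congr_fun hxy (Additive.ofMul a)
      let Z : Subgroup G :=
        { carrier := {z | z ∈ R ∧ ∀ a ∈ R, ρ (a * z) = ρ (z * a)}
          one_mem' := ⟨one_mem _, fun a _ => by rw [mul_one, one_mul]⟩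
          mul_mem' := fun {u w} hu hw => ⟨mul_mem hu.1 hw.1, fun a ha => by
            rw [← mul_assoc, map_mul, hu.2 a ha, ← map_mul, mul_assoc, map_mul, hw.2 a ha, ← map_mul, ← mul_assoc]⟩
          inv_mem' := fun {u} hu => ⟨inv_mem hu.1, fun a ha => by
            have h1 := congrArg (fun M => ρ u⁻¹ * M * ρ u⁻¹) (hu.2 a ha)
            simp only [← map_mul, mul_assoc, mul_inv_cancel, mul_one, inv_mul_cancel_left] at h1
            exact h1.symm⟩ }
      haveI : Z.Normal := ⟨fun z hz g => ⟨hRn.conj_mem z hz.1 g, fun a ha => by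
        have h1 := hz.2 (g⁻¹ * a * g) (by simpa using hRn.conj_mem a ha g⁻¹)
        have h2 := congrArg (fun M => ρ g * M * ρ g⁻¹) h1
        simp only [← map_mul] at h2
        rw [show g * (g⁻¹ * a * g * z) * g⁻¹ = a * (g * z * g⁻¹) by group,
          show g * (z * (g⁻¹ * a * g)) * g⁻¹ = g * z * g⁻¹ * a by group] at h2
        exact h2⟩⟩
      have hTZ : T ≤ Z := fun t ht => ⟨hTR.le ht, fun a _ => by
        obtain ⟨d, hd⟩ := mem_scalarSub_top.1 ht.2
        exact LinearMap.ext fun v => by rw [mul_apply', mul_apply', hd, hd, map_smul]⟩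
      have hZR : Z ≠ R := fun he => hnotscal (scalar_of_abelian hr hπ hmin hirr (by omega) R fun u hu w hw => by
        rw [← map_mul, ← map_mul]
        exact (he ▸ hw : w ∈ Z).2 u hu)
      have hZT := hRmin' Z inferInstance hTZ (lt_of_le_of_ne (fun z hz => hz.1) hZR)
      have hxyZ : (rep x)⁻¹ * rep y ∈ Z := by
        refine ⟨mul_mem (inv_mem (hrepR x)) (hrepR y), fun a ha => ?_⟩
        obtain ⟨d, hd⟩ : ∃ d, a = rep d * ((rep d)⁻¹ * a) ∧ (rep d)⁻¹ * a ∈ T :=
          ⟨⟨q a, Subgroup.mem_map_of_mem q ha⟩, (mul_inv_cancel_left _ _).symm,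
            QuotientGroup.eq.1 (show q (rep _) = q a from hrepq _)⟩
        obtain ⟨hd, ht⟩ := hd
        generalize (rep d)⁻¹ * a = t at hd ht
        obtain ⟨e, he⟩ := mem_scalarSub_top.1 ht.2
        subst hd
        have hx' := hc d x
        have hy' := hc d y
        rw [← hcy] at hy'
        have hxv : ∀ v, ρ (rep d) (ρ (rep x) v) = c d x • ρ (rep x) (ρ (rep d) v) := fun v => by
          rw [← LinearMap.smul_apply, ← hx', ← mul_apply', ← mul_apply', inv_mul_cancel_right]
        have hyv : ∀ v, ρ (rep d) (ρ (rep y) v) = c d x • ρ (rep y) (ρ (rep d) v) := fun v => by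
          rw [← LinearMap.smul_apply, ← hy', ← mul_apply', ← mul_apply', inv_mul_cancel_right]
        refine LinearMap.ext fun v => ?_
        simp only [mul_apply', he, map_smul]
        congr 1
        apply rho_injective (ρ := ρ) (rep x)
        rw [apply_inv]
        have h5 := hxv (ρ (rep x)⁻¹ (ρ (rep y) v))
        rw [apply_inv, hyv] at h5
        have hne : c d x ≠ 0 := fun h0 => by
          obtain ⟨v, hv⟩ := exists_ne (0 : V)
          have h2 := LinearMap.congr_fun hx' v
          rw [h0, zero_smul, LinearMap.zero_apply] at h2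
          exact hv (rho_injective (ρ := ρ) _ (h2.trans (map_zero _).symm))
        exact (smul_right_injective V hne h5).symm
      rw [hZT] at hxyZ
      exact Subtype.ext ((hrepq x).symm.trans ((QuotientGroup.eq.2 hxyZ).trans (hrepq y)))
    haveI := Fintype.ofFinite Rb
    have h1 := LinRep.CharOrbit.card_le_finrank op (Finset.univ.image χ) (fun ψ hψ => by
      obtain ⟨x, -, rfl⟩ := Finset.mem_image.1 hψ
      refine ⟨ρ (rep x), fun h0 => ?_, fun a => hop a.toMul x⟩
      obtain ⟨v, hv⟩ := exists_ne (0 : V)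
      exact hv (rho_injective (ρ := ρ) (rep x) (by rw [h0, LinearMap.zero_apply, map_zero])))
    rw [Finset.card_image_of_injective _ hχ, Finset.card_univ, ← Nat.card_eq_fintype_card, hcardb,
      Module.finrank_linearMap] at h1
    exact h1
  by_cases hk : ∀ g, Φ g = 1 → π g = 1
  · rcases lt_or_ge b (finrank k V) with hlt | hge
    · have h2 := (hB b hlt).le (π := π) (ρ := Φ) hr hπ hk (Module.finrank_fin_fun _)
      have h3 : 2 ^ (r - 2) ≤ p ^ b :=
        (Nat.pow_le_pow_left hp.two_le _).trans (Nat.pow_le_pow_right hp.pos h2)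
      have h4 := sq_lt_two_pow r hr
      have h5 : finrank k V * finrank k V ≤ r * r := Nat.mul_le_mul (by omega) (by omega)
      omega
    · -- very small dimension
      have h3 : 2 ^ finrank k V ≤ finrank k V * finrank k V :=
        (((Nat.pow_le_pow_left hp.two_le _).trans (Nat.pow_le_pow_right hp.pos hge)).trans hle)
      have hn4 : finrank k V ≤ 4 := by
        by_contra hcon
        have : ∀ n, 5 ≤ n → n * n < 2 ^ n := by
          intro n hn
          induction n, hn using Nat.le_induction with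
          | base => decide
          | succ m hm ih => rw [pow_succ]; nlinarith
        exact absurd h3 (not_le.2 (this _ (by omega)))
      have hp16 : p ^ b ≤ 16 := hle.trans (Nat.mul_le_mul hn4 hn4)
      have hb4 : b ≤ 4 := (Nat.pow_le_pow_iff_right one_lt_two).1
        (((Nat.pow_le_pow_left hp.two_le _)).trans hp16)
      have hker : N ≤ π.ker := fun g hg => MonoidHom.mem_ker.2 (hk g (hNΦ g hg))
      have h4 := Nat.le_of_dvd (Nat.pos_of_ne_zero N.index_ne_zero_of_finite)
        (Subgroup.index_dvd_of_le hker)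
      rw [Subgroup.index_ker, hπ] at h4
      have h5 := h4.trans hNi
      have h7 : (p ^ b) ^ b ≤ 16 ^ 4 :=
        (Nat.pow_le_pow_left hp16 b).trans (Nat.pow_le_pow_right (by norm_num) hb4)
      have h8 := card_alt_ge hr
      omega
  · -- trivial action forces scalars
    push Not at hk
    obtain ⟨g₀, hg₀, hg₀1⟩ := hk
    have htop := eq_top_of_normal hr hπ hmin (N := act.toHomUnits.ker)
      (MonoidHom.mem_ker.2 (Units.ext (hΦ g₀ hg₀))) hg₀1
    apply hnotscal
    intro x hx
    have hall : ∀ g : G, g * x * g⁻¹ * x⁻¹ ∈ T := fun g => by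
      have h1 : act g = 1 :=
        congrArg Units.val (MonoidHom.mem_ker.1 (htop ▸ Subgroup.mem_top g : g ∈ act.toHomUnits.ker))
      have h2 : ((MulAut.conjNormal (q g) : MulAut Rb) ⟨q x, Subgroup.mem_map_of_mem q hx⟩ : G ⧸ T) = q x :=
        congrArg (fun a : Additive Rb => ((a.toMul : Rb) : G ⧸ T))
          (DFunLike.congr_fun h1 (Additive.ofMul ⟨q x, Subgroup.mem_map_of_mem q hx⟩))
      rw [MulAut.conjNormal_apply] at h2
      rw [← QuotientGroup.eq_one_iff]
      show q (g * x * g⁻¹ * x⁻¹) = 1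
      rw [map_mul, map_mul, map_mul, map_inv, map_inv, h2, mul_inv_cancel]
    choose c hc using fun g => hscal (hall g)
    have hconj : ∀ g v, ρ g (ρ x v) = c g • ρ x (ρ g v) := fun g v => by
      rw [← LinearMap.smul_apply, ← hc, ← mul_apply', ← mul_apply', inv_mul_cancel_right]
    let φ : G →* k :=
      { toFun := c
        map_one' := huniq x _ _ (by rw [← hc, one_smul, one_mul, inv_one, mul_one])
        map_mul' := fun g g' => huniq x _ _ (LinearMap.ext fun v => by
          rw [LinearMap.smul_apply, LinearMap.smul_apply]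
          have h1 := hconj (g * g') (ρ (g * g')⁻¹ v)
          rw [apply_inv, mul_apply' g g', hconj g', map_smul, hconj g, smul_smul, ← mul_apply' g g',
            apply_inv] at h1
          rw [← h1, mul_comm]) }
    obtain ⟨g₁, hg₁, hg₁1⟩ := not_abelian_image hr hπ φ (fun a b => mul_comm _ _)
    have htop' := eq_top_of_normal hr hπ hmin (N := φ.toHomUnits.ker)
      (by rw [MonoidHom.mem_ker, Units.ext_iff]; simpa using hg₁) hg₁1
    have hcommx : ∀ g v, ρ g (ρ x v) = ρ x (ρ g v) := fun g v => by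
      rw [hconj g v]
      have h1 : φ.toHomUnits g = 1 := MonoidHom.mem_ker.1 (htop' ▸ Subgroup.mem_top g)
      have h2 : φ g = 1 := by simpa using congrArg Units.val h1
      rw [show c g = 1 from h2, one_smul]
    obtain ⟨d, hd⟩ := End.exists_eigenvalue (ρ x)
    have hEtop : eig ρ x d = ⊤ := (hirr _ fun g w hw => mem_eig.2 (by
      rw [← hcommx, mem_eig.1 hw, map_smul])).resolve_left hd
    exact ⟨d, fun v => mem_eig.1 (hEtop ▸ Submodule.mem_top)⟩

open Classical in
/-- The bound, in every dimension. -/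
theorem bound_all : ∀ n, Bound n := by
  intro n
  induction n using Nat.strong_induction_on with
  | _ n hB =>
    intro k _ _ _ V _ _ _ G _ _ r π ρ hr hπ hρ hn
    subst hn
    by_contra hlt
    have hn2 : finrank k V + 2 ≤ r := by split_ifs at hlt <;> omega
    -- a minimal covering subgroup
    obtain ⟨H, hH, hHmin⟩ := (Set.toFinite {H : Subgroup G | alternatingGroup (Fin r) ≤ H.map π}).exists_minimal
      ⟨⊤, by rw [Set.mem_ofPred_eq, ← MonoidHom.range_eq_map, hπ]⟩
    let π₁ := π.comp H.subtype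
    let ρ₁ := ρ.comp H.subtype
    have hπ₁ : π₁.range = alternatingGroup (Fin r) := by
      rw [MonoidHom.range_comp, Subgroup.range_subtype]
      refine le_antisymm ?_ hH
      rw [← hπ, MonoidHom.range_eq_map]
      exact Subgroup.map_mono le_top
    have hmin : Minimal π₁ := fun K hK => by
      have h1 : alternatingGroup (Fin r) ≤ (K.map H.subtype).map π := by rwa [Subgroup.map_map]
      have h2 := hHmin h1 (Subgroup.map_subtype_le K)
      refine eq_top_iff.2 fun g _ => ?_
      obtain ⟨y, hy, hyg⟩ := h2 g.2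
      rwa [show g = y from Subtype.ext hyg.symm]
    have hρ₁ : ∀ g, ρ₁ g = 1 → π₁ g = 1 := fun g hg => hρ _ hg
    have hred : ∀ W : Submodule k V, (∀ g, ∀ w ∈ W, ρ₁ g w ∈ W) → W = ⊥ ∨ W = ⊤ := by
      intro W hW
      by_contra hcon
      push Not at hcon
      exact hlt (by convert reducible_case hr hπ₁ hmin hρ₁ hB hW hcon.1 hcon.2)
    rcases subsingleton_or_nontrivial V with hV | hV
    · obtain ⟨g, -, hg1⟩ := not_abelian_image hr hπ₁ (1 : H →* Unit) (fun _ _ => rfl)
      exact hg1 (hρ₁ g (LinearMap.ext fun v => Subsingleton.elim _ _))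
    have hks := kernel_scalar hr hπ₁ hmin hρ₁ hred hn2 hB
    -- the faithful quotient
    let N := ρ₁.toHomUnits.ker
    have hN : N ≤ π₁.ker := fun g hg => MonoidHom.mem_ker.2 (hρ₁ g ((toGroup_ker g).1 hg))
    let π₂ : H ⧸ N →* Perm (Fin r) := QuotientGroup.lift N π₁ hN
    let ρ₂ : H ⧸ N →* End k V := (Units.coeHom (End k V)).comp (QuotientGroup.kerLift ρ₁.toHomUnits)
    have hπ₂m : ∀ g, π₂ (QuotientGroup.mk g) = π₁ g := fun g => rfl
    have hρ₂m : ∀ g, ρ₂ (QuotientGroup.mk g) = ρ₁ g := fun g => rfl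
    have hinj : Function.Injective ρ₂ :=
      Units.val_injective.comp (QuotientGroup.kerLift_injective ρ₁.toHomUnits)
    have hsurj : ∀ σ ∈ alternatingGroup (Fin r), ∃ g, π₂ g = σ := fun σ hσ => by
      obtain ⟨g, rfl⟩ : σ ∈ π₁.range := hπ₁ ▸ hσ
      exact ⟨QuotientGroup.mk g, rfl⟩
    have heven : ∀ g, π₂ g ∈ alternatingGroup (Fin r) := fun g => by
      induction g using QuotientGroup.induction_on with
      | H g => exact hπ₁ ▸ MonoidHom.mem_range.2 ⟨g, rfl⟩
    have hcentral : π₂.ker ≤ Subgroup.center (H ⧸ N) := fun z hz => by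
      induction z using QuotientGroup.induction_on with
      | H z =>
        obtain ⟨c, hc⟩ := mem_scalarSub_top.1 (hks (MonoidHom.mem_ker.2 hz))
        refine Subgroup.mem_center_iff.2 fun g => hinj ?_
        induction g using QuotientGroup.induction_on with
        | H g =>
          rw [map_mul, map_mul, hρ₂m, hρ₂m]
          exact LinearMap.ext fun v => by rw [End.mul_apply, End.mul_apply, hc, hc, map_smul]
    have htop : ∀ L : Subgroup (H ⧸ N), alternatingGroup (Fin r) ≤ L.map π₂ → L = ⊤ := fun L hL => by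
      have h1 := hmin (L.comap (QuotientGroup.mk' N)) fun σ hσ => by
        obtain ⟨x, hx, rfl⟩ := hL hσ
        induction x using QuotientGroup.induction_on with
        | H x => exact ⟨x, hx, rfl⟩
      refine eq_top_iff.2 fun x _ => ?_
      induction x using QuotientGroup.induction_on with
      | H x => exact (h1 ▸ Subgroup.mem_top x : x ∈ L.comap (QuotientGroup.mk' N))
    have hcom : commutator (H ⧸ N) = ⊤ := htop _ fun σ hσ => by
      have h1 : commutator (alternatingGroup (Fin r)) = ⊤ :=
        commutator_alternatingGroup_eq_top (by simp; omega)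
      have h2 : ((⊤ : Subgroup (H ⧸ N)).map π₂) = alternatingGroup (Fin r) :=
        le_antisymm (fun _ ⟨g, _, hg⟩ => hg ▸ heven g) fun σ hσ => by
          obtain ⟨g, hg⟩ := hsurj σ hσ
          exact ⟨g, trivial, hg⟩
      have h3 := congrArg (Subgroup.map (alternatingGroup (Fin r)).subtype) h1
      rw [commutator_def, Subgroup.map_commutator, ← MonoidHom.range_eq_map, Subgroup.range_subtype] at h3
      rw [commutator_def, Subgroup.map_commutator, h2, h3]
      exact hσ
    have hcard := SpinCover.Multiplier.card_ker_le_two (f := π₂) (Z := π₂.ker)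
      ⟨fun g => MonoidHom.mem_ker.symm, hcentral, heven, hsurj⟩ (hcom ▸ le_top) (by omega) (by omega) (by omega)
    have hsq : ∀ z ∈ π₂.ker, z * z = 1 := fun z hz => by
      have hd := orderOf_dvd_natCard (⟨z, hz⟩ : π₂.ker)
      have h2 : Nat.card π₂.ker = 1 ∨ Nat.card π₂.ker = 2 := by
        have := Nat.card_pos (α := π₂.ker)
        omega
      rw [← pow_two, ← orderOf_dvd_iff_pow_eq_one]
      rw [Subgroup.orderOf_mk] at hd
      rcases h2 with h2 | h2 <;> rw [h2] at hd
      · exact hd.trans (one_dvd 2)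
      · exact hd
    have hyp : Hyp π₂ ρ₂ :=
      { nine := hr, surj := hsurj, even := heven, central := hcentral, sq := hsq, top := htop
        inj := hinj
        irr := fun W hW => hred W fun g w hw => hW (QuotientGroup.mk g) w hw }
    exact hlt (by convert hyp.core hB)

end Cfsg.Agent.AltDegree
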