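import Cfsg.Agent.Lib.AltDegree.Hyp

/-!
Vectors attached to ordered pairs of points and the deleted permutation module.
-/

set_option autoImplicit false

namespace Cfsg.Agent.AltDegree

open Module Equiv

variable {r : ℕ} {G : Type*} [Group G] {π : G →* Perm (Fin r)} {k : Type*} [Field k]
  {V : Type*} [AddCommGroup V] [Module k V] [FiniteDimensional k V] {ρ : G →* End k V}

/-- The elements fixing a vector. -/
def vfix (ρ : G →* End k V) (v : V) : Subgroup G where
  carrier := {g | ρ g v = v}
  one_mem' := by show ρ 1 v = v; rw [map_one]; rfl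
  mul_mem' := fun {a b} (ha : ρ a v = v) (hb : ρ b v = v) => by
    show ρ (a * b) v = v
    rw [mul_apply', hb, ha]
  inv_mem' := fun {a} (ha : ρ a v = v) => by
    show ρ a⁻¹ v = v
    conv_lhs => rw [← ha, inv_apply]

theorem mem_vfix {g : G} {v : V} : g ∈ vfix ρ v ↔ ρ g v = v := Iff.rfl

theorem mem_of_map_le (hinj : Function.Injective π) {H : Subgroup G} {g : G}
    (hg : π g ∈ H.map π) : g ∈ H := by
  obtain ⟨x, hx, hxg⟩ := hg
  exact hinj hxg ▸ hx

theorem mov_inv (g : G) : mov ρ g⁻¹ = mov ρ g := by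
  refine le_antisymm ?_ ?_ <;> intro w hw <;> obtain ⟨v, rfl⟩ := mem_mov.1 hw
  · refine mem_mov.2 ⟨-(ρ g⁻¹ v), ?_⟩
    rw [map_neg, apply_inv]; abel
  · refine mem_mov.2 ⟨-(ρ g v), ?_⟩
    rw [map_neg, inv_apply]; abel

/-- An embedding of two points. -/
def emb2 {a b : Fin r} (h : a ≠ b) : Fin 2 ↪ Fin r :=
  ⟨![a, b], fun i j hij => by fin_cases i <;> fin_cases j <;> simp_all [eq_comm]⟩

/-- An embedding of three points. -/
def emb3 {a b c : Fin r} (hab : a ≠ b) (hbc : b ≠ c) (hac : a ≠ c) : Fin 3 ↪ Fin r :=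
  ⟨![a, b, c], fun i j hij => by fin_cases i <;> fin_cases j <;> simp_all [eq_comm]⟩

/-- An embedding of four points. -/
def emb4 {a b c d : Fin r} (hab : a ≠ b) (hac : a ≠ c) (had : a ≠ d) (hbc : b ≠ c) (hbd : b ≠ d)
    (hcd : c ≠ d) : Fin 4 ↪ Fin r :=
  ⟨![a, b, c, d], fun i j hij => by fin_cases i <;> fin_cases j <;> simp_all [eq_comm]⟩

/-- A vector fixed by the stabiliser of an ordered pair of points. -/
structure PairVec (π : G →* Perm (Fin r)) (ρ : G →* End k V) where
  /-- first point -/
  o₁ : Fin r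
  /-- second point -/
  o₂ : Fin r
  /-- the vector -/
  v : V
  ne : o₁ ≠ o₂
  ne_zero : v ≠ 0
  inj : Function.Injective π
  fix : ∀ g, π g o₁ = o₁ → π g o₂ = o₂ → ρ g v = v

namespace PairVec

variable (h : Hyp π ρ) (P : PairVec π ρ)

theorem exists_move (h : Hyp π ρ) (P : PairVec π ρ) {a b : Fin r} (hab : a ≠ b) :
    ∃ g, π g P.o₁ = a ∧ π g P.o₂ = b := by
  obtain ⟨g, hg⟩ := h.exists_conj (emb2 P.ne) (emb2 hab) (by have := h.nine; omega)
  exact ⟨g, hg 0, hg 1⟩

open Classical in
/-- The vector at an ordered pair. -/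
noncomputable def vec (h : Hyp π ρ) (P : PairVec π ρ) (a b : Fin r) : V :=
  if hab : a = b then 0 else ρ (exists_move h P hab).choose P.v

theorem vec_self (a : Fin r) : vec h P a a = 0 := by simp [vec]

theorem apply_eq_vec {g : G} {a b : Fin r} (ha : π g P.o₁ = a) (hb : π g P.o₂ = b) :
    ρ g P.v = vec h P a b := by
  have hab : a ≠ b := fun hh => P.ne ((π g).injective (ha.trans (hh.trans hb.symm)))
  rw [vec, dif_neg hab]
  obtain ⟨h1, h2⟩ := (exists_move h P hab).choose_spec
  generalize (exists_move h P hab).choose = x at h1 h2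
  have h3 : ρ (x⁻¹ * g) P.v = P.v := P.fix _ (by rw [map_mul, Perm.mul_apply, ha, map_inv, Perm.inv_eq_iff_eq, h1])
    (by rw [map_mul, Perm.mul_apply, hb, map_inv, Perm.inv_eq_iff_eq, h2])
  calc ρ g P.v = ρ x (ρ (x⁻¹ * g) P.v) := by rw [← mul_apply', mul_inv_cancel_left]
    _ = _ := by rw [h3]

theorem apply_vec (g : G) (a b : Fin r) : ρ g (vec h P a b) = vec h P (π g a) (π g b) := by
  rcases eq_or_ne a b with rfl | hab
  · rw [vec_self, vec_self, map_zero]
  · obtain ⟨x, hx1, hx2⟩ := exists_move h P hab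
    rw [← apply_eq_vec h P hx1 hx2, ← mul_apply']
    exact apply_eq_vec h P (by rw [map_mul, Perm.mul_apply, hx1]) (by rw [map_mul, Perm.mul_apply, hx2])

theorem vec_base : vec h P P.o₁ P.o₂ = P.v := by
  rw [← apply_eq_vec h P (g := 1) (by simp) (by simp), map_one]; rfl

theorem vec_ne_zero {a b : Fin r} (hab : a ≠ b) : vec h P a b ≠ 0 := by
  obtain ⟨x, hx1, hx2⟩ := exists_move h P hab
  rw [← apply_eq_vec h P hx1 hx2]
  exact fun h0 => P.ne_zero (rho_injective (ρ := ρ) x (h0.trans (map_zero _).symm))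

theorem tri_of_one {a b c : Fin r} (hab : a ≠ b) (hbc : b ≠ c) (hac : a ≠ c)
    (h0 : vec h P a b + vec h P b c + vec h P c a = 0) {a' b' c' : Fin r} (hab' : a' ≠ b')
    (hbc' : b' ≠ c') (hac' : a' ≠ c') : vec h P a' b' + vec h P b' c' + vec h P c' a' = 0 := by
  obtain ⟨g, hg⟩ := h.exists_conj (emb3 hab hbc hac) (emb3 hab' hbc' hac') (by have := h.nine; omega)
  have := congrArg (ρ g) h0
  rwa [map_add, map_add, apply_vec, apply_vec, apply_vec, map_zero,
    show π g a = a' from hg 0, show π g b = b' from hg 1, show π g c = c' from hg 2] at this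

theorem anti_of_one {a b : Fin r} (hab : a ≠ b) (h0 : vec h P b a = -vec h P a b) (a' b' : Fin r) :
    vec h P b' a' = -vec h P a' b' := by
  rcases eq_or_ne a' b' with rfl | hab'
  · rw [vec_self, neg_zero]
  obtain ⟨g, hg⟩ := h.exists_conj (emb2 hab) (emb2 hab') (by have := h.nine; omega)
  have := congrArg (ρ g) h0
  rwa [map_neg, apply_vec, apply_vec, show π g a = a' from hg 0, show π g b = b' from hg 1] at this

open Classical in
/-- The deleted permutation module embeds up to constants. -/
theorem bound (htri : ∀ a b c : Fin r, a ≠ b → b ≠ c → a ≠ c →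
      vec h P a b + vec h P b c + vec h P c a = 0)
    (hanti : ∀ a b, vec h P b a = -vec h P a b) :
    r - 1 - (if (r : k) = 0 then 1 else 0) ≤ finrank k V := by
  set o := P.o₁
  have hsub : ∀ a b, vec h P a b = vec h P a o - vec h P b o := by
    intro a b
    rcases eq_or_ne a o with rfl | hao
    · rw [vec_self, zero_sub, ← hanti]
    rcases eq_or_ne b o with rfl | hbo
    · rw [vec_self, sub_zero]
    rcases eq_or_ne a b with rfl | hab
    · rw [vec_self, sub_self]
    have h1 := htri a b o hab hbo hao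
    rw [hanti a o] at h1
    rw [← sub_eq_zero]
    convert h1 using 1
    abel
  let ψ : (Fin r → k) →ₗ[k] V := Fintype.linearCombination k fun a => vec h P a o
  have hψ : ∀ f, ψ f = ∑ a, f a • vec h P a o := fun f => rfl
  let σ : (Fin r → k) →ₗ[k] k := Fintype.linearCombination k fun _ => (1 : k)
  have hσ : ∀ f, σ f = ∑ a, f a := fun f => by simp [σ, Fintype.linearCombination_apply]
  let K : Submodule k (Fin r → k) := LinearMap.ker ψ ⊓ LinearMap.ker σ
  -- closed under even permutations
  have hperm : ∀ τ ∈ alternatingGroup (Fin r), ∀ f ∈ K, (fun i => f (τ i)) ∈ K := by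
    intro τ hτ f hf
    obtain ⟨g, hg⟩ := h.surj τ hτ
    have hs : σ (fun i => f (τ i)) = 0 := by
      rw [hσ, Equiv.sum_comp τ f, ← hσ]; exact hf.2
    refine ⟨rho_injective (ρ := ρ) g ?_, hs⟩
    rw [map_zero, hψ, map_sum]
    have h1 : ∀ a, ρ g (f (τ a) • vec h P a o) =
        f (τ a) • vec h P (τ a) o - f (τ a) • vec h P (τ o) o := fun a => by
      rw [map_smul, apply_vec, hg, hsub (τ a), smul_sub]
    simp only [h1]
    rw [Finset.sum_sub_distrib, ← Finset.sum_smul, Equiv.sum_comp τ (fun a => f a • vec h P a o), ← hψ,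
      ← hσ, hs, zero_smul, sub_zero]
    exact hf.1
  have hsingle : ∀ (a b : Fin r) (c : k), a ≠ b → c ≠ 0 → c • (Pi.single a 1 - Pi.single b 1) ∉ K := by
    intro a b c hab hc hm
    have h1 : ψ (c • (Pi.single a 1 - Pi.single b 1)) = 0 := hm.1
    rw [map_smul, map_sub, Fintype.linearCombination_apply_single, Fintype.linearCombination_apply_single,
      one_smul, one_smul, ← hsub, smul_eq_zero] at h1
    exact vec_ne_zero h P hab (h1.resolve_left hc)
  have hconst : ∀ f ∈ K, ∀ a b, f a = f b := by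
    intro f hf a b
    by_contra hab'
    have hab : a ≠ b := fun hh => hab' (hh ▸ rfl)
    have h9 := h.nine
    obtain ⟨c, hc⟩ := exists_notMem (S := ({a, b} : Finset (Fin r)))
      (lt_of_le_of_lt Finset.card_le_two (by omega))
    obtain ⟨d, hd⟩ := exists_notMem (S := ({a, b, c} : Finset (Fin r)))
      (lt_of_le_of_lt Finset.card_le_three (by omega))
    obtain ⟨e, he⟩ := exists_notMem (S := ({a, b, c, d} : Finset (Fin r)))
      (lt_of_le_of_lt Finset.card_le_four (by omega))
    obtain ⟨q, hq⟩ := exists_notMem (S := ({a, b, c, d, e} : Finset (Fin r)))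
      (lt_of_le_of_lt Finset.card_le_five (by omega))
    simp only [Finset.mem_insert, Finset.mem_singleton, not_or] at hc hd he hq
    have hcd : c ≠ d := fun hh => hd.2.2 hh.symm
    let τ : Perm (Fin r) := swap a b * swap c d
    have hτ : τ ∈ alternatingGroup (Fin r) := by
      rw [Perm.mem_alternatingGroup, map_mul, Perm.sign_swap hab, Perm.sign_swap hcd]; rfl
    have hu : f - (fun i => f (τ i)) ∈ K := K.sub_mem hf (hperm τ hτ f hf)
    have hueq : f - (fun i => f (τ i)) = (f a - f b) • (Pi.single a 1 - Pi.single b 1) +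
        (f c - f d) • (Pi.single c 1 - Pi.single d 1) := by
      funext i
      simp only [Pi.sub_apply, Pi.add_apply, Pi.smul_apply, smul_eq_mul, τ, Perm.mul_apply]
      by_cases hia : i = a
      · subst hia
        rw [swap_apply_of_ne_of_ne (Ne.symm hc.1) (Ne.symm hd.1), swap_apply_left]
        simp [hab, Ne.symm hc.1, Ne.symm hd.1]
      by_cases hib : i = b
      · subst hib
        rw [swap_apply_of_ne_of_ne (Ne.symm hc.2) (Ne.symm hd.2.1), swap_apply_right]
        simp [Ne.symm hab, Ne.symm hc.2, Ne.symm hd.2.1]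
      by_cases hic : i = c
      · subst hic
        rw [swap_apply_left, swap_apply_of_ne_of_ne hd.1 hd.2.1]
        simp [hc.1, hc.2, hcd]
      by_cases hid : i = d
      · subst hid
        rw [swap_apply_right, swap_apply_of_ne_of_ne hc.1 hc.2]
        simp [hd.1, hd.2.1, Ne.symm hcd]
      rw [swap_apply_of_ne_of_ne hic hid, swap_apply_of_ne_of_ne hia hib]
      simp [hia, hib, hic, hid]
    rw [hueq] at hu
    by_cases hcd' : f c - f d = 0
    · rw [hcd', zero_smul, add_zero] at hu
      exact hsingle a b _ hab (sub_ne_zero.2 hab') hu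
    let τ' : Perm (Fin r) := swap c e * swap c q
    have hτ' : τ' ∈ alternatingGroup (Fin r) := by
      rw [Perm.mem_alternatingGroup, map_mul, Perm.sign_swap (Ne.symm he.2.2.1),
        Perm.sign_swap (Ne.symm hq.2.2.1)]; rfl
    have hu' := K.sub_mem hu (hperm τ' hτ' _ hu)
    refine hsingle c e _ (Ne.symm he.2.2.1) hcd' ?_
    convert hu' using 1
    funext i
    simp only [Pi.sub_apply, Pi.add_apply, Pi.smul_apply, smul_eq_mul, τ', Perm.mul_apply]
    obtain ⟨hea, heb, hec, hed⟩ := he
    obtain ⟨hqa, hqb, hqc, hqd, hqe⟩ := hq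
    by_cases hic : i = c
    · subst hic
      rw [swap_apply_left, swap_apply_of_ne_of_ne hqc hqe]
      simp [hc.1, hc.2, hcd, Ne.symm hec, hqa, hqb, hqc, hqd]
    by_cases hiq : i = q
    · subst hiq
      rw [swap_apply_right, swap_apply_left]
      simp [hqa, hqb, hqc, hqd, hqe, hea, heb, hec, hed]
    rw [swap_apply_of_ne_of_ne hic hiq]
    by_cases hie : i = e
    · subst hie
      rw [swap_apply_right]
      simp [hc.1, hc.2, hcd, hea, heb, hec, hed]
    rw [swap_apply_of_ne_of_ne hic hie]
    simp [hic, hie]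
  have hK : finrank k K ≤ (if (r : k) = 0 then 1 else 0) := by
    have hle : K ≤ Submodule.span k {fun _ => (1 : k)} := fun f hf =>
      Submodule.mem_span_singleton.2 ⟨f o, funext fun i => by simp [hconst f hf i o]⟩
    split_ifs with hr0
    · exact (Submodule.finrank_mono hle).trans ((finrank_span_le_card _).trans (by simp))
    · rw [Nat.le_zero, Submodule.finrank_eq_zero, eq_bot_iff]
      intro f hf
      obtain ⟨c, rfl⟩ := Submodule.mem_span_singleton.1 (hle hf)
      have h1 : σ (c • fun _ => (1 : k)) = 0 := hf.2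
      rw [hσ] at h1
      simp at h1
      rcases h1 with h1 | h1
      · exact absurd h1 hr0
      · simp [h1]
  have h1 := LinearMap.finrank_range_add_finrank_ker (ψ.domRestrict (LinearMap.ker σ))
  have h2 := Submodule.finrank_le (LinearMap.range (ψ.domRestrict (LinearMap.ker σ)))
  have h3 : finrank k (LinearMap.ker (ψ.domRestrict (LinearMap.ker σ))) ≤ finrank k K := by
    refine LinearMap.finrank_le_finrank_of_injective
      (f := ((LinearMap.ker σ).subtype.comp (LinearMap.ker (ψ.domRestrict (LinearMap.ker σ))).subtype).codRestrict K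
        fun x => ⟨LinearMap.mem_ker.1 x.2, x.1.2⟩) ?_
    intro x y hxy
    exact Subtype.ext (Subtype.ext (congrArg (fun z : K => (z : Fin r → k)) hxy))
  have h4 := LinearMap.finrank_range_add_finrank_ker σ
  have h5 := Submodule.finrank_le (LinearMap.range σ)
  rw [finrank_self] at h5
  rw [Module.finrank_fintype_fun_eq_card, Fintype.card_fin] at h4
  omega

end PairVec

end Cfsg.Agent.AltDegree
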