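import Mathlib.GroupTheory.Perm.ViaEmbedding
import Mathlib.GroupTheory.SpecificGroups.Alternating.Simple
import Mathlib.GroupTheory.GroupAction.MultipleTransitivity
import Mathlib.GroupTheory.Perm.Fin
import Cfsg.Agent.Lib.SpinCover.Multiplier

/-!
Cycles along embeddings and pointwise stabilisers in the alternating group.
-/

set_option autoImplicit false

namespace Cfsg.Agent.AltDegree

open Equiv

variable {r l j : ℕ}

/-- The cycle through `e 0, e 1, …`. -/
noncomputable def cyc (e : Fin l ↪ Fin r) : Perm (Fin r) := Perm.viaEmbeddingHom e (finRotate l)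

theorem cyc_apply (e : Fin l ↪ Fin r) (i : Fin l) : cyc e (e i) = e (finRotate l i) :=
  Perm.viaEmbedding_apply _ e i

theorem cyc_apply_notMem (e : Fin l ↪ Fin r) {x : Fin r} (hx : ∀ i, e i ≠ x) : cyc e x = x :=
  Perm.viaEmbedding_apply_of_notMem _ e x (by rintro ⟨i, hi⟩; exact hx i hi)

theorem conj_cyc (g : Perm (Fin r)) (e : Fin l ↪ Fin r) :
    g * cyc e * g⁻¹ = cyc (e.trans g.toEmbedding) := by
  ext x
  rw [Perm.mul_apply, Perm.mul_apply]
  by_cases hx : ∃ i, g (e i) = x
  · obtain ⟨i, rfl⟩ := hx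
    rw [show g⁻¹ (g (e i)) = e i from g.symm_apply_apply _, cyc_apply]
    exact congrArg Fin.val (cyc_apply (e.trans g.toEmbedding) i).symm
  · push Not at hx
    rw [cyc_apply_notMem _ (fun i h => hx i (by rw [h]; exact g.apply_symm_apply x)),
      show g (g⁻¹ x) = x from g.apply_symm_apply x, cyc_apply_notMem (e.trans g.toEmbedding) hx]

theorem cyc_equiv (p : Perm (Fin l)) (e : Fin l ↪ Fin r) :
    cyc (p.toEmbedding.trans e) = Perm.viaEmbeddingHom e (p * finRotate l * p⁻¹) := by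
  ext x
  congr 1
  by_cases hx : ∃ i, e i = x
  · obtain ⟨i, rfl⟩ := hx
    have h := cyc_apply (p.toEmbedding.trans e) (p⁻¹ i)
    simp only [Function.Embedding.trans_apply, Equiv.coe_toEmbedding] at h
    rw [show p (p⁻¹ i) = i from p.apply_symm_apply i] at h
    rw [h, Perm.viaEmbeddingHom_apply, Perm.viaEmbedding_apply]
    rfl
  · push Not at hx
    rw [cyc_apply_notMem _ (fun i => hx (p i)), Perm.viaEmbeddingHom_apply,
      Perm.viaEmbedding_apply_of_notMem _ _ _ (by rintro ⟨i, hi⟩; exact hx i hi)]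

theorem cyc_pow_card (e : Fin l ↪ Fin r) (hl : 2 ≤ l) : cyc e ^ l = 1 := by
  obtain ⟨m, rfl⟩ := Nat.exists_eq_add_of_le' hl
  unfold cyc
  rw [← map_pow]
  convert map_one (Perm.viaEmbeddingHom e) using 2
  rw [← orderOf_dvd_iff_pow_eq_one, ← Perm.lcm_cycleType, cycleType_finRotate]
  simp

theorem cyc_ne_one (e : Fin l ↪ Fin r) (hl : 2 ≤ l) : cyc e ≠ 1 := by
  obtain ⟨m, rfl⟩ := Nat.exists_eq_add_of_le' hl
  intro h
  have h1 := cyc_apply e 0
  rw [h, Perm.one_apply] at h1
  have h2 := e.injective h1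
  simp [finRotate_succ_apply, Fin.ext_iff] at h2

theorem sign_cyc (e : Fin l ↪ Fin r) (hl : Odd l) : cyc e ∈ alternatingGroup (Fin r) := by
  classical
  obtain ⟨m, rfl⟩ := hl
  rw [Perm.mem_alternatingGroup]
  simp only [cyc, Perm.viaEmbeddingHom_apply, Perm.viaEmbedding]
  convert (Perm.sign_extendDomain (finRotate (2 * m + 1)) (ofInjective e.1 e.2)).trans ?_ using 3
  rw [sign_finRotate]
  simp

theorem commute_cyc {l' : ℕ} (e : Fin l ↪ Fin r) (f : Fin l' ↪ Fin r) (h : ∀ i j, e i ≠ f j) :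
    Commute (cyc e) (cyc f) := by
  refine Perm.Disjoint.commute fun x => ?_
  by_cases hx : ∃ i, e i = x
  · obtain ⟨i, rfl⟩ := hx
    exact Or.inr (cyc_apply_notMem f fun j hj => h i j hj.symm)
  · exact Or.inl (cyc_apply_notMem e (not_exists.1 hx))

/-- The even permutations fixing `S` pointwise. -/
def fixEven (S : Finset (Fin r)) : Subgroup (Perm (Fin r)) where
  carrier := {g | g ∈ alternatingGroup (Fin r) ∧ ∀ i ∈ S, g i = i}
  one_mem' := ⟨one_mem _, fun _ _ => rfl⟩
  mul_mem' := fun {a b} ha hb => ⟨mul_mem ha.1 hb.1, fun i hi => by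
    rw [Perm.mul_apply, hb.2 i hi, ha.2 i hi]⟩
  inv_mem' := fun {a} ha => ⟨inv_mem ha.1, fun i hi => Perm.inv_eq_iff_eq.2 (ha.2 i hi).symm⟩

theorem mem_fixEven {S : Finset (Fin r)} {g : Perm (Fin r)} :
    g ∈ fixEven S ↔ g ∈ alternatingGroup (Fin r) ∧ ∀ i ∈ S, g i = i := Iff.rfl

theorem fixEven_mono {S T : Finset (Fin r)} (h : S ⊆ T) : fixEven T ≤ fixEven S :=
  fun _ hg => ⟨hg.1, fun i hi => hg.2 i (h hi)⟩

theorem cyc_mem_fixEven (e : Fin l ↪ Fin r) (hl : Odd l) {S : Finset (Fin r)}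
    (h : ∀ i, e i ∉ S) : cyc e ∈ fixEven S :=
  ⟨sign_cyc e hl, fun x hx => cyc_apply_notMem e fun i hi => h i (hi ▸ hx)⟩

theorem exists_notMem {S : Finset (Fin r)} (h : S.card < r) : ∃ x, x ∉ S := by
  obtain ⟨x, -, hx⟩ := Finset.exists_mem_notMem_of_card_lt_card (s := S) (t := Finset.univ) (by simpa using h)
  exact ⟨x, hx⟩

/-- An even permutation carrying one tuple to another. -/
theorem exists_even_map (e f : Fin j ↪ Fin r) (hj : j + 2 ≤ r) :
    ∃ g ∈ alternatingGroup (Fin r), ∀ i, g (e i) = f i := by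
  classical
  obtain ⟨g, hg⟩ := MulAction.isMultiplyPretransitive_iff.1
    (Equiv.Perm.isMultiplyPretransitive (Fin r) j) e f
  have hg' : ∀ i, g (e i) = f i := fun i => congrArg (fun h : Fin j ↪ Fin r => h i) hg
  rcases Int.units_eq_one_or (Perm.sign g) with h | h
  · exact ⟨g, Perm.mem_alternatingGroup.2 h, hg'⟩
  · obtain ⟨a, ha⟩ := exists_notMem (S := Finset.univ.map f) (by simp; omega)
    obtain ⟨b, hb⟩ := exists_notMem (S := insert a (Finset.univ.map f))
      (lt_of_le_of_lt (Finset.card_insert_le _ _) (by simp; omega))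
    simp at ha hb
    refine ⟨swap a b * g, Perm.mem_alternatingGroup.2 (by
      rw [map_mul, h, Perm.sign_swap (Ne.symm hb.1)]; rfl), fun i => ?_⟩
    rw [Perm.mul_apply, hg' i, swap_apply_of_ne_of_ne (ha i) (hb.2 i)]

/-- An even permutation fixing `S` which maps `a` to `b`. -/
theorem exists_fixEven_map {S : Finset (Fin r)} {a b : Fin r} (ha : a ∉ S) (hb : b ∉ S)
    (hS : S.card + 3 ≤ r) : ∃ g ∈ fixEven S, g a = b := by
  classical
  rcases eq_or_ne a b with rfl | hab
  · exact ⟨1, one_mem _, rfl⟩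
  obtain ⟨c, hc⟩ := exists_notMem (S := insert a (insert b S)) (by
    have h1 := Finset.card_insert_le a (insert b S)
    have h2 := Finset.card_insert_le b S
    omega)
  simp only [Finset.mem_insert, not_or] at hc
  refine ⟨swap a c * swap a b, ⟨Perm.mem_alternatingGroup.2 (by
    rw [map_mul, Perm.sign_swap hab, Perm.sign_swap (Ne.symm hc.1)]; rfl), fun i hi => ?_⟩, ?_⟩
  · have h1 : i ≠ a := fun h => ha (h ▸ hi)
    have h2 : i ≠ b := fun h => hb (h ▸ hi)
    have h3 : i ≠ c := fun h => hc.2.2 (h ▸ hi)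
    rw [Perm.mul_apply, swap_apply_of_ne_of_ne h1 h2, swap_apply_of_ne_of_ne h1 h3]
  · rw [Perm.mul_apply, swap_apply_left,
      swap_apply_of_ne_of_ne hab.symm (Ne.symm hc.2.1)]

theorem fixEven_insert_sup {S : Finset (Fin r)} {x y : Fin r} (hxy : x ≠ y) (hx : x ∉ S) (hy : y ∉ S)
    (hS : S.card + 4 ≤ r) {H : Subgroup (Perm (Fin r))} (h1 : fixEven (insert x S) ≤ H)
    (h2 : fixEven (insert y S) ≤ H) : fixEven S ≤ H := by
  classical
  intro g hg
  have key : ∀ g ∈ fixEven S, g x ≠ y → g ∈ H := by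
    intro g hg hgx
    rcases eq_or_ne (g x) x with h | h
    · exact h1 ⟨hg.1, fun i hi => by
        rcases Finset.mem_insert.1 hi with rfl | hi
        · exact h
        · exact hg.2 i hi⟩
    have hgS : g x ∉ S := fun h' => hx (g.injective (hg.2 _ h') ▸ h')
    obtain ⟨h', hh', hh⟩ := exists_fixEven_map (S := insert y S) (a := g x) (b := x)
      (by simp [hgx, hgS]) (by simp [hxy, hx]) (le_trans (Nat.add_le_add_right (Finset.card_insert_le _ _) 3) (by omega))
    have h3 : h' * g ∈ fixEven (insert x S) := ⟨mul_mem hh'.1 hg.1, fun i hi => by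
      rw [Perm.mul_apply]
      rcases Finset.mem_insert.1 hi with rfl | hi
      · exact hh
      · rw [hg.2 i hi, hh'.2 i (Finset.mem_insert_of_mem hi)]⟩
    simpa using mul_mem (inv_mem (h2 hh')) (h1 h3)
  by_cases hgx : g x = y
  · obtain ⟨z, hz⟩ := exists_notMem (S := insert x (insert y S)) (by
      have := Finset.card_insert_le x (insert y S); have := Finset.card_insert_le y S; omega)
    simp only [Finset.mem_insert, not_or] at hz
    obtain ⟨h', hh', hh⟩ := exists_fixEven_map (S := insert x S) (a := y) (b := z)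
      (by simp [hxy.symm, hy]) (by simp [hz.1, hz.2.2]) (le_trans (Nat.add_le_add_right (Finset.card_insert_le _ _) 3) (by omega))
    have hh'S := fixEven_mono (Finset.subset_insert x S) hh'
    simpa using mul_mem (inv_mem (h1 hh')) (key (h' * g) (mul_mem hh'S hg)
      (by rw [Perm.mul_apply, hgx, hh]; exact hz.2.1))
  · exact key g hg hgx

/-- Overlapping supports generate. -/
theorem alt_le_of_overlap {S : Finset (Fin r)} {a : Fin r} (ha : a ∉ S) (hS2 : 2 ≤ S.card)
    (hS : S.card + 3 ≤ r) {H : Subgroup (Perm (Fin r))} (h1 : fixEven (insert a S)ᶜ ≤ H)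
    (h2 : fixEven S ≤ H) : alternatingGroup (Fin r) ≤ H := by
  classical
  obtain ⟨u, hu, v, hv, huv⟩ := Finset.one_lt_card.1 hS2
  refine (SpinCover.Multiplier.closure_tri u v huv).trans ((Subgroup.closure_le _).2 ?_)
  rintro _ ⟨i, ⟨hiu, hiv⟩, rfl⟩
  have htri : ∀ i, i ≠ u → i ≠ v → i ∈ insert a S → SpinCover.Multiplier.tri u v i ∈ H := by
    intro i hiu hiv hi
    refine h1 ⟨(Perm.isThreeCycle_swap_mul_swap_same huv hiu.symm hiv.symm).mem_alternatingGroup,
      fun x hx => ?_⟩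
    rw [Finset.mem_compl] at hx
    have h3 : x ≠ u := fun h => hx (h ▸ Finset.mem_insert_of_mem hu)
    have h4 : x ≠ v := fun h => hx (h ▸ Finset.mem_insert_of_mem hv)
    have h5 : x ≠ i := fun h => hx (h ▸ hi)
    rw [SpinCover.Multiplier.tri, Perm.mul_apply, swap_apply_of_ne_of_ne h3 h5,
      swap_apply_of_ne_of_ne h3 h4]
  by_cases hi : i ∈ insert a S
  · exact htri i hiu hiv hi
  simp only [Finset.mem_insert, not_or] at hi
  obtain ⟨g, hg, hga⟩ := exists_fixEven_map ha hi.2 hS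
  have h3 := SpinCover.Multiplier.conj_tri g u v a
  rw [hg.2 u hu, hg.2 v hv, hga] at h3
  show SpinCover.Multiplier.tri u v i ∈ H
  rw [← h3]
  exact mul_mem (mul_mem (h2 hg) (htri a (fun h => ha (h ▸ hu)) (fun h => ha (h ▸ hv))
    (Finset.mem_insert_self _ _))) (inv_mem (h2 hg))

/-- Simplicity of a pointwise stabiliser. -/
theorem fixEven_le_of_normalized {S : Finset (Fin r)} (hS : S.card + 5 ≤ r)
    {N : Subgroup (Perm (Fin r))} (hnorm : ∀ g ∈ fixEven S, ∀ x ∈ N, g * x * g⁻¹ ∈ N)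
    {x : Perm (Fin r)} (hx : x ∈ N) (hxS : x ∈ fixEven S) (hx1 : x ≠ 1) : fixEven S ≤ N := by
  classical
  let p : Fin r → Prop := fun i => i ∉ S
  let φ : alternatingGroup {i // p i} →* Perm (Fin r) :=
    Perm.ofSubtype.comp (alternatingGroup _).subtype
  have hφmem : ∀ g, φ g ∈ fixEven S := fun g => ⟨by
    rw [Perm.mem_alternatingGroup]
    exact (Perm.sign_ofSubtype _).trans (Perm.mem_alternatingGroup.1 g.2),
    fun i hi => Perm.ofSubtype_apply_of_not_mem _ (by simpa [p] using hi)⟩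
  have hsurj : ∀ g ∈ fixEven S, ∃ g', φ g' = g := by
    intro g hg
    have h1 : ∀ i, p (g i) ↔ p i := fun i => not_congr ⟨fun h => by
      have := hg.2 _ h; rwa [g.injective this] at h, fun h => by rwa [hg.2 i h]⟩
    have h2 : ∀ i, g i ≠ i → p i := fun i hi h => hi (hg.2 i h)
    refine ⟨⟨g.subtypePerm h1, Perm.mem_alternatingGroup.2 ?_⟩, Perm.ofSubtype_subtypePerm h1 h2⟩
    rw [Perm.sign_subtypePerm g h1 h2]
    exact Perm.mem_alternatingGroup.1 hg.1
  haveI : IsSimpleGroup (alternatingGroup {i // p i}) := alternatingGroup.isSimpleGroup (by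
    rw [Nat.card_eq_fintype_card, Fintype.card_subtype,
      show Finset.univ.filter p = Sᶜ by ext; simp [p], Finset.card_compl, Fintype.card_fin]
    omega)
  have hN : (N.comap φ).Normal := ⟨fun n hn g => by
    rw [Subgroup.mem_comap, map_mul, map_mul, map_inv]
    exact hnorm _ (hφmem g) _ hn⟩
  rcases hN.eq_bot_or_eq_top with h | h
  · obtain ⟨x', rfl⟩ := hsurj x hxS
    have : x' ∈ N.comap φ := hx
    rw [h, Subgroup.mem_bot] at this
    exact absurd (by rw [this, map_one]) hx1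
  · intro g hg
    obtain ⟨g', rfl⟩ := hsurj g hg
    exact Subgroup.mem_comap.1 (h ▸ Subgroup.mem_top g')

end Cfsg.Agent.AltDegree
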