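import Cfsg.Agent.Lib.AltDegree.Core
import Mathlib.GroupTheory.Nilpotent
import Mathlib.GroupTheory.Solvable
import Mathlib.GroupTheory.Sylow
import Mathlib.LinearAlgebra.Matrix.ToLin

/-!
Reduction of the degree bound to irreducible faithful representations with scalar kernel.
-/

set_option autoImplicit false

namespace Cfsg.Agent.AltDegree

open Module Equiv

variable {r : ℕ} {G : Type} [Group G] [Finite G] {π : G →* Perm (Fin r)}

theorem factorial_bound {r : ℕ} (hr : 9 ≤ r) {m : ℕ} (hm : m + 2 ≤ r) :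
    m.factorial < Nat.card (alternatingGroup (Fin r)) := by
  haveI : Nontrivial (Fin r) := Fin.nontrivial_iff_two_le.2 (by omega)
  have h1 : 2 * Nat.card (alternatingGroup (Fin r)) = r.factorial := by
    rw [two_mul_nat_card_alternatingGroup, Nat.card_perm, Nat.card_fin]
  obtain ⟨q, rfl⟩ := Nat.exists_eq_add_of_le' (show 2 ≤ r by omega)
  have h2 : m.factorial ≤ q.factorial := Nat.factorial_le (by omega)
  have h3 := Nat.factorial_pos q
  have h4 : (q + 2).factorial = (q + 2) * ((q + 1) * q.factorial) := by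
    rw [Nat.factorial_succ, Nat.factorial_succ]
  have h5 : 3 * q.factorial ≤ (q + 1) * q.factorial := Nat.mul_le_mul_right _ (by omega)
  have h6 : 2 * ((q + 1) * q.factorial) ≤ (q + 2) * ((q + 1) * q.factorial) :=
    Nat.mul_le_mul_right _ (by omega)
  omega

theorem card_alt_ge {r : ℕ} (hr : 9 ≤ r) : 16 ^ 4 < Nat.card (alternatingGroup (Fin r)) := by
  haveI : Nontrivial (Fin r) := Fin.nontrivial_iff_two_le.2 (by omega)
  have h1 : 2 * Nat.card (alternatingGroup (Fin r)) = r.factorial := by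
    rw [two_mul_nat_card_alternatingGroup, Nat.card_perm, Nat.card_fin]
  have h2 : Nat.factorial 9 ≤ r.factorial := Nat.factorial_le hr
  have h3 : Nat.factorial 9 = 362880 := by decide
  have h4 : (16 : ℕ) ^ 4 = 65536 := by norm_num
  omega

theorem sq_lt_two_pow : ∀ r, 9 ≤ r → r * r < 2 ^ (r - 2) := by
  intro r hr
  induction r, hr using Nat.le_induction with
  | base => decide
  | succ m hm ih =>
    rw [show m + 1 - 2 = (m - 2) + 1 by omega, pow_succ]
    nlinarith

/-- No proper subgroup covers the alternating group. -/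
def Minimal (π : G →* Perm (Fin r)) : Prop :=
  ∀ H : Subgroup G, alternatingGroup (Fin r) ≤ H.map π → H = ⊤

/-- A normal subgroup outside the kernel is everything. -/
theorem eq_top_of_normal (hr : 9 ≤ r) (hπ : π.range = alternatingGroup (Fin r)) (hmin : Minimal π)
    {N : Subgroup G} [N.Normal] {n : G} (hn : n ∈ N) (hn1 : π n ≠ 1) : N = ⊤ := by
  refine hmin N fun σ hσ => ?_
  refine fixEven_le_of_normalized (N := N.map π) (S := ∅) (by simp; omega) ?_ ⟨n, hn, rfl⟩
    ⟨(show π n ∈ alternatingGroup (Fin r) from hπ ▸ MonoidHom.mem_range.2 ⟨n, rfl⟩), by simp⟩ hn1 ⟨hσ, by simp⟩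
  rintro τ hτ _ ⟨y, hy, rfl⟩
  obtain ⟨g, rfl⟩ : τ ∈ π.range := hπ ▸ hτ.1
  exact ⟨g * y * g⁻¹, Subgroup.Normal.conj_mem inferInstance y hy g, by rw [map_mul, map_mul, map_inv]⟩

theorem exists_not_commute (hr : 9 ≤ r) (hπ : π.range = alternatingGroup (Fin r)) :
    ∃ a b : G, π (a * b) ≠ π (b * a) := by
  let e : Fin 3 ↪ Fin r := Fin.castLEEmb (by omega)
  let f : Fin 3 ↪ Fin r := ⟨fun i => ⟨i + 1, by omega⟩, fun i j hij => by simpa [Fin.ext_iff] using hij⟩
  obtain ⟨a, ha⟩ : cyc e ∈ π.range := hπ ▸ sign_cyc e (by decide)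
  obtain ⟨b, hb⟩ : cyc f ∈ π.range := hπ ▸ sign_cyc f (by decide)
  refine ⟨a, b, fun hab => ?_⟩
  rw [map_mul, map_mul, ha, hb] at hab
  have h1 := congrArg (fun σ : Perm (Fin r) => σ (e 0)) hab
  simp only [Perm.mul_apply] at h1
  rw [cyc_apply_notMem f (x := e 0) (fun i hi => by
    have := congrArg Fin.val hi; simp [e, f] at this), cyc_apply] at h1
  rw [show e (finRotate 3 0) = f 0 from Fin.ext rfl, cyc_apply] at h1
  exact absurd (f.injective h1) (by decide)

/-- All commutators die in the image, so the kernel is not inside the kernel of `π`. -/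
theorem not_abelian_image (hr : 9 ≤ r) (hπ : π.range = alternatingGroup (Fin r)) {M : Type*} [Monoid M]
    (φ : G →* M) (hc : ∀ a b, φ a * φ b = φ b * φ a) : ∃ g, φ g = 1 ∧ π g ≠ 1 := by
  obtain ⟨a, b, hab⟩ := exists_not_commute hr hπ
  refine ⟨a * b * (b * a)⁻¹, ?_, ?_⟩
  · rw [map_mul φ (a * b), map_mul φ a b, hc, ← map_mul, ← map_mul, mul_inv_cancel, map_one]
  · rw [map_mul, map_inv, Ne, mul_inv_eq_one]
    exact hab

variable {k : Type} [Field k] {V : Type} [AddCommGroup V] [Module k V] [FiniteDimensional k V]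
  {ρ : G →* End k V}

theorem toGroup_ker (g : G) : g ∈ ρ.toHomUnits.ker ↔ ρ g = 1 := by
  rw [MonoidHom.mem_ker, Units.ext_iff]
  simp

open Classical in
/-- A reducible representation reduces to a constituent. -/
theorem reducible_case (hr : 9 ≤ r) (hπ : π.range = alternatingGroup (Fin r)) [IsAlgClosed k]
    (hmin : Minimal π) (hρ : ∀ g, ρ g = 1 → π g = 1) (hB : ∀ m, m < finrank k V → Bound m)
    {W : Submodule k V} (hW : ∀ g, ∀ w ∈ W, ρ g w ∈ W) (hW0 : W ≠ ⊥) (hWT : W ≠ ⊤) :
    r - 1 - (if (r : k) = 0 then 1 else 0) ≤ finrank k V := by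
  let ρ₁ : G →* End k W :=
    { toFun := fun g => (ρ g).restrict (hW g)
      map_one' := LinearMap.ext fun w => Subtype.ext (by simp)
      map_mul' := fun a b => LinearMap.ext fun w => Subtype.ext (mul_apply' (ρ := ρ) a b w) }
  let ρ₂ : G →* End k (V ⧸ W) :=
    { toFun := fun g => W.mapQ W (ρ g) (hW g)
      map_one' := Submodule.linearMap_qext _ (LinearMap.ext fun w => by simp)
      map_mul' := fun a b => Submodule.linearMap_qext _ (LinearMap.ext fun w => by simp [mul_apply']) }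
  have hlt1 : finrank k W < finrank k V := Submodule.finrank_lt hWT
  have hlt2 : finrank k (V ⧸ W) < finrank k V := by
    have := W.finrank_quotient_add_finrank
    have : finrank k W ≠ 0 := fun h0 => hW0 (Submodule.finrank_eq_zero.1 h0)
    omega
  by_cases h1 : ∀ g, ρ₁ g = 1 → π g = 1
  · exact (hB _ hlt1 k W G r π ρ₁ hr hπ h1 rfl).trans hlt1.le
  by_cases h2 : ∀ g, ρ₂ g = 1 → π g = 1
  · exact (hB _ hlt2 k (V ⧸ W) G r π ρ₂ hr hπ h2 rfl).trans hlt2.le
  exfalso
  push Not at h1 h2
  obtain ⟨a, ha, ha1⟩ := h1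
  obtain ⟨b, hb, hb1⟩ := h2
  have e1 := eq_top_of_normal hr hπ hmin (N := ρ₁.toHomUnits.ker) ((toGroup_ker a).2 ha) ha1
  have e2 := eq_top_of_normal hr hπ hmin (N := ρ₂.toHomUnits.ker) ((toGroup_ker b).2 hb) hb1
  have f1 : ∀ g, ∀ w ∈ W, ρ g w = w := fun g w hw => by
    have h := (toGroup_ker (ρ := ρ₁) g).1 (e1 ▸ Subgroup.mem_top g)
    exact congrArg Subtype.val (LinearMap.congr_fun h ⟨w, hw⟩)
  have f2 : ∀ g v, ρ g v - v ∈ W := fun g v => by
    have h := (toGroup_ker (ρ := ρ₂) g).1 (e2 ▸ Subgroup.mem_top g)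
    exact (Submodule.Quotient.eq W).1 (LinearMap.congr_fun h (Submodule.Quotient.mk v))
  have hc : ∀ a b, ρ a * ρ b = ρ b * ρ a := fun a b => LinearMap.ext fun v => by
    have h1 : ρ a (ρ b v) = ρ a v + (ρ b v - v) := by
      conv_lhs => rw [← add_sub_cancel v (ρ b v), map_add, f1 a _ (f2 b v)]
    have h2 : ρ b (ρ a v) = ρ b v + (ρ a v - v) := by
      conv_lhs => rw [← add_sub_cancel v (ρ a v), map_add, f1 b _ (f2 a v)]
    rw [End.mul_apply, End.mul_apply, h1, h2]
    abel
  obtain ⟨g, hg, hg1⟩ := not_abelian_image hr hπ ρ hc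
  exact hg1 (hρ g hg)

variable [IsAlgClosed k]

/-- A normal subgroup of the kernel with commutative image is scalar. -/
theorem scalar_of_abelian (hr : 9 ≤ r) (hπ : π.range = alternatingGroup (Fin r)) (hmin : Minimal π)
    (hirr : ∀ W : Submodule k V, (∀ g, ∀ w ∈ W, ρ g w ∈ W) → W = ⊥ ∨ W = ⊤)
    (hn : finrank k V + 2 ≤ r) (A : Subgroup G) [A.Normal]
    (hc : ∀ a ∈ A, ∀ b ∈ A, ρ a * ρ b = ρ b * ρ a) : ∀ a ∈ A, ∃ c : k, ∀ v, ρ a v = c • v := by
  classical
  rcases subsingleton_or_nontrivial V with hV | hV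
  · exact fun a _ => ⟨1, fun v => Subsingleton.elim _ _⟩
  haveI := Fintype.ofFinite A
  let Eig : (A → k) → Submodule k V := fun χ => ⨅ a : A, eig ρ (a : G) (χ a)
  let S := {χ : A → k // Eig χ ≠ ⊥}
  have hmem : ∀ χ v, v ∈ Eig χ ↔ ∀ a : A, ρ (a : G) v = χ a • v := fun χ v => by
    simp [Eig, Submodule.mem_iInf, mem_eig]
  have hnz : ∀ (χ : S) (a : A), χ.1 a ≠ 0 := fun χ a h0 => by
    obtain ⟨v, hv, hv0⟩ := Submodule.exists_mem_ne_zero_of_ne_bot χ.2
    exact hv0 (rho_injective (ρ := ρ) (a : G) (by rw [(hmem _ v).1 hv a, h0, zero_smul, map_zero]))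
  let Ψ : S → AddChar (A → ℤ) k := fun χ =>
    { toFun := fun x => ∏ a, χ.1 a ^ x a
      map_zero_eq_one' := by simp
      map_add_eq_mul' := fun x y => by simp [zpow_add₀ (hnz χ _), Finset.prod_mul_distrib] }
  have hΨ : Function.Injective Ψ := fun χ χ' hh => Subtype.ext (funext fun a => by
    have h1 := DFunLike.congr_fun hh (Pi.single a 1)
    simp only [Ψ, AddChar.coe_mk] at h1
    rwa [Finset.prod_eq_single a (fun c _ hc => by simp [hc]) (by simp),
      Finset.prod_eq_single a (fun c _ hc => by simp [hc]) (by simp), Pi.single_eq_same, zpow_one,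
      zpow_one] at h1)
  let T : (A → ℤ) → End k V := fun x =>
    ρ ((Finset.univ : Finset A).toList.map fun a : A => (a : G) ^ x a).prod
  have hbound : ∀ s : Finset S, s.card ≤ finrank k V := by
    intro s
    have h1 := LinRep.CharOrbit.card_le_finrank T (s.image Ψ) (fun ψ hψ => by
      obtain ⟨χ, -, rfl⟩ := Finset.mem_image.1 hψ
      obtain ⟨v, hv, hv0⟩ := Submodule.exists_mem_ne_zero_of_ne_bot χ.2
      refine ⟨v, hv0, fun x => ?_⟩
      have key : ∀ L' : List A, ρ (L'.map fun a : A => (a : G) ^ x a).prod v =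
          (L'.map fun a => χ.1 a ^ x a).prod • v := by
        intro L'
        induction L' with
        | nil => simp
        | cons a L' ih =>
          rw [List.map_cons, List.prod_cons, List.map_cons, List.prod_cons, mul_apply', ih, map_smul,
            Hyp.zpow_eig (hnz χ a) ((hmem _ v).1 hv a) (x a), smul_smul, mul_comm]
      refine (key _).trans ?_
      show _ = (∏ a, χ.1 a ^ x a) • v
      rw [Finset.prod_map_toList])
    rwa [Finset.card_image_of_injective _ hΨ] at h1
  haveI : Finite S := by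
    by_contra hinf
    haveI := not_finite_iff_infinite.1 hinf
    obtain ⟨s, hs⟩ := Infinite.exists_subset_card_eq S (finrank k V + 1)
    have := hbound s
    omega
  haveI := Fintype.ofFinite S
  have hS : Fintype.card S ≤ finrank k V := hbound Finset.univ
  -- the action on the characters
  let cj : G → A → A := fun g a => ⟨g⁻¹ * a * g, by simpa using Subgroup.Normal.conj_mem inferInstance (a : G) a.2 g⁻¹⟩
  have hcj : ∀ g (χ : A → k) v, v ∈ Eig χ → ρ g v ∈ Eig (fun a => χ (cj g a)) := by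
    intro g χ v hv
    rw [hmem] at hv ⊢
    intro a
    have h1 := conj_apply (ρ := ρ) (cj g a : G) g v
    rwa [hv (cj g a), map_smul, show g * (g⁻¹ * (a : G) * g) * g⁻¹ = (a : G) by group] at h1
  let act : G → S → S := fun g χ => ⟨fun a => χ.1 (cj g a), fun h0 => by
    obtain ⟨v, hv, hv0⟩ := Submodule.exists_mem_ne_zero_of_ne_bot χ.2
    have h1 := hcj g χ.1 v hv
    rw [h0, Submodule.mem_bot] at h1
    exact hv0 (rho_injective (ρ := ρ) g (h1.trans (map_zero _).symm))⟩
  have hone : ∀ χ, act 1 χ = χ := fun χ => Subtype.ext (funext fun a =>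
    congrArg χ.1 (Subtype.ext (by simp [cj])))
  have hmul : ∀ g g' χ, act (g * g') χ = act g (act g' χ) := fun g g' χ => Subtype.ext (funext fun a =>
    congrArg χ.1 (Subtype.ext (by simp [cj]; group)))
  letI : MulAction G S := { smul := act, one_smul := hone, mul_smul := hmul }
  let Φ := MulAction.toPermHom G S
  have hker : ∃ g ∈ Φ.ker, π g ≠ 1 := by
    by_contra hcon
    push Not at hcon
    have h1 : Φ.ker ≤ π.ker := fun g hg => hcon g hg
    have h2 := Nat.le_of_dvd (Nat.pos_of_ne_zero Φ.ker.index_ne_zero_of_finite) (Subgroup.index_dvd_of_le h1)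
    rw [Subgroup.index_ker, Subgroup.index_ker, hπ] at h2
    have h3 := h2.trans (Φ.range.card_le_card_group)
    rw [Nat.card_perm] at h3
    exact absurd (h3.trans (Nat.factorial_le (Nat.card_eq_fintype_card.trans_le hS)))
      (not_le.2 (factorial_bound hr hn))
  obtain ⟨g, hg, hg1⟩ := hker
  have htop := eq_top_of_normal hr hπ hmin (N := Φ.ker) hg hg1
  -- a joint eigenspace is invariant
  haveI : Nonempty S := by
    obtain ⟨v, -, hv0, hv⟩ := LinRep.CharOrbit.common_eigenvector (fun a : A => ρ (a : G))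
      (fun a b => hc a a.2 b b.2) ⊤ top_ne_bot (fun a w _ => Submodule.mem_top)
    choose χ hχ using hv
    exact ⟨⟨χ, fun h0 => hv0 ((Submodule.mem_bot k).1 (h0 ▸ (hmem χ v).2 hχ))⟩⟩
  obtain ⟨χ⟩ := ‹Nonempty S›
  have hfix : ∀ g a, χ.1 (cj g a) = χ.1 a := fun g a => by
    have h1 : Φ g χ = χ := by
      rw [show Φ g = 1 from MonoidHom.mem_ker.1 (htop ▸ Subgroup.mem_top g)]; rfl
    exact congrFun (congrArg Subtype.val h1) a
  have hinv : Eig χ.1 = ⊤ := (hirr _ (fun g w hw => by
    have h1 := hcj g χ.1 w hw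
    rwa [show (fun a => χ.1 (cj g a)) = χ.1 from funext (hfix g)] at h1)).resolve_left χ.2
  exact fun a ha => ⟨χ.1 ⟨a, ha⟩, fun v => (hmem _ v).1 (hinv ▸ Submodule.mem_top) ⟨a, ha⟩⟩

end Cfsg.Agent.AltDegree
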