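import Cfsg.Agent.Lib.AltDegree.Ext
import Cfsg.Agent.Lib.LinRep.CharOrbit
import Mathlib.LinearAlgebra.Eigenspace.Semisimple
import Mathlib.LinearAlgebra.Eigenspace.Triangularizable
import Mathlib.RingTheory.RootsOfUnity.PrimitiveRoots

/-!
Moved spaces, fixed spaces and eigenspaces in a linear representation.
-/

set_option autoImplicit false

namespace Cfsg.Agent.AltDegree

open Module

variable {G : Type*} [Group G] {k : Type*} [Field k] {V : Type*} [AddCommGroup V] [Module k V]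
  [FiniteDimensional k V] (ρ : G →* End k V)

/-- The moved space. -/
def mov (g : G) : Submodule k V := LinearMap.range (ρ g - 1)

/-- The fixed space. -/
def fixd (g : G) : Submodule k V := LinearMap.ker (ρ g - 1)

/-- The eigenspace for `c`. -/
def eig (g : G) (c : k) : Submodule k V := End.eigenspace (ρ g) c

variable {ρ}

theorem mem_fixd {g : G} {v : V} : v ∈ fixd ρ g ↔ ρ g v = v := by
  simp [fixd, sub_eq_zero]

theorem mem_eig {g : G} {c : k} {v : V} : v ∈ eig ρ g c ↔ ρ g v = c • v :=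
  End.mem_eigenspace_iff

theorem eig_one (g : G) : eig ρ g 1 = fixd ρ g := by
  ext v; rw [mem_eig, mem_fixd, one_smul]

theorem sub_mem_mov (g : G) (v : V) : ρ g v - v ∈ mov ρ g := ⟨v, by simp⟩

theorem mem_mov {g : G} {w : V} : w ∈ mov ρ g ↔ ∃ v, ρ g v - v = w := by
  simp [mov]

theorem mul_apply' (g h : G) (v : V) : ρ (g * h) v = ρ g (ρ h v) := by
  rw [map_mul]; rfl

theorem inv_apply (g : G) (v : V) : ρ g⁻¹ (ρ g v) = v := by
  rw [← mul_apply', inv_mul_cancel, map_one]; rfl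

theorem apply_inv (g : G) (v : V) : ρ g (ρ g⁻¹ v) = v := by
  simpa using inv_apply (ρ := ρ) g⁻¹ v

theorem rho_injective (g : G) : Function.Injective (ρ g) := fun v w h => by
  simpa [inv_apply] using congrArg (ρ g⁻¹) h

theorem conj_apply (g h : G) (v : V) : ρ (h * g * h⁻¹) (ρ h v) = ρ h (ρ g v) := by
  rw [mul_apply', mul_apply', inv_apply]

theorem map_mov_mem (g h : G) {w : V} (hw : w ∈ mov ρ g) : ρ h w ∈ mov ρ (h * g * h⁻¹) := by
  obtain ⟨v, rfl⟩ := mem_mov.1 hw
  exact mem_mov.2 ⟨ρ h v, by rw [conj_apply, map_sub]⟩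

theorem map_fixd_mem (g h : G) {w : V} (hw : w ∈ fixd ρ g) : ρ h w ∈ fixd ρ (h * g * h⁻¹) := by
  rw [mem_fixd] at hw ⊢
  rw [conj_apply, hw]

theorem map_eig_mem (g h : G) {c : k} {w : V} (hw : w ∈ eig ρ g c) :
    ρ h w ∈ eig ρ (h * g * h⁻¹) c := by
  rw [mem_eig] at hw ⊢
  rw [conj_apply, hw, map_smul]

theorem finrank_le_of_map {W W' : Submodule k V} (h : G) (hh : ∀ w ∈ W, ρ h w ∈ W') :
    finrank k W ≤ finrank k W' :=
  LinearMap.finrank_le_finrank_of_injective (f := (ρ h).restrict hh)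
    fun a b hab => Subtype.ext (rho_injective h (congrArg Subtype.val hab))

theorem finrank_mov_conj (g h : G) : finrank k (mov ρ (h * g * h⁻¹)) = finrank k (mov ρ g) := by
  refine le_antisymm (finrank_le_of_map (ρ := ρ) h⁻¹ fun w hw => ?_)
    (finrank_le_of_map (ρ := ρ) h fun w hw => map_mov_mem g h hw)
  have := map_mov_mem (h * g * h⁻¹) h⁻¹ hw
  simpa [mul_assoc] using this

theorem finrank_mov_add_fixd (g : G) : finrank k (mov ρ g) + finrank k (fixd ρ g) = finrank k V :=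
  LinearMap.finrank_range_add_finrank_ker _

theorem commute_apply {g h : G} (hc : Commute g h) (v : V) : ρ g (ρ h v) = ρ h (ρ g v) := by
  rw [← mul_apply', hc.eq, mul_apply']

theorem mov_invariant {g h : G} (hc : Commute h g) {w : V} (hw : w ∈ mov ρ g) : ρ h w ∈ mov ρ g := by
  have := map_mov_mem g h hw
  rwa [hc.eq, mul_inv_cancel_right] at this

theorem fixd_invariant {g h : G} (hc : Commute h g) {w : V} (hw : w ∈ fixd ρ g) :
    ρ h w ∈ fixd ρ g := by
  have := map_fixd_mem g h hw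
  rwa [hc.eq, mul_inv_cancel_right] at this

theorem eig_invariant {g h : G} (hc : Commute h g) {c : k} {w : V} (hw : w ∈ eig ρ g c) :
    ρ h w ∈ eig ρ g c := by
  have := map_eig_mem g h hw
  rwa [hc.eq, mul_inv_cancel_right] at this

theorem disjoint_mov_fixd {g : G} {l : ℕ} (hg : g ^ l = 1) (hl : (l : k) ≠ 0) :
    mov ρ g ⊓ fixd ρ g = ⊥ := by
  rw [eq_bot_iff]
  rintro w ⟨hw, hf⟩
  obtain ⟨v, rfl⟩ := mem_mov.1 hw
  have hf' : ρ g (ρ g v - v) = ρ g v - v := mem_fixd.1 hf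
  have hj : ∀ j : ℕ, ρ (g ^ j) v = v + (j : k) • (ρ g v - v) := by
    intro j
    induction j with
    | zero => simp
    | succ j ih =>
      rw [pow_succ', mul_apply', ih, map_add, map_smul, hf']
      push_cast
      rw [add_smul, one_smul]
      abel
  have h1 := hj l
  rw [hg, map_one, End.one_apply] at h1
  rw [Submodule.mem_bot]
  have h2 : (l : k) • (ρ g v - v) = 0 := by simpa using h1
  exact (smul_eq_zero.1 h2).resolve_left hl

theorem mov_sup_fixd {g : G} {l : ℕ} (hg : g ^ l = 1) (hl : (l : k) ≠ 0) :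
    mov ρ g ⊔ fixd ρ g = ⊤ := by
  refine Submodule.eq_top_of_disjoint _ _ (finrank_mov_add_fixd g).ge ?_
  rw [disjoint_iff, disjoint_mov_fixd hg hl]

theorem mov_eq_bot {g : G} : mov ρ g = ⊥ ↔ ρ g = 1 := by
  rw [mov, LinearMap.range_eq_bot, sub_eq_zero]

theorem mov_mul_le (g h : G) : mov ρ (g * h) ≤ mov ρ g ⊔ mov ρ h := by
  intro w hw
  obtain ⟨v, rfl⟩ := mem_mov.1 hw
  rw [mul_apply', ← sub_add_sub_cancel (ρ g (ρ h v)) (ρ h v) v]
  exact Submodule.add_mem_sup (sub_mem_mov g _) (sub_mem_mov h v)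

theorem mov_le_fixd_symm {g h : G} (hc : Commute g h) (hle : mov ρ h ≤ fixd ρ g) :
    mov ρ g ≤ fixd ρ h := by
  intro w hw
  obtain ⟨v, rfl⟩ := mem_mov.1 hw
  have h1 := mem_fixd.1 (hle (sub_mem_mov h v))
  rw [mem_fixd, map_sub, ← commute_apply hc]
  rw [map_sub] at h1
  rw [sub_eq_sub_iff_sub_eq_sub, h1]

theorem pow_eig {g : G} {c : k} {v : V} (hv : ρ g v = c • v) (m : ℕ) : ρ (g ^ m) v = c ^ m • v := by
  induction m with
  | zero => simp
  | succ m ih => rw [pow_succ, mul_apply', hv, map_smul, ih, smul_smul, ← pow_succ']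

theorem eig_root {g : G} {l : ℕ} (hg : g ^ l = 1) {c : k} {v : V} (hv : ρ g v = c • v) (h0 : v ≠ 0) :
    c ^ l = 1 := by
  have := pow_eig hv l
  rw [hg, map_one, End.one_apply] at this
  exact smul_left_injective k h0 (show c ^ l • v = (1 : k) • v by rw [one_smul, ← this])

theorem eig_le_mov {g : G} {c : k} (hc : c ≠ 1) : eig ρ g c ≤ mov ρ g := by
  intro v hv
  refine mem_mov.2 ⟨(c - 1)⁻¹ • v, ?_⟩
  rw [map_smul, mem_eig.1 hv, ← smul_sub, show c • v - v = (c - 1) • v by rw [sub_smul, one_smul],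
    smul_smul, inv_mul_cancel₀ (sub_ne_zero.2 hc), one_smul]

variable [IsAlgClosed k]

/-- A joint eigenvector of commuting elements of finite order inside an invariant subspace. -/
theorem exists_joint {ι : Type*} (x : ι → G) (hx : ∀ i j, Commute (x i) (x j))
    {W : Submodule k V} (hW : W ≠ ⊥) (hinv : ∀ i, ∀ w ∈ W, ρ (x i) w ∈ W) :
    ∃ v ∈ W, v ≠ 0 ∧ ∀ i, ∃ c : k, ρ (x i) v = c • v :=
  LinRep.CharOrbit.common_eigenvector (fun i => ρ (x i)) (fun i j => (hx i j).map ρ) W hW hinv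

theorem iSup_eig_eq_top {g : G} {l : ℕ} (hg : g ^ l = 1) (hl : (l : k) ≠ 0) :
    ⨆ c : k, eig ρ g c = ⊤ := by
  refine End.IsSemisimple.iSup_eigenspace_eq_top ?_
  refine End.isSemisimple_of_squarefree_aeval_eq_zero
    (p := (Polynomial.X ^ l - 1 : Polynomial k)) ?_ ?_
  · exact (Polynomial.separable_X_pow_sub_C (1 : k) hl one_ne_zero).squarefree
  · rw [map_sub, Polynomial.aeval_X_pow, map_one, ← map_pow, hg, map_one, sub_self]

theorem finrank_eq_sum {g : G} {l : ℕ} (hg : g ^ l = 1) (hl : (l : k) ≠ 0) {ω : k}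
    (hω : IsPrimitiveRoot ω l) :
    finrank k V = ∑ i : Fin l, finrank k (eig ρ g (ω ^ (i : ℕ))) := by
  classical
  set U : Fin l → Submodule k V := fun i => eig ρ g (ω ^ (i : ℕ))
  have hind : iSupIndep U :=
    (End.eigenspaces_iSupIndep (ρ g)).comp fun i j hij => Fin.ext (hω.pow_inj i.2 j.2 hij)
  have htop : ⨆ i, U i = ⊤ := by
    rw [eq_top_iff, ← iSup_eig_eq_top (ρ := ρ) hg hl]
    refine iSup_le fun c => ?_
    intro v hv
    by_cases h0 : v = 0
    · rw [h0]; exact zero_mem _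
    have hl0 : l ≠ 0 := fun h => hl (by simp [h])
    haveI : NeZero l := ⟨hl0⟩
    obtain ⟨i, hi, rfl⟩ := hω.eq_pow_of_pow_eq_one (eig_root hg (mem_eig.1 hv) h0)
    exact Submodule.mem_iSup_of_mem ⟨i, hi⟩ hv
  have hI : DirectSum.IsInternal U :=
    DirectSum.isInternal_submodule_iff_iSupIndep_and_iSup_eq_top U |>.2 ⟨hind, htop⟩
  rw [← (LinearEquiv.ofBijective (DirectSum.coeLinearMap U) hI).finrank_eq, finrank_directSum]

end Cfsg.Agent.AltDegree
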