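import Cfsg.Agent.Lib.AltDegree.Hyp

/-!
Joint eigenvalue tuples of several disjoint lifted cycles and their orbits under normalisers.
-/

set_option autoImplicit false

namespace Cfsg.Agent.AltDegree

open Module Equiv

variable {r l m : ℕ} {G : Type*} [Group G] {π : G →* Perm (Fin r)} {k : Type*} [Field k]
  {V : Type*} [AddCommGroup V] [Module k V] [FiniteDimensional k V] {ρ : G →* End k V}

/-- The `b`-th block of an embedding of `m` blocks of length `l`. -/
def blk (f : Fin m × Fin l ↪ Fin r) (b : Fin m) : Fin l ↪ Fin r :=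
  (Function.Embedding.sectR b (Fin l)).trans f

@[simp] theorem blk_apply (f : Fin m × Fin l ↪ Fin r) (b : Fin m) (i : Fin l) : blk f b i = f (b, i) :=
  rfl

theorem blk_disjoint (f : Fin m × Fin l ↪ Fin r) {b c : Fin m} (h : b ≠ c) (i j : Fin l) :
    blk f b i ≠ blk f c j := fun hh => h (congrArg Prod.fst (f.injective hh))

/-- The rotation of one block. -/
def rot (b : Fin m) : Perm (Fin m × Fin l) where
  toFun x := if x.1 = b then (x.1, finRotate l x.2) else x
  invFun x := if x.1 = b then (x.1, (finRotate l).symm x.2) else x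
  left_inv x := by by_cases h : x.1 = b <;> simp [h, Prod.ext_iff, -finRotate_apply]
  right_inv x := by by_cases h : x.1 = b <;> simp only [h, ↓reduceIte, Equiv.apply_symm_apply] <;> exact Prod.ext h.symm rfl

theorem cyc_blk (f : Fin m × Fin l ↪ Fin r) (b : Fin m) :
    cyc (blk f b) = Perm.viaEmbeddingHom f (rot b) := by
  ext x
  congr 1
  rw [Perm.viaEmbeddingHom_apply]
  by_cases hx : ∃ y, f y = x
  · obtain ⟨⟨c, i⟩, rfl⟩ := hx
    rw [Perm.viaEmbedding_apply]
    by_cases hc : c = b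
    · subst hc
      rw [show f (c, i) = blk f c i from rfl, cyc_apply]
      simp [rot]
    · rw [cyc_apply_notMem (blk f b) (fun j hj => hc (congrArg Prod.fst (f.injective hj)).symm)]
      simp [rot, hc]
  · push Not at hx
    rw [cyc_apply_notMem _ (fun i => hx (b, i)), Perm.viaEmbedding_apply_of_notMem _ _ _ (by
      rintro ⟨y, hy⟩; exact hx y hy)]

/-- A tuple of exponents occurs as a joint eigenvalue tuple. -/
def Occ (π : G →* Perm (Fin r)) (ρ : G →* End k V) (ω : k) (f : Fin m × Fin l ↪ Fin r)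
    (t : Fin m → Fin l) : Prop :=
  ∃ v : V, v ≠ 0 ∧ ∀ b, ρ (L π (blk f b)) v = ω ^ (t b : ℕ) • v

namespace Hyp

variable (h : Hyp π ρ)
include h

theorem blk_commute (hl : Odd l) (hl2 : 2 ≤ l) (f : Fin m × Fin l ↪ Fin r) (b c : Fin m) :
    Commute (L π (blk f b)) (L π (blk f c)) := by
  rcases eq_or_ne c b with rfl | hne
  · exact Commute.refl _
  · exact h.L_commute_of_disjoint hl hl2 hl hl2 (blk_disjoint f hne)

omit h in
theorem zpow_eig {g : G} {c : k} (hc : c ≠ 0) {v : V} (hv : ρ g v = c • v) (z : ℤ) :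
    ρ (g ^ z) v = c ^ z • v := by
  obtain ⟨n, rfl | rfl⟩ := z.eq_nat_or_neg
  · rw [zpow_natCast, zpow_natCast]; exact pow_eig hv n
  · rw [zpow_neg, zpow_neg, zpow_natCast, zpow_natCast]
    have h1 := congrArg (ρ (g ^ n)⁻¹) (pow_eig hv n)
    rw [inv_apply, map_smul] at h1
    conv_rhs => rw [h1, smul_smul, inv_mul_cancel₀ (pow_ne_zero _ hc), one_smul]

theorem exists_occ_mem [IsAlgClosed k] (hl : Odd l) (hl2 : 2 ≤ l) {ω : k} (hω : IsPrimitiveRoot ω l)
    (f : Fin m × Fin l ↪ Fin r) {W : Submodule k V} (hW : W ≠ ⊥)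
    (hinv : ∀ b, ∀ w ∈ W, ρ (L π (blk f b)) w ∈ W) :
    ∃ t : Fin m → Fin l, ∃ v ∈ W, v ≠ 0 ∧ ∀ b, ρ (L π (blk f b)) v = ω ^ (t b : ℕ) • v := by
  obtain ⟨v, hvW, hv0, hv⟩ := exists_joint (fun b => L π (blk f b)) (h.blk_commute hl hl2 f) hW hinv
  haveI : NeZero l := ⟨by omega⟩
  choose c hc using hv
  choose t ht htc using fun b => hω.eq_pow_of_pow_eq_one (eig_root (h.toExt.L_pow hl hl2 _) (hc b) hv0)
  exact ⟨fun b => ⟨t b, ht b⟩, v, hvW, hv0, fun b => by rw [htc b]; exact hc b⟩

/-- Distinct tuples are independent. -/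
theorem card_occ_le [NeZero l] {ω : k} (hω : IsPrimitiveRoot ω l)
    (f : Fin m × Fin l ↪ Fin r) (s : Finset (Fin m → Fin l)) (hs : ∀ t ∈ s, Occ π ρ ω f t) :
    s.card ≤ finrank k V := by
  classical
  have hne : ∀ i : ℕ, ω ^ i ≠ 0 := fun i => pow_ne_zero _ (hω.ne_zero (NeZero.ne l))
  let χ : (Fin m → Fin l) → AddChar (Fin m → ℤ) k := fun t =>
    { toFun := fun a => ∏ b, (ω ^ (t b : ℕ)) ^ a b
      map_zero_eq_one' := by simp
      map_add_eq_mul' := fun a a' => by simp [zpow_add₀ (hne _), Finset.prod_mul_distrib] }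
  have hinj : Function.Injective χ := fun t t' htt => funext fun b => by
    have h1 := DFunLike.congr_fun htt (Pi.single b 1)
    simp only [χ, AddChar.coe_mk] at h1
    rw [Finset.prod_eq_single b (fun c _ hc => by simp [hc]) (by simp),
      Finset.prod_eq_single b (fun c _ hc => by simp [hc]) (by simp), Pi.single_eq_same, zpow_one,
      zpow_one] at h1
    exact Fin.ext (hω.pow_inj (t b).2 (t' b).2 h1)
  let T : (Fin m → ℤ) → End k V := fun a =>
    ρ ((List.finRange m).map fun b => L π (blk f b) ^ a b).prod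
  have h1 := LinRep.CharOrbit.card_le_finrank T (s.image χ) fun ψ hψ => by
    obtain ⟨t, ht, rfl⟩ := Finset.mem_image.1 hψ
    obtain ⟨v, hv0, hv⟩ := hs t ht
    refine ⟨v, hv0, fun a => ?_⟩
    have key : ∀ L' : List (Fin m), ρ (L'.map fun b => L π (blk f b) ^ a b).prod v =
        (L'.map fun b => (ω ^ (t b : ℕ)) ^ a b).prod • v := by
      intro L'
      induction L' with
      | nil => simp
      | cons b L' ih =>
        rw [List.map_cons, List.prod_cons, List.map_cons, List.prod_cons, mul_apply', ih, map_smul,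
          zpow_eig (hne _) (hv b) (a b), smul_smul, mul_comm]
    rw [show T a v = _ from key (List.finRange m)]
    simp only [χ, AddChar.coe_mk, Fin.prod_univ_def]
  rwa [Finset.card_image_of_injective _ hinj] at h1

/-- Transport of a tuple by an element normalising the blocks. -/
theorem occ_step (hl : Odd l) (hl2 : 2 ≤ l) {ω : k} (hω : IsPrimitiveRoot ω l)
    (f : Fin m × Fin l ↪ Fin r) (τ : Perm (Fin m × Fin l)) (hτ : Perm.sign τ = 1)
    (σ : Fin m → Fin m) (hσ : Function.Bijective σ) (a a' : Fin m → ℕ) (ha : ∀ b, (a b * a' b) % l = 1)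
    (hrot : ∀ b, τ * rot b * τ⁻¹ = rot (σ b) ^ a b)
    {t : Fin m → Fin l} (ht : Occ π ρ ω f t) (t' : Fin m → Fin l)
    (ht' : ∀ b, (t' (σ b) : ℕ) = (t b : ℕ) * a' b % l) : Occ π ρ ω f t' := by
  classical
  obtain ⟨g, hg⟩ := h.toExt.surj (Perm.viaEmbeddingHom f τ) (by
    rw [Perm.mem_alternatingGroup, Perm.viaEmbeddingHom_apply, Perm.viaEmbedding]
    convert (Perm.sign_extendDomain τ (ofInjective f.1 f.2)).trans hτ)
  obtain ⟨v, hv0, hv⟩ := ht
  refine ⟨ρ g v, fun h0 => hv0 (rho_injective g (h0.trans (map_zero _).symm)), fun c => ?_⟩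
  obtain ⟨b, rfl⟩ := hσ.2 c
  have h1 : g * L π (blk f b) * g⁻¹ = L π (blk f (σ b)) ^ a b := by
    rw [L, h.toExt.lift_conj hl (sign_cyc _ hl) (cyc_pow_card _ hl2), hg]
    refine h.toExt.lift_unique hl ?_ ?_
    · rw [map_pow, h.toExt.map_L hl hl2, cyc_blk, cyc_blk, ← map_pow, ← hrot b, map_mul, map_mul,
        map_inv]
    · rw [pow_right_comm, h.toExt.L_pow hl hl2, one_pow]
  have h2 : ρ (L π (blk f (σ b)) ^ a b) (ρ g v) = ω ^ (t b : ℕ) • ρ g v := by
    rw [← h1, conj_apply, hv b, map_smul]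
  have h3 := pow_eig h2 (a' b)
  rw [← pow_mul, pow_eq_pow_mod (a b * a' b) (h.toExt.L_pow hl hl2 _), ha b, pow_one,
    ← pow_mul, pow_eq_pow_mod _ hω.pow_eq_one, ← ht' b] at h3
  exact h3

end Hyp

/-- The closure of a tuple under a list of moves, by `n` rounds. -/
def orb {α : Type*} [DecidableEq α] (moves : List (α → α)) : ℕ → Finset α → Finset α
  | 0, s => s
  | n + 1, s => orb moves n (moves.foldl (fun acc g => acc ∪ s.image g) s)

theorem orb_induction {α : Type*} [DecidableEq α] (moves : List (α → α)) {P : α → Prop}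
    (hP : ∀ g ∈ moves, ∀ x, P x → P (g x)) :
    ∀ n (s : Finset α), (∀ x ∈ s, P x) → ∀ x ∈ orb moves n s, P x := by
  have hfold : ∀ (L : List (α → α)), (∀ g ∈ L, g ∈ moves) → ∀ (s : Finset α), (∀ x ∈ s, P x) →
      ∀ acc : Finset α, (∀ x ∈ acc, P x) →
      ∀ x ∈ L.foldl (fun acc g => acc ∪ s.image g) acc, P x := by
    intro L
    induction L with
    | nil => intro _ s _ acc hacc; simpa using hacc
    | cons g L ih =>
      intro hL s hs acc hacc
      refine ih (fun g' hg' => hL g' (List.mem_cons_of_mem _ hg')) s hs _ fun x hx => ?_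
      rcases Finset.mem_union.1 hx with hx | hx
      · exact hacc x hx
      · obtain ⟨y, hy, rfl⟩ := Finset.mem_image.1 hx
        exact hP g (hL g List.mem_cons_self) y (hs y hy)
  intro n
  induction n with
  | zero => exact fun s hs => hs
  | succ n ih => exact fun s hs => ih _ (hfold moves (fun g hg => hg) s hs s hs)

namespace Tuples

/-- Moves on pairs of exponents modulo five. -/
def moves5 : List (Fin 5 × Fin 5 → Fin 5 × Fin 5) :=
  [fun t => (t.1 * 3, t.2 * 3), fun t => (t.1 * 4, t.2), fun t => (t.2 * 3, t.1)]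

theorem orbit5 : ∀ t : Fin 5 × Fin 5, t.1 ≠ 0 → t.2 ≠ 0 → 16 ≤ (orb moves5 5 {t}).card := by
  decide +kernel

/-- Moves on triples of exponents modulo three. -/
def moves3 : List (Fin 3 × Fin 3 × Fin 3 → Fin 3 × Fin 3 × Fin 3) :=
  [fun t => (t.1 * 2, t.2.1 * 2, t.2.2), fun t => (t.2.2, t.1, t.2.1),
    fun t => (t.2.1, t.1, t.2.2 * 2)]

/-- The number of non-zero entries. -/
def weight (t : Fin 3 × Fin 3 × Fin 3) : ℕ :=
  (if t.1 = 0 then 0 else 1) + (if t.2.1 = 0 then 0 else 1) + (if t.2.2 = 0 then 0 else 1)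

theorem orbit3 : ∀ t : Fin 3 × Fin 3 × Fin 3,
    (weight t = 1 → 6 ≤ (orb moves3 6 {t}).card) ∧ (weight t = 2 → 12 ≤ (orb moves3 6 {t}).card) ∧
    (weight t = 3 → 8 ≤ (orb moves3 6 {t}).card) := by
  decide +kernel

theorem weight_moves3 : ∀ g ∈ moves3, ∀ t, weight (g t) = weight t := by
  intro g hg
  simp only [moves3, List.mem_cons, List.not_mem_nil, or_false] at hg
  rcases hg with rfl | rfl | rfl <;> decide

end Tuples

end Cfsg.Agent.AltDegree
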